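import Mathlib
import Cfsg.Agent.Ch.GlaubPGroup
import Cfsg.Agent.Ch.Quotient
import Cfsg.Agent.GT.PGroupExtraspecial
import Cfsg.Agent.GT.CoprimeFixed

/-!
# Extending the faithful character of an extraspecial `2`-group: tools

`Ext F S z χ`: `χ` is a character of `F S` extending the faithful irreducible character of `F`.
-/

set_option autoImplicit false
open Cfsg

namespace Cfsg.Agent.Blk.Dade

open Cfsg.Agent.Ch Cfsg.Agent.GT Cfsg.Agent.GT.PG Cfsg.Agent.GT.CopAct Subgroup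
open scoped commutatorElement

variable {G : Type*} [Group G]

/-- `χ` restricts to a character of `L`. -/
def IsCh (L : Subgroup G) (χ : G → ℂ) : Prop := IsCharacter L fun x : L => χ x

theorem IsCh.mono {L L' : Subgroup G} {χ : G → ℂ} (h : IsCh L χ) (hle : L' ≤ L) : IsCh L' χ :=
  IsCharacter.comp h (inclusion hle)

theorem IsCh.conj {L : Subgroup G} {χ : G → ℂ} (h : IsCh L χ) {x y : G} (hx : x ∈ L)
    (hy : y ∈ L) : χ (y * x * y⁻¹) = χ x :=
  (IsCharacter.isClassFunction h).conj_eq ⟨x, hx⟩ ⟨y, hy⟩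

theorem isCh_extendByZero {L : Subgroup G} {θ : L → ℂ} (h : IsCharacter L θ) :
    IsCh L (extendByZero L θ) := by
  simpa [IsCh] using h

theorem mem_zpowers_iff_of_two {z c : G} (hz : orderOf z = 2) :
    c ∈ zpowers z ↔ c = 1 ∨ c = z := by
  classical
  constructor
  · intro h
    have hf : IsOfFinOrder z := orderOf_pos_iff.1 (by omega)
    rw [hf.mem_zpowers_iff_mem_range_orderOf, hz] at h
    simp only [Finset.mem_image, Finset.mem_range] at h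
    obtain ⟨i, hi, rfl⟩ := h
    interval_cases i <;> simp
  · rintro (rfl | rfl)
    · exact one_mem _
    · exact mem_zpowers _

variable [Finite G]

theorem IsCh.neg_mul {L : Subgroup G} {χ : G → ℂ} (h : IsCh L χ) {z : G} (hz : z ∈ L)
    (hneg : χ z = -χ 1) {g : G} (hg : g ∈ L) : χ (z * g) = -χ g := by
  have h' : IsCharacter L fun x : L => χ x := h
  by_cases h0 : χ 1 = 0
  · have e := h'.eq_zero_of_apply_one h0
    have e1 : χ (z * g) = 0 := congrFun e ⟨z * g, mul_mem hz hg⟩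
    have e2 : χ g = 0 := congrFun e ⟨g, hg⟩
    rw [e1, e2, neg_zero]
  have h1 : (⟨z, hz⟩ : L) ∈ charCenter fun x : L => χ x :=
    h'.mem_charCenter_iff_norm.2 (by simp [hneg])
  have h2 : χ 1 * χ (z * g) = χ z * χ g := h'.apply_mul_of_mem_charCenter h1 ⟨g, hg⟩
  rw [hneg] at h2
  exact mul_left_cancel₀ h0 (by linear_combination h2)

theorem IsCh.vanish {F : Subgroup G} {z : G} (hF : ESZ 2 F z) {χ : G → ℂ} (h : IsCh F χ)
    (hneg : χ z = -χ 1) {f : G} (hf : f ∈ F) (hfz : f ∉ zpowers z) : χ f = 0 := by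
  obtain ⟨y, hy, e⟩ := hF.exists_commutator_eq hf hfz
  have h1 := h.neg_mul hF.z_mem hneg (mul_mem (mul_mem hy hf) (inv_mem hy))
  have h2 : z * (y * f * y⁻¹) = f := by rw [← e, commutatorElement_def]; group
  rw [h2, h.conj hf hy] at h1
  linear_combination h1 / 2

theorem IsCh.sum_norm {F : Subgroup G} [Fintype F] {z : G} (hF : ESZ 2 F z) {χ : G → ℂ}
    (h : IsCh F χ) (hneg : χ z = -χ 1) :
    ∑ f : F, χ f * (starRingEnd ℂ) (χ f) = 2 * χ 1 ^ 2 := by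
  classical
  have h' : IsCharacter F fun x : F => χ x := h
  have hc : (starRingEnd ℂ) (χ 1) = χ 1 := h'.conj_apply_one
  rw [Finset.sum_eq_add (1 : F) ⟨z, hF.z_mem⟩ (fun e => hF.z_ne_one (congrArg Subtype.val e).symm)
    (fun c _ hc => by
      rw [h.vanish hF hneg c.2 fun hz => by
        rcases (mem_zpowers_iff_of_two hF.orderOf_z).1 hz with e | e
        · exact hc.1 (Subtype.ext e)
        · exact hc.2 (Subtype.ext e), zero_mul]) (by simp) (by simp)]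
  simp only [OneMemClass.coe_one, hneg, map_neg, hc]
  ring

theorem IsCh.irr_iff {F : Subgroup G} {z : G} (hF : ESZ 2 F z) {χ : G → ℂ}
    (h : IsCh F χ) (hneg : χ z = -χ 1) :
    (IsIrrCharacter F fun x : F => χ x) ↔ 2 * χ 1 ^ 2 = Nat.card F := by
  haveI := Fintype.ofFinite F
  rw [IsCharacter.isIrr_iff_classInner_self h, classInner_def, h.sum_norm hF hneg,
    inv_mul_eq_one₀ (natCard_ne_zero F), eq_comm]

/-- `χ` is a character of `F S` extending the faithful irreducible character of `F`. -/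
structure Ext (F S : Subgroup G) (z : G) (χ : G → ℂ) : Prop where
  ch : IsCh (F ⊔ S) χ
  neg : χ z = -χ 1
  deg : 2 * χ 1 ^ 2 = Nat.card F

theorem Ext.irr {F S : Subgroup G} {z : G} (hF : ESZ 2 F z) {χ : G → ℂ} (h : Ext F S z χ) :
    IsIrrCharacter (F ⊔ S : Subgroup G) fun x : (F ⊔ S : Subgroup G) => χ x :=
  IsIrrCharacter.of_comp (f := inclusion (le_sup_left : F ≤ F ⊔ S)) h.ch
    (((h.ch.mono le_sup_left).irr_iff hF h.neg).2 h.deg)

/-- The fibre product of `F₁ S` and `F₂ S` over `S`. -/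
def fib (F₁ F₂ S : Subgroup G) (h₁ : S ≤ normalizer (F₁ : Set G))
    (h₂ : S ≤ normalizer (F₂ : Set G)) : Subgroup (G × G × G) where
  carrier := {x | x.2.2 ∈ S ∧ x.1 * x.2.2⁻¹ ∈ F₁ ∧ x.2.1 * x.2.2⁻¹ ∈ F₂}
  one_mem' := by simp
  mul_mem' := by
    rintro ⟨a, b, s⟩ ⟨a', b', s'⟩ ⟨hs, ha, hb⟩ ⟨hs', ha', hb'⟩
    refine ⟨mul_mem hs hs', ?_, ?_⟩
    · have := mul_mem ha (conj_mem h₁ hs ha')
      simpa [mul_assoc] using this
    · have := mul_mem hb (conj_mem h₂ hs hb')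
      simpa [mul_assoc] using this
  inv_mem' := by
    rintro ⟨a, b, s⟩ ⟨hs, ha, hb⟩
    refine ⟨inv_mem hs, ?_, ?_⟩
    · have := conj_mem' h₁ hs (inv_mem ha)
      simpa [mul_assoc] using this
    · have := conj_mem' h₂ hs (inv_mem hb)
      simpa [mul_assoc] using this

theorem Ext.prod {F₁ F₂ S : Subgroup G} {z : G} (hz : orderOf z = 2) (hz₁ : z ∈ F₁) (hz₂ : z ∈ F₂)
    (hc : F₁ ≤ centralizer (F₂ : Set G)) (hi : F₁ ⊓ F₂ ≤ zpowers z)
    (h₁ : S ≤ normalizer (F₁ : Set G)) (h₂ : S ≤ normalizer (F₂ : Set G))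
    (hS : (F₁ ⊔ F₂) ⊓ S = ⊥) {χ₁ χ₂ : G → ℂ} (e₁ : Ext F₁ S z χ₁) (e₂ : Ext F₂ S z χ₂) :
    ∃ χ, Ext (F₁ ⊔ F₂) S z χ ∧ ∀ a ∈ F₁, ∀ b ∈ F₂, ∀ s ∈ S,
      χ (a * b * s) = χ₁ (a * s) * χ₂ (b * s) := by
  let P := fib F₁ F₂ S h₁ h₂
  have m₁ : ∀ x : P, x.1.1 ∈ F₁ ⊔ S := fun x => by
    simpa using mul_mem_sup x.2.2.1 x.2.1
  have m₂ : ∀ x : P, x.1.2.1 ∈ F₂ ⊔ S := fun x => by
    simpa using mul_mem_sup x.2.2.2 x.2.1
  let p₁ : P →* (F₁ ⊔ S : Subgroup G) :=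
    ((MonoidHom.fst G (G × G)).comp P.subtype).codRestrict _ m₁
  let p₂ : P →* (F₂ ⊔ S : Subgroup G) :=
    ((MonoidHom.fst G G).comp ((MonoidHom.snd G (G × G)).comp P.subtype)).codRestrict _ m₂
  let φ₀ : P →* G := MonoidHom.mk' (fun x => x.1.1 * x.1.2.2⁻¹ * x.1.2.1) (by
    rintro ⟨⟨a, b, s⟩, hs, ha, hb⟩ ⟨⟨a', b', s'⟩, hs', ha', hb'⟩
    have := hc (conj_mem h₁ hs ha') _ hb
    simp only [Subgroup.coe_mul, Prod.fst_mul, Prod.snd_mul] at this ⊢
    calc a * a' * (s * s')⁻¹ * (b * b')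
        = a * s⁻¹ * (s * (a' * s'⁻¹) * s⁻¹ * (b * s⁻¹)) * s * b' := by group
      _ = _ := by rw [← this]; group)
  have m₀ : ∀ x : P, φ₀ x ∈ (F₁ ⊔ F₂) ⊔ S := fun x => by
    have := mul_mem_sup (mul_mem_sup x.2.2.1 x.2.2.2) x.2.1
    simpa [φ₀, mul_assoc] using this
  let φ : P →* ((F₁ ⊔ F₂) ⊔ S : Subgroup G) := φ₀.codRestrict _ m₀
  have hmem : ∀ a ∈ F₁, ∀ b ∈ F₂, ∀ s ∈ S, (a * s, b * s, s) ∈ P := fun a ha b hb s hs =>
    ⟨hs, by simpa using ha, by simpa using hb⟩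
  have hφ : ∀ a (ha : a ∈ F₁) b (hb : b ∈ F₂) s (hs : s ∈ S),
      (φ ⟨_, hmem a ha b hb s hs⟩ : G) = a * b * s := fun a ha b hb s hs => by
    simp [φ, φ₀, mul_assoc]
  have hn : F₁ ≤ normalizer (F₂ : Set G) := le_normalizer_of_le_centralizer hc
  have hsurj : Function.Surjective φ := by
    rintro ⟨g, hg⟩
    obtain ⟨f, hf, s, hs, rfl⟩ :=
      (mem_sup_iff_of_le_normalizer (CopAct.le_normalizer_sup h₁ h₂)).1 hg
    rw [sup_comm] at hf
    obtain ⟨a, ha, b, hb, rfl⟩ := (mem_sup_iff_of_le_normalizer' hn).1 hf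
    exact ⟨_, Subtype.ext (hφ a ha b hb s hs)⟩
  have hΘ : IsCharacter P ((fun x => χ₁ (p₁ x)) * fun x => χ₂ (p₂ x)) :=
    (IsCharacter.comp e₁.ch p₁).mul (IsCharacter.comp e₂.ch p₂)
  have hker : φ.ker ≤ charKer ((fun x => χ₁ (p₁ x)) * fun x => χ₂ (p₂ x)) := by
    rintro ⟨⟨a, b, s⟩, hs, ha, hb⟩ hx
    rw [hΘ.mem_charKer]
    have h1 : a * s⁻¹ * b = 1 := congrArg Subtype.val hx
    simp only at hs ha hb
    have h2 : s ∈ (F₁ ⊔ F₂) ⊓ S := by
      refine mem_inf.2 ⟨?_, hs⟩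
      have : s = (a * s⁻¹ * (b * s⁻¹))⁻¹ := by rw [← mul_assoc, h1]; simp
      rw [this]
      exact inv_mem (mul_mem_sup ha hb)
    rw [hS, mem_bot] at h2
    subst h2
    simp only [inv_one, mul_one] at ha hb h1
    have h3 : a = b⁻¹ := eq_inv_of_mul_eq_one_left h1
    have h4 : b ∈ zpowers z := hi ⟨by simpa [h3] using ha, hb⟩
    change χ₁ a * χ₂ b = χ₁ 1 * χ₂ 1
    rcases (mem_zpowers_iff_of_two hz).1 h4 with rfl | rfl
    · simp [h3]
    · have : b⁻¹ = b := inv_eq_of_mul_eq_one_right (by rw [← sq, ← hz, pow_orderOf_eq_one])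
      rw [h3, this, e₁.neg, e₂.neg]; ring
  have hval : ∀ a ∈ F₁, ∀ b ∈ F₂, ∀ s ∈ S, extendByZero _
      (deflate φ ((fun x => χ₁ (p₁ x)) * fun x => χ₂ (p₂ x))) (a * b * s) =
        χ₁ (a * s) * χ₂ (b * s) := by
    intro a ha b hb s hs
    rw [← hφ a ha b hb s hs, extendByZero_coe, deflate_apply hker]
    rfl
  refine ⟨_, ⟨isCh_extendByZero (hΘ.deflate hsurj hker), ?_, ?_⟩, hval⟩
  · have a1 := hval z hz₁ 1 (one_mem _) 1 (one_mem _)
    have a2 := hval 1 (one_mem _) 1 (one_mem _) 1 (one_mem _)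
    simp only [mul_one] at a1 a2
    rw [a1, a2, e₁.neg]; ring
  · have a2 := hval 1 (one_mem _) 1 (one_mem _) 1 (one_mem _)
    simp only [mul_one] at a2
    have hcard := PG.card_sup_mul_card_inf hn
    have : F₁ ⊓ F₂ = zpowers z := le_antisymm hi (zpowers_le.2 ⟨hz₁, hz₂⟩)
    rw [this, Nat.card_zpowers, hz] at hcard
    have hcard' := congrArg (Nat.cast : ℕ → ℂ) hcard
    push_cast at hcard'
    rw [← e₁.deg, ← e₂.deg] at hcard'
    rw [a2]
    linear_combination -hcard' / 2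

omit [Finite G] in
/-- Pull back along a homomorphism defined on a subgroup. -/
theorem Ext.comap {G' : Type*} [Group G'] {F S L : Subgroup G} (hL : F ⊔ S ≤ L) (f : L →* G')
    {F' S' : Subgroup G'} {z : G} (hz : z ∈ L) {χ : G' → ℂ} (e : Ext F' S' (f ⟨z, hz⟩) χ)
    (hF : ∀ x : L, (x : G) ∈ F → f x ∈ F') (hS : ∀ x : L, (x : G) ∈ S → f x ∈ S')
    (hc : Nat.card F' = Nat.card F) : Ext F S z (extendByZero L fun x => χ (f x)) := by
  have hm : ∀ x : (F ⊔ S : Subgroup G), (f.comp (inclusion hL)) x ∈ F' ⊔ S' := by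
    intro x
    have : F ⊔ S ≤ (((F' ⊔ S').comap f).map L.subtype) := sup_le
      (fun y hy => ⟨⟨y, hL (mem_sup_left hy)⟩, mem_sup_left (hF _ hy), rfl⟩)
      (fun y hy => ⟨⟨y, hL (mem_sup_right hy)⟩, mem_sup_right (hS _ hy), rfl⟩)
    obtain ⟨y, hy, e⟩ := this x.2
    have : inclusion hL x = y := Subtype.ext e.symm
    rw [MonoidHom.comp_apply, this]
    exact hy
  have h1 : (extendByZero L fun x => χ (f x)) 1 = χ 1 := by
    rw [extendByZero_of_mem _ _ (one_mem _)]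
    exact congrArg χ (map_one f)
  refine ⟨?_, ?_, ?_⟩
  · have := IsCharacter.comp e.ch ((f.comp (inclusion hL)).codRestrict _ hm)
    unfold IsCh
    convert this using 2 with x
    exact extendByZero_of_mem _ _ (hL x.2)
  · rw [h1, extendByZero_of_mem _ _ hz, e.neg]
  · rw [h1, e.deg, hc]

/-- Extension over a cyclic quotient. -/
theorem Ext.extend {F S S₀ : Subgroup G} {z t : G} (hF : ESZ 2 F z)
    (hSF : S ≤ normalizer (F : Set G)) (hS : S ≤ normalizer (S₀ : Set G))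
    (ht : S₀ ⊔ zpowers t = S) {χ : G → ℂ} (e : Ext F S₀ z χ)
    (hinv : ∀ x ∈ F ⊔ S₀, χ (t * x * t⁻¹) = χ x) : ∃ χ', Ext F S z χ' := by
  have h0 : S₀ ≤ S := ht ▸ le_sup_left
  have htS : t ∈ S := ht ▸ mem_sup_right (mem_zpowers t)
  have hle : F ⊔ S₀ ≤ F ⊔ S := sup_le_sup_left h0 _
  have hST : S ≤ normalizer ((F ⊔ S₀ : Subgroup G) : Set G) := CopAct.le_normalizer_sup hSF hS
  have hLT : F ⊔ S ≤ normalizer ((F ⊔ S₀ : Subgroup G) : Set G) :=
    sup_le (le_sup_left.trans le_normalizer) hST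
  haveI := (normal_subgroupOf_iff_le_normalizer hle).2 hLT
  have hL : F ⊔ S = (F ⊔ S₀) ⊔ zpowers t := by rw [sup_assoc, ht]
  haveI : IsCyclic ((F ⊔ S : Subgroup G) ⧸ (F ⊔ S₀).subgroupOf (F ⊔ S)) := by
    refine ⟨⟨((⟨t, mem_sup_right htS⟩ : (F ⊔ S : Subgroup G)) : _ ⧸ _), fun y => ?_⟩⟩
    obtain ⟨⟨y, hy⟩, rfl⟩ := QuotientGroup.mk_surjective y
    have hy' := hy
    rw [hL] at hy'
    obtain ⟨_, ⟨n, rfl⟩, x, hx, rfl⟩ :=
      (mem_sup_iff_of_le_normalizer' (zpowers_le.2 (hST htS))).1 hy'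
    refine ⟨n, ?_⟩
    simp only
    rw [← QuotientGroup.mk_zpow, QuotientGroup.eq]
    simpa [mem_subgroupOf] using hx
  have hI : Glb.Inv (F ⊔ S) fun x : (F ⊔ S₀ : Subgroup G) => χ x := by
    rw [hL]
    exact Glb.Inv.sup le_normalizer (zpowers_le.2 (hST htS))
      (Glb.inv_self (IsCharacter.isClassFunction e.ch))
      (Glb.inv_zpowers (hST htS) fun g g' h => by simp only [h, hinv g g.2])
  obtain ⟨χ', hχ', h⟩ := extends_of_isCyclic (N := (F ⊔ S₀).subgroupOf (F ⊔ S))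
    (isIrrCharacter_subgroupOf hle (e.irr hF))
    (fun g n => hI g g.2 ⟨_, n.2⟩ ⟨_, _⟩ rfl)
  have hv : ∀ x ∈ F ⊔ S₀, extendByZero _ χ' x = χ x := fun x hx => by
    rw [extendByZero_of_mem _ _ (hle hx)]
    exact h ⟨⟨x, hle hx⟩, hx⟩
  refine ⟨_, isCh_extendByZero hχ'.isCharacter, ?_, ?_⟩
  · rw [hv z (mem_sup_left hF.z_mem), hv 1 (one_mem _), e.neg]
  · rw [hv 1 (one_mem _), e.deg]

end Cfsg.Agent.Blk.Dade
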