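import Mathlib
import Cfsg.Agent.Blk.DadeExt
import Cfsg.Agent.Ch.Galois
import Cfsg.Agent.GT.MinNormal
import Cfsg.Agent.GT.CoprimeGen

/-!
# Extending the faithful character of an extraspecial `2`-group: an operator of prime order
-/

set_option autoImplicit false
open Cfsg

namespace Cfsg.Agent.Blk.Dade

open Cfsg.Agent.Ch Cfsg.Agent.GT Cfsg.Agent.GT.PG Cfsg.Agent.GT.CopAct Subgroup
open scoped commutatorElement

variable {G : Type*} [Group G] [Finite G]

theorem exists_conj_coset {F : Subgroup G} {t : G} (ht : ∀ g ∈ F, t * g * t⁻¹ ∈ F)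
    (hcop : (Nat.card F).Coprime (orderOf t)) {g : G} (hg : g ∈ F) :
    ∃ y ∈ F, ∃ c ∈ F, c * t = t * c ∧ g * t = y * (c * t) * y⁻¹ := by
  classical
  haveI := Fintype.ofFinite F
  haveI := Fintype.ofFinite ↥(F ⊓ centralizer (zpowers t : Set G))
  let P : G → Prop := fun x => ∃ y ∈ F, ∃ c ∈ F, c * t = t * c ∧ x = y * (c * t) * y⁻¹
  have hP : ∀ x ∈ F, ∀ y, P y → P (x * y * x⁻¹) := by
    rintro x hx _ ⟨y, hy, c, hc, hct, rfl⟩
    exact ⟨x * y, mul_mem hx hy, c, hc, hct, by group⟩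
  have h := Glb.sum_coset_eq (C := F ⊓ centralizer (zpowers t : Set G)) ht hcop
    (fun c => Glb.mem_inf_centralizer_zpowers) (fun x => ((if P x then 0 else 1 : ℕ) : ℂ))
    (fun x hx y => by
      have : P (x * y * x⁻¹) ↔ P y :=
        ⟨fun h => by simpa [mul_assoc] using hP x⁻¹ (inv_mem hx) _ h, hP x hx y⟩
      simp only [this])
  rw [Finset.sum_eq_zero (s := (Finset.univ : Finset ↥(F ⊓ centralizer (zpowers t : Set G))))
    (fun c _ => by
      have hc := Glb.mem_inf_centralizer_zpowers.1 c.2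
      rw [if_pos ⟨1, one_mem _, c, hc.1, hc.2, by group⟩, Nat.cast_zero]), mul_zero,
    mul_eq_zero, or_iff_right (natCard_ne_zero _), ← Nat.cast_sum, Nat.cast_eq_zero,
    Finset.sum_eq_zero_iff] at h
  by_contra hn
  have := h ⟨g, hg⟩ (Finset.mem_univ _)
  rw [if_neg hn] at this
  exact one_ne_zero this

omit [Finite G] in
theorem commute_z_of_mem_normalizer {F : Subgroup G} {z g : G} (hF : ESZ 2 F z)
    (hg : g ∈ normalizer (F : Set G)) : g * z = z * g := by
  have h1 : g * z * g⁻¹ ∈ zpowers z := by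
    rw [← hF.center_eq]
    refine ⟨(mem_normalizer_iff.1 hg z).1 hF.z_mem, fun x hx => ?_⟩
    have := (hF.commute_z ((mem_normalizer_iff''.1 hg x).1 hx)).eq
    calc x * (g * z * g⁻¹) = g * (g⁻¹ * x * g * z) * g⁻¹ := by group
      _ = _ := by rw [this]; group
  rcases (mem_zpowers_iff_of_two hF.orderOf_z).1 h1 with e | e
  · exact absurd (by simpa using e) hF.z_ne_one
  · rw [← mul_inv_eq_iff_eq_mul, e]

omit [Finite G] in
theorem commute_of_mem_normalizer {F : Subgroup G} {z g c : G} (hF : ESZ 2 F z)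
    (hg : g ∈ normalizer (F : Set G)) (hc : c ∈ zpowers z) : g * c = c * g := by
  rcases (mem_zpowers_iff_of_two hF.orderOf_z).1 hc with rfl | rfl
  · simp
  · exact commute_z_of_mem_normalizer hF hg

theorem coprime_card_of_odd {F : Subgroup G} (hF : IsPGroup 2 F) {n : ℕ} (hn : Odd n) :
    (Nat.card F).Coprime n := by
  obtain ⟨m, hm⟩ := hF.exists_card_eq
  rw [hm]
  exact Nat.Coprime.pow_left _ (Nat.coprime_two_left.2 hn)

theorem exists_conj_of_notMem {F : Subgroup G} {z k : G} (hF : ESZ 2 F z)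
    (hk : k ∈ normalizer (F : Set G)) {q : ℕ} (hq : q.Prime) (hq2 : Odd q) (hko : orderOf k = q)
    (hfix : ∀ c ∈ F, c * k = k * c → c ∈ zpowers z) {x : G} (hx : x ∈ F ⊔ zpowers k)
    (hxF : x ∉ F) :
    ∃ y ∈ F, ∃ c ∈ zpowers z, ∃ t, zpowers t = zpowers k ∧ x = y * (c * t) * y⁻¹ := by
  haveI := Fact.mk hq
  obtain ⟨f, hf, t, ht, rfl⟩ := (mem_sup_iff_of_le_normalizer (zpowers_le.2 hk)).1 hx
  have ht1 : t ≠ 1 := by rintro rfl; exact hxF (by simpa using hf)
  have htk : zpowers t = zpowers k := (esz_zpowers hko).zpowers_eq_of_mem ht ht1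
  have hto : orderOf t = q := by rw [← Nat.card_zpowers, htk, Nat.card_zpowers, hko]
  obtain ⟨y, hy, c, hc, hct, e⟩ := exists_conj_coset (fun _ => conj_mem (zpowers_le.2 hk) ht)
    (hto ▸ coprime_card_of_odd hF.isPGroup hq2) hf
  refine ⟨y, hy, c, hfix c hc ?_, t, htk, e⟩
  obtain ⟨n, rfl⟩ : k ∈ zpowers t := htk ▸ mem_zpowers k
  exact (Commute.zpow_right hct n).eq

/-- The degree of the Glauberman correspondent. -/
theorem deg_top {F S₀ : Subgroup G} {z k : G} (hF : ESZ 2 F z)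
    (hk : k ∈ normalizer (F : Set G)) (hS : S₀ ≤ normalizer (F : Set G))
    (hSk : ∀ s ∈ S₀, s * k = k * s) (htop : F ⊔ zpowers k ⊔ S₀ = ⊤) {q : ℕ} (hq : q.Prime)
    (hq2 : Odd q) (hko : orderOf k = q) (hfix : ∀ c ∈ F, c * k = k * c → c ∈ zpowers z)
    {a : G → ℂ} (ha : IsIrrCharacter G a) (hneg : a z = -a 1) {ε : ℤ} (hε : ε = 1 ∨ ε = -1)
    (hv : ∀ t, zpowers t = zpowers k → a t = ε) : 2 * a 1 ^ 2 = Nat.card F := by
  classical
  haveI := Fintype.ofFinite G
  set N := F ⊔ zpowers k with hN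
  have hSt : ∀ s ∈ S₀, ∀ t ∈ zpowers k, s * t = t * s := by
    rintro s hs _ ⟨n, rfl⟩
    exact (Commute.zpow_right (hSk s hs) n).eq
  have hSN : S₀ ≤ normalizer (N : Set G) := CopAct.le_normalizer_sup hS
    (le_normalizer_of_le_centralizer fun s hs t ht => (hSt s hs t ht).symm)
  haveI : N.Normal := normal_of_top_le_normalizer (htop ▸ sup_le le_normalizer hSN)
  have hFtop : ∀ g : G, g ∈ normalizer (F : Set G) := fun g =>
    (sup_le (sup_le le_normalizer (zpowers_le.2 hk)) hS : F ⊔ zpowers k ⊔ S₀ ≤ _)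
      (htop ▸ mem_top g)
  have hzN : z ∈ N := mem_sup_left hF.z_mem
  obtain ⟨φ, hφ, hin⟩ := exists_irr_under N ha
  have hI : IsCh N (extendByZero N φ) := isCh_extendByZero hφ.isCharacter
  have hφz : φ ⟨z, hzN⟩ = -φ 1 := by
    have h := clifford ha hφ hin
    have h1 := congrFun h ⟨z, hzN⟩
    have h2 := congrFun h 1
    simp only [Pi.smul_apply, Finset.sum_apply, smul_eq_mul, OneMemClass.coe_one] at h1 h2
    rw [Finset.sum_congr rfl (g := fun _ => φ ⟨z, hzN⟩) (fun ψ hψ => by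
      obtain ⟨g, rfl⟩ := mem_conjugates.1 hψ
      exact conjChar_apply_of_eq g φ _ _ (by
        simp [commute_z_of_mem_normalizer hF (hFtop g)]))] at h1
    rw [Finset.sum_congr rfl (g := fun _ => φ 1) (fun ψ hψ => by
      obtain ⟨g, rfl⟩ := mem_conjugates.1 hψ
      simp)] at h2
    simp only [Finset.sum_const, nsmul_eq_mul] at h1 h2
    have h0 : classInner (fun n : N => a n) φ * (conjugates φ).card ≠ 0 := fun e =>
      ha.apply_one_ne_zero (by rw [h2, ← mul_assoc, e, zero_mul])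
    exact mul_left_cancel₀ h0 (by linear_combination h1.symm + hneg - h2)
  have hneg' : extendByZero N φ z = -extendByZero N φ 1 := by
    rw [extendByZero_of_mem _ _ hzN, extendByZero_of_mem _ _ (one_mem _)]
    exact hφz
  have hinv : inertia N φ = ⊤ := by
    rw [eq_top_iff, ← htop]
    refine sup_le (le_inertia hφ.isClassFunction) fun s hs => mem_inertia.2 fun x => ?_
    rw [← extendByZero_of_mem N φ, ← extendByZero_coe N φ x]
    by_cases hxF : (x : G) ∈ F
    · by_cases hxz : (x : G) ∈ zpowers z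
      · rw [commute_of_mem_normalizer hF (hS hs) hxz, mul_inv_cancel_right]
      · rw [(hI.mono le_sup_left).vanish hF hneg' hxF hxz,
          (hI.mono le_sup_left).vanish hF hneg' (conj_mem hS hs hxF)]
        intro h
        have := commute_of_mem_normalizer hF (hS hs) h
        apply hxz
        have e : (x : G) = s * x * s⁻¹ := by
          calc (x : G) = s⁻¹ * (s * x * s⁻¹ * s) := by group
            _ = _ := by rw [← this]; group
        rwa [e]
    · obtain ⟨y, hy, c, hc, t, ht, e⟩ := exists_conj_of_notMem hF hk hq hq2 hko hfix x.2 hxF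
      have ht' : t ∈ zpowers k := ht ▸ mem_zpowers t
      have hct : c * t ∈ N := mul_mem_sup (hF.zpowers_le hc) ht'
      have e2 : s * (y * (c * t) * y⁻¹) * s⁻¹ = s * y * s⁻¹ * (c * t) * (s * y * s⁻¹)⁻¹ := by
        calc s * (y * (c * t) * y⁻¹) * s⁻¹
            = s * y * s⁻¹ * (s * c * t * s⁻¹) * (s * y * s⁻¹)⁻¹ := by group
          _ = _ := by
            rw [commute_of_mem_normalizer hF (hS hs) hc, mul_assoc c, hSt s hs t ht']; group
      rw [e, e2, hI.conj hct (mem_sup_left hy), hI.conj hct (mem_sup_left (conj_mem hS hs hy))]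
  have hres := res_eq_smul_of_invariant ha hφ (inertia_eq_top_iff.1 hinv) hin
  obtain ⟨e, he⟩ := (ha.isCharacter.restrict N).exists_nat_classInner hφ.isCharacter
  rw [he] at hres hin
  have hkN : k ∈ N := mem_sup_right (mem_zpowers k)
  have he1 : e = 1 := by
    have h1 : (ε : ℂ) = e * φ ⟨k, hkN⟩ := by rw [← hv k rfl]; exact congrFun hres ⟨k, hkN⟩
    have he0 : (e : ℂ) ≠ 0 := hin
    obtain ⟨n, hn⟩ := hφ.isCharacter.isGeneralizedCharacter.exists_int_of_rat (g := ⟨k, hkN⟩)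
      (q := ε / e) (by push_cast; rw [h1]; field_simp)
    rw [← hn] at h1
    have h2 : (e : ℤ) ∣ ε := ⟨n, by exact_mod_cast h1⟩
    have h3 : (e : ℤ) ∣ 1 := by rcases hε with rfl | rfl <;> simpa using h2
    exact Nat.dvd_one.1 (by exact_mod_cast h3)
  subst he1
  rw [Nat.cast_one, one_smul] at hres
  have hn := hφ.classInner_self
  rw [← hres, classInner_def, inv_mul_eq_one₀ (natCard_ne_zero N),
    ← Finset.sum_filter_add_sum_filter_not Finset.univ (fun x : N => (x : G) ∈ F)] at hn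
  have haI : IsCh ⊤ a := ha.isCharacter.restrict ⊤
  have s1 : ∑ x : N with x.1 ∈ F, a x * (starRingEnd ℂ) (a x) = 2 * a 1 ^ 2 := by
    rw [← (haI.mono le_top).sum_norm hF hneg]
    exact Finset.sum_bij' (fun x hx => ⟨x, (Finset.mem_filter.1 hx).2⟩)
      (fun x _ => ⟨x, mem_sup_left x.2⟩) (by simp) (by simp) (by simp) (by simp) (by simp)
  have s2 : ∑ x : N with x.1 ∉ F, a x * (starRingEnd ℂ) (a x) =
      ∑ x : N with x.1 ∉ F, (1 : ℂ) := by
    refine Finset.sum_congr rfl fun x hx => ?_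
    obtain ⟨y, hy, c, hc, t, ht, e⟩ :=
      exists_conj_of_notMem hF hk hq hq2 hko hfix x.2 (Finset.mem_filter.1 hx).2
    rw [e, ha.isClassFunction]
    rcases (mem_zpowers_iff_of_two hF.orderOf_z).1 hc with rfl | rfl
    · rw [one_mul, hv t ht]
      rcases hε with rfl | rfl <;> simp
    · rw [haI.neg_mul (mem_top _) hneg (mem_top _), hv t ht]
      rcases hε with rfl | rfl <;> simp
  have s3 : ∑ x : N with x.1 ∈ F, (1 : ℂ) = Nat.card F := by
    rw [Nat.card_eq_fintype_card, ← Finset.card_univ, Finset.card_eq_sum_ones]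
    push_cast
    exact Finset.sum_bij' (fun x hx => ⟨x, (Finset.mem_filter.1 hx).2⟩)
      (fun x _ => ⟨x, mem_sup_left x.2⟩) (by simp) (by simp) (by simp) (by simp) (by simp)
  have s4 := Finset.sum_filter_add_sum_filter_not Finset.univ (fun x : N => (x : G) ∈ F)
    (fun _ => (1 : ℂ))
  rw [s3, Finset.sum_const (s := Finset.univ), Finset.card_univ, ← Nat.card_eq_fintype_card,
    nsmul_eq_mul, mul_one] at s4
  rw [s1, s2] at hn
  linear_combination -s4 - hn

omit [Finite G] in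
theorem mem_map_subgroupOf {G' : Type*} [Group G'] {X L : Subgroup G} {f : L →* G'} {y : G'} :
    y ∈ (X.subgroupOf L).map f ↔ ∃ x : L, x.1 ∈ X ∧ f x = y := Iff.rfl

omit [Finite G] in
theorem esz_map {G' : Type*} [Group G'] {F L : Subgroup G} {z : G} {p : ℕ} (hF : ESZ p F z)
    (hL : F ≤ L) (f : L →* G') (hf : ∀ x : L, x.1 ∈ F → f x = 1 → x = 1) :
    ESZ p ((F.subgroupOf L).map f) (f ⟨z, hL hF.z_mem⟩) := by
  have hz : ∀ x : L, x.1 ∈ zpowers z → f x ∈ zpowers (f ⟨z, hL hF.z_mem⟩) := by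
    rintro x ⟨n, hn⟩
    exact ⟨n, by simp only [← map_zpow]; exact congrArg f (Subtype.ext hn)⟩
  refine ⟨?_, ?_, ?_, le_antisymm ?_ (zpowers_le.2 ⟨⟨_, hF.z_mem, rfl⟩, ?_⟩)⟩
  · refine Eq.trans (orderOf_eq_orderOf_iff.2 fun n => ?_) hF.orderOf_z
    rw [← map_pow]
    exact ⟨fun h => congrArg Subtype.val (hf _ (pow_mem hF.z_mem n) h),
      fun h => by rw [show (⟨z, hL hF.z_mem⟩ : L) ^ n = 1 from Subtype.ext h, map_one]⟩
  · rintro _ ⟨x, hx, rfl⟩ _ ⟨y, hy, rfl⟩
    rw [← map_commutatorElement]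
    exact hz _ (hF.comm_mem x hx y hy)
  · rintro _ ⟨x, hx, rfl⟩
    rw [← map_pow]
    exact hz _ (hF.pow_mem x hx)
  · rintro _ ⟨⟨x, hx, rfl⟩, hc⟩
    refine hz _ (hF.mem_zpowers_of_forall_commute hx fun y hy => ?_)
    have h1 := hc (f ⟨y, hL hy⟩) ⟨_, hy, rfl⟩
    have h2 := hf ⁅(⟨y, hL hy⟩ : L), x⁆ (hF.zpowers_le (hF.comm_mem y hy x hx))
      (by rw [map_commutatorElement, commutatorElement_eq_one_iff_mul_comm, h1])
    exact commutatorElement_eq_one_iff_commute.1 (congrArg Subtype.val h2)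
  · rintro _ ⟨x, hx, rfl⟩
    rw [← map_mul, ← map_mul]
    exact congrArg f (Subtype.ext (hF.commute_z hx).eq)

omit [Finite G] in
theorem esz_subgroupOf {F L : Subgroup G} {z : G} {p : ℕ} (hF : ESZ p F z) (hL : F ≤ L) :
    ESZ p (F.subgroupOf L) ⟨z, hL hF.z_mem⟩ := by
  simpa using esz_map hF hL (MonoidHom.id L) fun _ _ h => h

omit [Finite G] in
theorem le_normalizer_subgroupOf {A X : Subgroup G} (L : Subgroup G)
    (h : A ≤ normalizer (X : Set G)) : A.subgroupOf L ≤ normalizer (X.subgroupOf L : Set L) :=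
  fun a ha => mem_normalizer_iff.2 fun x => mem_normalizer_iff.1 (h ha) x

open Classical in
/-- The sign function of `S`. -/
noncomputable def sgn (S : Subgroup G) (g : G) : ℂ := if g ∈ S then 1 else -1

theorem isIrr_sgn {S C : Subgroup G} {z : G} (hz : orderOf z = 2)
    (hc : z ∈ normalizer (S : Set G)) (hzS : z ∉ S) (hC : C = S ⊔ zpowers z) :
    IsIrrCharacter C fun x => sgn S x := by
  classical
  subst hC
  have hi : (S.subgroupOf (S ⊔ zpowers z)).index = 2 := relIndex_sup_zpowers Nat.prime_two hc hzS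
    (by rw [← hz, pow_orderOf_eq_one]; exact one_mem _)
  let f : ↥(S ⊔ zpowers z) →* ℂˣ := MonoidHom.mk' (fun x => if x.1 ∈ S then 1 else -1) (by
    intro a b
    have := mul_mem_iff_of_index_two hi (a := a) (b := b)
    simp only [mem_subgroupOf] at this
    by_cases ha : a.1 ∈ S <;> by_cases hb : b.1 ∈ S <;> simp_all)
  convert (linIrr f).2 using 2 with x
  simp only [sgn, linIrr_apply, f, MonoidHom.mk'_apply]
  split_ifs <;> simp

theorem ext_zpowers {S : Subgroup G} {z : G} (hz : orderOf z = 2)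
    (hc : z ∈ normalizer (S : Set G)) (hzS : z ∉ S) : Ext (zpowers z) S z (sgn S) :=
  ⟨(isIrr_sgn hz hc hzS (sup_comm _ _)).isCharacter, by simp [sgn, hzS],
    by simp [sgn, Nat.card_zpowers, hz]⟩

theorem ext_cyclic {F S : Subgroup G} {z k : G} (hF : ESZ 2 F z)
    (hk : k ∈ normalizer (F : Set G)) (hS : S ≤ normalizer (F : Set G))
    (hSK : S ≤ normalizer (zpowers k : Set G)) {q : ℕ} (hq : q.Prime)
    (hq2 : Odd q) (hko : orderOf k = q) (hfix : ∀ c ∈ F, c * k = k * c → c ∈ zpowers z)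
    (h2 : IsPGroup 2 S) (hd : F ⊓ S = ⊥) : ∃ χ, Ext F S z χ := by
  classical
  haveI := Fact.mk hq
  set S₀ := S ⊓ centralizer (zpowers k : Set G) with hS₀
  have hS0 : ∀ s, s ∈ S₀ ↔ s ∈ S ∧ s * k = k * s := fun s => Glb.mem_inf_centralizer_zpowers
  have hS0F : S₀ ≤ normalizer (F : Set G) := inf_le_left.trans hS
  have hSS0 : S ≤ normalizer (S₀ : Set G) :=
    CopAct.le_normalizer_inf le_normalizer (CopAct.le_normalizer_centralizer hSK)
  obtain ⟨t, ht⟩ : ∃ t, S₀ ⊔ zpowers t = S := by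
    haveI : IsCyclic (MulAut (zpowers k)) := by
      haveI : IsCyclic (ZMod (Nat.card (zpowers k)))ˣ :=
        ZMod.isCyclic_units_prime (by rwa [Nat.card_zpowers, hko])
      exact isCyclic_of_surjective _ (IsCyclic.mulAutMulEquiv (zpowers k)).symm.surjective
    obtain ⟨t, ht⟩ := exists_ker_sup_zpowers_eq_top (conjHom hSK) inferInstance
    refine ⟨t, ?_⟩
    have := congrArg (Subgroup.map S.subtype) ht
    rwa [Subgroup.map_sup, conjHom_ker, subgroupOf_map_subtype, MonoidHom.map_zpowers,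
      ← MonoidHom.range_eq_map, range_subtype, inf_comm] at this
  set T := F ⊔ S₀ with hT
  set C := S₀ ⊔ zpowers z with hC'
  have hCT : C ≤ T := sup_le le_sup_right (hF.zpowers_le.trans le_sup_left)
  have hzS : z ∉ S₀ := fun h => hF.z_ne_one (mem_bot.1 (hd ▸ mem_inf.2 ⟨hF.z_mem, h.1⟩))
  have hSz : S ≤ centralizer (zpowers z : Set G) := fun s hs c hc =>
    (commute_of_mem_normalizer hF (hS hs) hc).symm
  have hzN : z ∈ normalizer (S₀ : Set G) := centralizer_le_normalizer' _ fun s hs =>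
    commute_z_of_mem_normalizer hF (hS0F hs)
  have hC : ∀ c, c ∈ C ↔ c ∈ T ∧ c * k = k * c := by
    intro c
    constructor
    · intro hc
      refine ⟨hCT hc, ?_⟩
      have : C ≤ centralizer {k} := sup_le (fun s hs => mem_centralizer_singleton_iff.2 ((hS0 s).1 hs).2)
        (zpowers_le.2 (mem_centralizer_singleton_iff.2 (commute_z_of_mem_normalizer hF hk).symm))
      exact mem_centralizer_singleton_iff.1 (this hc)
    · rintro ⟨hc, e⟩
      obtain ⟨s, hs, f, hf, rfl⟩ := (mem_sup_iff_of_le_normalizer' hS0F).1 hc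
      refine mul_mem_sup hs (hfix f hf ?_)
      rw [mul_assoc, ← mul_assoc k, ← ((hS0 s).1 hs).2, mul_assoc] at e
      exact mul_left_cancel e
  have hkT : k ∈ normalizer (T : Set G) := by
    rw [← zpowers_le] at hk ⊢
    exact CopAct.le_normalizer_sup hk (le_normalizer_of_le_centralizer
      (le_centralizer_iff.1 inf_le_right))
  have hT2 : IsPGroup 2 T := hT ▸ sup_comm S₀ F ▸
    isPGroup_sup_of_le_normalizer (h2.to_le inf_le_left) hF.isPGroup hS0F
  have hcop : (Nat.card T).Coprime (orderOf k) := hko ▸ coprime_card_of_odd hT2 hq2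
  have hkq : k ^ q ^ 1 = 1 := by rw [pow_one, ← hko, pow_orderOf_eq_one]
  have H := Glb.corr_cyclic hq hkq hkT hcop hC hCT
  have hβ := isIrr_sgn hF.orderOf_z hzN hzS hC'
  obtain ⟨ψ, hψ, hK, hrel⟩ := H.surj _ hβ
  have hST : S ≤ normalizer (T : Set G) := CopAct.le_normalizer_sup hS hSS0
  have hinv : Glb.Inv S ψ := (H.inv_iff hq hSK hST
    (CopAct.le_normalizer_sup hSS0 (le_normalizer_of_le_centralizer hSz)) hψ hβ hK hrel).2
    fun s hs g g' e => by simp only [sgn, e, ← mem_normalizer_iff.1 (hSS0 hs)]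
  have hzT : z ∈ T := mem_sup_left hF.z_mem
  have key : ψ ⟨z, hzT⟩ = -ψ 1 ∧ 2 * ψ 1 ^ 2 = Nat.card F := by
    set M := T ⊔ zpowers k with hM
    have hTM : T ≤ M := le_sup_left
    have hCM : C ≤ M := hCT.trans hTM
    have hFM : F ≤ M := le_sup_left.trans hTM
    have hkM : k ∈ M := mem_sup_right (mem_zpowers k)
    have hMT : M ≤ normalizer (T : Set G) := sup_le le_normalizer (zpowers_le.2 hkT)
    haveI : (T.subgroupOf M).Normal := (normal_subgroupOf_iff_le_normalizer hTM).2 hMT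
    haveI := Fintype.ofFinite (C.subgroupOf M)
    have hzp : zpowers (⟨k, hkM⟩ : M) = (zpowers k).subgroupOf M := by
      apply map_injective M.subtype_injective
      rw [MonoidHom.map_zpowers, subgroupOf_map_subtype, inf_of_le_left le_sup_right]
      rfl
    have htop : T.subgroupOf M ⊔ zpowers (⟨k, hkM⟩ : M) = ⊤ := by
      rw [hzp, ← subgroupOf_sup hTM le_sup_right, subgroupOf_self]
    have hko' : orderOf (⟨k, hkM⟩ : M) = q := by rw [← hko, ← orderOf_coe]
    have hcop' : (Nat.card (T.subgroupOf M)).Coprime (orderOf (⟨k, hkM⟩ : M)) := by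
      rw [Nat.card_congr (subgroupOfEquivOfLe hTM).toEquiv, hko', ← hko]; exact hcop
    have hC2 : ∀ c : M, c ∈ C.subgroupOf M ↔
        c ∈ T.subgroupOf M ∧ c * ⟨k, hkM⟩ = ⟨k, hkM⟩ * c := fun c => by
      rw [mem_subgroupOf, mem_subgroupOf, hC, Subtype.ext_iff]; rfl
    have hCT' : C.subgroupOf M ≤ T.subgroupOf M := fun _ h => hCT h
    have hψ' := isIrrCharacter_subgroupOf hTM hψ
    have hMψ : Glb.Inv M ψ := Glb.Inv.sup le_normalizer (zpowers_le.2 hkT)
      (Glb.inv_self hψ.isClassFunction) hK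
    obtain ⟨a, ha⟩ := Glb.exists_canExt (Glb.index_dvd_of_sup htop) hcop' hψ'
      (fun s _ g g' e => hMψ s s.2 _ _ (congrArg Subtype.val e))
    obtain ⟨β', ε, hε, hβ'⟩ := ha.exists_sign htop hcop' hC2
    have r1 := ha.rel_of_sign hq (k := 1) (Subtype.ext hkq) hC2 hCT' β'.2 hε hβ'
    have r2 := hrel.congr (f' := inclusion hCT') (subgroupOfEquivOfLe hTM)
      (subgroupOfEquivOfLe hCM).toMonoidHom fun _ => rfl
    have e := r1.unique hq hψ'.isCharacter β'.2 (isIrrCharacter_subgroupOf hCM hβ) r2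
    have hF' := esz_subgroupOf hF hFM
    have hMF : M ≤ normalizer (F : Set G) :=
      sup_le (sup_le le_normalizer hS0F) (zpowers_le.2 hk)
    have v1 : a ⟨k, hkM⟩ = ε := by
      have := hβ' 1
      rw [e] at this
      simpa [sgn] using this
    have v2 : a (⟨z, hFM hF.z_mem⟩ * ⟨k, hkM⟩) = -ε := by
      have := hβ' ⟨⟨z, hFM hF.z_mem⟩, mem_sup_right (mem_zpowers z)⟩
      rw [e] at this
      simpa [sgn, hzS] using this
    have hneg : a ⟨z, hFM hF.z_mem⟩ = -a 1 := by
      have := ha.irrh.apply_mul_of_mem_center (z := ⟨z, hFM hF.z_mem⟩)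
        (mem_center_iff.2 fun g => Subtype.ext (commute_z_of_mem_normalizer hF (hMF g.2)))
        ⟨k, hkM⟩
      rw [v1, v2] at this
      have h0 : (ε : ℂ) ≠ 0 := by rcases hε with rfl | rfl <;> simp
      exact mul_right_cancel₀ h0 (by linear_combination -this)
    have hdeg := deg_top (S₀ := S₀.subgroupOf M) (k := ⟨k, hkM⟩) hF'
      (le_normalizer_subgroupOf M hMF (mem_subgroupOf.2 hkM)) (le_normalizer_subgroupOf M hS0F)
      (fun s hs => Subtype.ext ((hS0 s).1 hs).2)
      (by rw [sup_right_comm, ← subgroupOf_sup hFM (le_sup_right.trans hTM), htop])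
      hq hq2 hko' (fun c hc e => by
        obtain ⟨n, hn⟩ := hfix c hc (congrArg Subtype.val e)
        exact ⟨n, Subtype.ext hn⟩) ha.irrh hneg hε (fun t ht => by
        have := ha.apply_mul_pow htop hcop' hC2 ht 1
        simpa [v1] using this)
    have a1 : a 1 = ψ 1 := ha.ext 1
    have a2 : a ⟨z, hFM hF.z_mem⟩ = ψ ⟨z, hzT⟩ := ha.ext ⟨⟨z, hFM hF.z_mem⟩, hzT⟩
    rw [Nat.card_congr (subgroupOfEquivOfLe hFM).toEquiv, a1] at hdeg
    exact ⟨by rw [← a1, ← a2, hneg], hdeg⟩
  have e0 : Ext F S₀ z (extendByZero T ψ) := by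
    refine ⟨isCh_extendByZero hψ.isCharacter, ?_, ?_⟩
    · rw [extendByZero_of_mem _ _ hzT, extendByZero_of_mem _ _ (one_mem _)]; exact key.1
    · rw [extendByZero_of_mem _ _ (one_mem _)]; exact key.2
  have htS : t ∈ S := ht ▸ mem_sup_right (mem_zpowers t)
  refine e0.extend hF hS hSS0 ht fun x hx => ?_
  rw [extendByZero_of_mem _ _ hx, extendByZero_of_mem _ _ (conj_mem hST htS hx)]
  exact hinv t htS _ _ rfl

end Cfsg.Agent.Blk.Dade
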