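import Mathlib
import Cfsg.Agent.Blk.DadeBase
import Cfsg.Agent.GT.PGroupAlperin
import Cfsg.Agent.S0205

/-!
# Dade's extension theorem for extraspecial `2`-groups: the induction
-/

set_option autoImplicit false
open Cfsg

namespace Cfsg.Agent.Blk.Dade

open Cfsg.Agent.Ch Cfsg.Agent.GT Cfsg.Agent.GT.PG Cfsg.Agent.GT.CopAct Subgroup
open scoped commutatorElement

universe u

local notation:75 H " ^ᶜ " g:76 => Subgroup.map (MulEquiv.toMonoidHom (MulAut.conj g)) H

variable {G : Type*} [Group G]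

/-- The hypotheses of the induction. -/
structure Hyp (F K S : Subgroup G) (z : G) : Prop where
  esz : ESZ 2 F z
  hK : K ≤ normalizer (F : Set G)
  hS : S ≤ normalizer (F : Set G)
  hSK : S ≤ normalizer (K : Set G)
  odd : Odd (Nat.card K)
  two : IsPGroup 2 S
  disj : F ⊓ S = ⊥
  fix : F ⊓ centralizer (K : Set G) ≤ zpowers z

theorem esz_of_split {F A B : Subgroup G} {z : G} {p : ℕ} (hF : ESZ p F z) (hz : z ∈ A)
    (hc : B ≤ centralizer (A : Set G)) (hs : A ⊔ B = F) : ESZ p A z := by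
  have hA : A ≤ F := hs ▸ le_sup_left
  refine ⟨hF.orderOf_z, fun x hx y hy => hF.comm_mem x (hA hx) y (hA hy),
    fun x hx => hF.pow_mem x (hA hx), le_antisymm ?_
      (zpowers_le.2 ⟨hz, fun x hx => (hF.commute_z (hA hx)).eq⟩)⟩
  rintro x ⟨hx, hx'⟩
  rw [← hF.center_eq]
  refine ⟨hA hx, ?_⟩
  rw [← hs, GT.centralizer_sup]
  exact ⟨hx', le_centralizer_iff.1 hc hx⟩

theorem Hyp.sub {F K S A B S' : Subgroup G} {z : G} (h : Hyp F K S z) (hz : z ∈ A)
    (hc : B ≤ centralizer (A : Set G)) (hs : A ⊔ B = F) (hK : K ≤ normalizer (A : Set G))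
    (hS' : S' ≤ S) (hS : S' ≤ normalizer (A : Set G)) : Hyp A K S' z := by
  have hA : A ≤ F := hs ▸ le_sup_left
  exact ⟨esz_of_split h.esz hz hc hs, hK, hS, hS'.trans h.hSK, h.odd, h.two.to_le hS',
    eq_bot_iff.2 ((inf_le_inf hA hS').trans h.disj.le), (inf_le_inf_right _ hA).trans h.fix⟩

theorem inf_le_zpowers {F A B : Subgroup G} {z : G} {p : ℕ} (hF : ESZ p F z)
    (hc : B ≤ centralizer (A : Set G)) (hs : A ⊔ B = F) : A ⊓ B ≤ zpowers z := by
  rintro x ⟨hx, hx'⟩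
  rw [← hF.center_eq]
  refine ⟨(hs ▸ le_sup_left : A ≤ F) hx, ?_⟩
  rw [← hs, GT.centralizer_sup]
  exact ⟨hc hx', le_centralizer_iff.1 hc hx⟩

theorem Ext.conj {F S F' S' : Subgroup G} {z g : G} {χ : G → ℂ} (e : Ext F S z χ)
    (hF : F' ^ᶜ g = F) (hS : S' ^ᶜ g = S) (hz : g * z = z * g) :
    Ext F' S' z fun x => χ (g * x * g⁻¹) := by
  refine ⟨?_, by simp [hz, e.neg], by
    simp only [mul_one, mul_inv_cancel, e.deg]; rw [← hF, card_map_conj]⟩
  have hm : ∀ x : (F' ⊔ S' : Subgroup G),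
      ((MulAut.conj g).toMonoidHom.comp (F' ⊔ S').subtype) x ∈ F ⊔ S := fun x => by
    rw [← hF, ← hS, ← map_conj_sup]
    exact conj_mem_map_conj.2 x.2
  exact IsCharacter.comp e.ch (MonoidHom.codRestrict _ _ hm)

variable [Finite G]

theorem Hyp.cop {F K S : Subgroup G} {z : G} (h : Hyp F K S z) :
    (Nat.card K).Coprime (Nat.card F) := (coprime_card_of_odd h.esz.isPGroup h.odd).symm

theorem Hyp.map {G' : Type*} [Group G'] [Finite G'] {F K S L : Subgroup G} {z : G}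
    (h : Hyp F K S z) (hF : F ≤ L) (hK : K ≤ L) (f : L →* G') (hf : ∀ x : L, f x = 1 → x.1 ∈ K) :
    Hyp ((F.subgroupOf L).map f) ((K.subgroupOf L).map f) ((S.subgroupOf L).map f)
      (f ⟨z, hF h.esz.z_mem⟩) := by
  have h2 : IsPGroup 2 ↥(S ⊔ F) := isPGroup_sup_of_le_normalizer h.two h.esz.isPGroup h.hS
  have hinj : ∀ x : L, x.1 ∈ S ⊔ F → f x = 1 → x = 1 := fun x hx e =>
    Subtype.ext (eq_one_of_coprime (coprime_card_of_odd h2 h.odd) hx (hf x e))
  have hn : ∀ {A X : Subgroup G}, A ≤ normalizer (X : Set G) → (A.subgroupOf L).map f ≤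
      normalizer (((X.subgroupOf L).map f : Subgroup G') : Set G') := fun hA =>
    (map_mono (le_normalizer_subgroupOf L hA)).trans (le_normalizer_map f)
  refine ⟨esz_map h.esz hF f fun x hx => hinj x (mem_sup_right hx), hn h.hK, hn h.hS, hn h.hSK,
    h.odd.of_dvd_nat ?_, (h.two.comap_subtype (K := L)).map f, ?_, ?_⟩
  · rw [← Nat.card_congr (subgroupOfEquivOfLe hK).toEquiv]
    exact card_map_dvd _ f
  · rw [eq_bot_iff]
    rintro _ ⟨⟨x, hx, rfl⟩, s, hs, e⟩
    have h1 := hinj (s⁻¹ * x) (mul_mem_sup (inv_mem hs) hx) (by rw [map_mul, map_inv, e]; simp)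
    have h3 : s = x := by rw [← inv_mul_eq_one, h1]
    have : x.1 ∈ F ⊓ S := ⟨hx, h3 ▸ hs⟩
    rw [h.disj, mem_bot] at this
    rw [mem_bot, show x = 1 from Subtype.ext this, map_one]
  · rintro _ ⟨⟨x, hx, rfl⟩, hc⟩
    obtain ⟨n, hn⟩ := h.fix ⟨hx, fun k hk => by
      have h1 := hc (f ⟨k, hK hk⟩) ⟨_, hk, rfl⟩
      have h3 := hinj ⁅(⟨k, hK hk⟩ : L), x⁆
        (mem_sup_right (mul_mem (conj_mem h.hK hk hx) (inv_mem hx)))
        (by rw [map_commutatorElement, commutatorElement_eq_one_iff_mul_comm, h1])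
      exact commutatorElement_eq_one_iff_mul_comm.1 (congrArg Subtype.val h3)⟩
    exact ⟨n, by simp only [← map_zpow]; exact congrArg f (Subtype.ext hn)⟩

/-- `[F, K₀]` centralizes `C_F(K₀)`. -/
theorem Hyp.commutator_le_centralizer {F K S K₀ : Subgroup G} {z : G} (h : Hyp F K S z)
    (h0 : K₀ ≤ K) :
    F ⊓ centralizer (K₀ : Set G) ≤ centralizer ((⁅F, K₀⁆ ⊔ zpowers z : Subgroup G) : Set G) := by
  rw [GT.centralizer_sup]
  refine le_inf ?_ (inf_le_left.trans (le_centralizer_iff.1 h.esz.zpowers_le_centralizer))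
  rw [← CopAct.commutator_eq_bot_iff]
  apply commutator_commutator_eq_bot_of_rotate
  · rw [CopAct.commutator_eq_bot_iff.2 (inf_le_right : F ⊓ centralizer (K₀ : Set G) ≤ _),
      commutator_bot_left]
  · rw [eq_bot_iff]
    refine (commutator_mono ((commutator_mono inf_le_left le_rfl).trans h.esz.commutator_le)
      le_rfl).trans (le_of_eq (CopAct.commutator_eq_bot_iff.2 fun k hk c hc => ?_))
    exact (commute_of_mem_normalizer h.esz (h.hK (h0 hk)) hc).symm

theorem Hyp.sup_eq {F K S A K₀ : Subgroup G} {z : G} (h : Hyp F K S z) (h0 : K₀ ≤ K) (hA : A ≤ F)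
    (hn : K₀ ≤ normalizer (A : Set G)) : ⁅A, K₀⁆ ⊔ (A ⊓ centralizer (K₀ : Set G)) = A :=
  commutator_sup_centralizer hn (coprime_mono h.cop h0 hA)
    (Or.inr (isSolvable_of_isPGroup (h.esz.isPGroup.to_le hA)))

/-- The part of `F` belonging to a set of hyperplanes of `K`. -/
def part (F K : Subgroup G) (z : G) (q : ℕ) (P : Subgroup G → Prop) : Subgroup G :=
  zpowers z ⊔ ⨆ B : {B : Subgroup G // B ≤ K ∧ B.relIndex K = q ∧ P B},
    F ⊓ centralizer (B.1 : Set G)

omit [Finite G] in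
theorem le_part {F K : Subgroup G} (z : G) {q : ℕ} {P : Subgroup G → Prop} {B : Subgroup G}
    (h1 : B ≤ K) (h2 : B.relIndex K = q) (h3 : P B) :
    F ⊓ centralizer (B : Set G) ≤ part F K z q P :=
  le_sup_of_le_right (le_iSup (fun B : {B : Subgroup G // B ≤ K ∧ B.relIndex K = q ∧ P B} =>
    F ⊓ centralizer (B.1 : Set G)) ⟨B, h1, h2, h3⟩)

omit [Finite G] in
theorem z_mem_part (F K : Subgroup G) (z : G) (q : ℕ) (P : Subgroup G → Prop) :
    z ∈ part F K z q P := mem_sup_left (mem_zpowers z)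

omit [Finite G] in
theorem part_le {F K X : Subgroup G} {z : G} {q : ℕ} {P : Subgroup G → Prop} (hz : z ∈ X)
    (h : ∀ B, B ≤ K → B.relIndex K = q → P B → F ⊓ centralizer (B : Set G) ≤ X) :
    part F K z q P ≤ X :=
  sup_le (zpowers_le.2 hz) (iSup_le fun B => h B.1 B.2.1 B.2.2.1 B.2.2.2)

omit [Finite G] in
theorem part_conj_le {F K : Subgroup G} {z g : G} (hF : ESZ 2 F z) {q : ℕ}
    {P Q : Subgroup G → Prop} (h1 : g ∈ normalizer (F : Set G)) (h2 : g ∈ normalizer (K : Set G))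
    (h : ∀ B, B ≤ K → P B → Q (B ^ᶜ g)) : part F K z q P ^ᶜ g ≤ part F K z q Q := by
  rw [map_conj_le_iff]
  refine part_le ?_ fun B hB hi hP => ?_
  · rw [mem_map_conj_inv, commute_z_of_mem_normalizer hF h1, mul_inv_cancel_right]
    exact z_mem_part _ _ _ _ _
  · rw [← map_conj_le_iff, map_conj_inf, ← centralizer_map_conj, map_conj_eq_of_mem_norm h1]
    refine le_part z (map_conj_le_of_mem_normalizer hB h2) ?_ (h B hB hP)
    rw [← hi, ← relIndex_map_conj B K g, map_conj_eq_of_mem_norm h2]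

theorem Hyp.part_comm {F K S : Subgroup G} {z : G} (h : Hyp F K S z) {q : ℕ} (hq : q.Prime)
    [IsMulCommutative K] {P Q : Subgroup G → Prop} (hPQ : ∀ B, P B → Q B → False) :
    part F K z q P ≤ centralizer (part F K z q Q : Set G) := by
  have hz : ∀ X ≤ F, z ∈ centralizer (X : Set G) := fun X hX x hx => (h.esz.commute_z (hX hx)).eq
  refine part_le (hz _ (part_le h.esz.z_mem fun _ _ _ _ => inf_le_left)) fun B hB hi hP => ?_
  rw [le_centralizer_iff]
  refine part_le (hz _ inf_le_left) fun B' hB' hi' hQ => ?_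
  have hne : B ⊔ B' = K := by
    rcases eq_or_eq_of_relIndex_prime hq (le_sup_left : B ≤ B ⊔ B') (sup_le hB hB') hi with e | e
    · have h1 : B' ≤ B := e ▸ le_sup_right
      rcases eq_or_eq_of_relIndex_prime hq h1 hB hi' with e' | e'
      · exact (hPQ B hP (e' ▸ hQ)).elim
      · rw [e', relIndex_self] at hi
        exact absurd hi.symm hq.ne_one
    · exact e
  have hn : B' ≤ normalizer ((F ⊓ centralizer (B : Set G) : Subgroup G) : Set G) :=
    hB'.trans (CopAct.le_normalizer_inf h.hK (CopAct.le_normalizer_centralizer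
      (le_normalizer_of_le_of_comm hB)))
  refine (h.commutator_le_centralizer hB').trans (GT.centralizer_anti ?_)
  rw [← h.sup_eq hB' inf_le_left hn]
  refine sup_le_sup (commutator_mono inf_le_left le_rfl) (le_trans ?_ h.fix)
  rw [← hne, GT.centralizer_sup, inf_assoc]

theorem main (n : ℕ) : ∀ (G : Type u) [Group G] [Finite G] (F K S : Subgroup G) (z : G),
    Nat.card F + Nat.card K + Nat.card S < n → Hyp F K S z → ∃ χ, Ext F S z χ := by
  induction n with
  | zero => intro G _ _ F K S z h; omega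
  | succ n ih =>
  intro G _ _ F K S z hn h
  have hF := h.esz
  have hzc : ∀ g ∈ normalizer (F : Set G), g * z = z * g := fun g =>
    commute_z_of_mem_normalizer hF
  have hzn : normalizer (F : Set G) ≤ normalizer (zpowers z : Set G) := fun g hg =>
    centralizer_le_normalizer' _ fun c hc => (commute_of_mem_normalizer hF hg hc).symm
  by_cases h0 : F = zpowers z
  · refine ⟨_, h0 ▸ ext_zpowers hF.orderOf_z (centralizer_le_normalizer' _ fun s hs =>
      hzc s (h.hS hs)) fun hs => hF.z_ne_one (mem_bot.1 (h.disj ▸ mem_inf.2 ⟨hF.z_mem, hs⟩))⟩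
  have h0' : ¬ F ≤ zpowers z := fun e => h0 (le_antisymm e hF.zpowers_le)
  by_cases hR : K ⊓ centralizer (F : Set G) = ⊥
  swap
  · set R := K ⊓ centralizer (F : Set G) with hRd
    set L := normalizer (R : Set G)
    have hFL : F ≤ L := GT.le_normalizer_of_le_centralizer (le_centralizer_iff.1 inf_le_right)
    have hKL : K ≤ L :=
      CopAct.le_normalizer_inf le_normalizer (CopAct.le_normalizer_centralizer h.hK)
    have hSL : S ≤ L := CopAct.le_normalizer_inf h.hSK (CopAct.le_normalizer_centralizer h.hS)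
    let f := QuotientGroup.mk' (R.subgroupOf L)
    have hf : ∀ x : L, f x = 1 → x.1 ∈ K := fun x hx =>
      (mem_subgroupOf.1 ((QuotientGroup.eq_one_iff x).1 hx)).1
    have h' := h.map hFL hKL f hf
    have cle : ∀ X ≤ L, Nat.card ((X.subgroupOf L).map f) ≤ Nat.card X := fun X hX => by
      rw [← Nat.card_congr (subgroupOfEquivOfLe hX).toEquiv]
      exact Nat.le_of_dvd Nat.card_pos (card_map_dvd _ f)
    have cm : ∀ X ≤ L, Nat.card ((X.subgroupOf L).map f) * Nat.card ↥(X ⊓ R) = Nat.card X := by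
      intro X hX
      rw [← relIndex_ker, QuotientGroup.ker_mk', relIndex_subgroupOf hX, inf_comm,
        relIndex_mul_card_inf]
    have cF : Nat.card ((F.subgroupOf L).map f) = Nat.card F := by
      have := cm F hFL
      rwa [CopAct.inf_eq_bot_of_coprime (coprime_mono h.cop.symm le_rfl inf_le_left), card_bot,
        mul_one] at this
    have cK : Nat.card ((K.subgroupOf L).map f) < Nat.card K := by
      rw [← cm K hKL, inf_of_le_right inf_le_left]
      exact lt_mul_of_one_lt_right Nat.card_pos ((one_lt_card_iff_ne_bot R).2 hR)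
    obtain ⟨χ, e⟩ := ih _ _ _ _ _ (by have := cle S hSL; omega) h'
    exact ⟨_, e.comap (sup_le hFL hSL) f _ (fun x hx => ⟨x, hx, rfl⟩) (fun x hx => ⟨x, hx, rfl⟩) cF⟩
  have split : ∀ A B : Subgroup G, z ∈ A → z ∈ B → B ≤ centralizer (A : Set G) → A ⊔ B = F →
      K ⊔ S ≤ normalizer (A : Set G) → K ⊔ S ≤ normalizer (B : Set G) → A ≠ F → B ≠ F →
      ∃ χ, Ext F S z χ := by
    intro A B hA hB hc hs nA nB eA eB
    have hc' := le_centralizer_iff.1 hc
    have lA := PG.card_lt_of_lt (lt_of_le_of_ne (hs ▸ le_sup_left : A ≤ F) eA)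
    have lB := PG.card_lt_of_lt (lt_of_le_of_ne (hs ▸ le_sup_right : B ≤ F) eB)
    obtain ⟨χ₁, e₁⟩ := ih _ A K S z (by omega)
      (h.sub hA hc hs (le_sup_left.trans nA) le_rfl (le_sup_right.trans nA))
    obtain ⟨χ₂, e₂⟩ := ih _ B K S z (by omega)
      (h.sub hB hc' (sup_comm A B ▸ hs) (le_sup_left.trans nB) le_rfl (le_sup_right.trans nB))
    obtain ⟨χ, e, -⟩ := Ext.prod hF.orderOf_z hA hB hc' (inf_le_zpowers hF hc hs)
      (le_sup_right.trans nA) (le_sup_right.trans nB) (hs ▸ h.disj) e₁ e₂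
    exact ⟨χ, hs ▸ e⟩
  have hKSF : K ⊔ S ≤ normalizer (F : Set G) := sup_le h.hK h.hS
  have hK0 : K ≠ ⊥ := fun e => h0' (le_trans (by rw [e, GT.centralizer_bot, inf_top_eq]) h.fix)
  obtain ⟨K₀, hmin, hK₀⟩ := exists_isMinInv_le (sup_le le_normalizer h.hSK) hK0
  by_cases hKK : K₀ = K
  swap
  · have hs : (⁅F, K₀⁆ ⊔ zpowers z) ⊔ (F ⊓ centralizer (K₀ : Set G)) = F := by
      rw [sup_right_comm, h.sup_eq hK₀ le_rfl (hK₀.trans h.hK), sup_eq_left]
      exact hF.zpowers_le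
    have hc := h.commutator_le_centralizer hK₀
    by_cases hA : ⁅F, K₀⁆ ⊔ zpowers z = F
    · have lK := PG.card_lt_of_lt (lt_of_le_of_ne hK₀ hKK)
      refine ih _ F K₀ S z (by omega) ⟨hF, hK₀.trans h.hK, h.hS, le_sup_right.trans hmin.1,
        h.odd.of_dvd_nat (card_dvd_of_le hK₀), h.two, h.disj, ?_⟩
      rw [hA] at hc
      exact (le_inf inf_le_left hc).trans hF.center_eq.le
    · refine split _ _ (mem_sup_right (mem_zpowers z))
        (mem_inf.2 ⟨hF.z_mem, mem_centralizer_iff.2 fun k hk => hzc k (h.hK (hK₀ hk))⟩) hc hs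
        (CopAct.le_normalizer_sup (CopAct.le_normalizer_commutator hKSF hmin.1) (hKSF.trans hzn))
        (CopAct.le_normalizer_inf hKSF (CopAct.le_normalizer_centralizer hmin.1)) hA fun e => ?_
      exact hmin.2.1 (eq_bot_iff.2 (hR ▸ le_inf hK₀
        (le_centralizer_iff.1 (e ▸ inf_le_right))))
  subst hKK
  haveI := Cfsg.Agent.S0205.result h.odd
  obtain ⟨q, hq, hel⟩ := hmin.elementary
  haveI := Fact.mk hq
  haveI := hel.1
  have hqK : q ∣ Nat.card K₀ := by
    obtain ⟨m, hm⟩ := (isPGroup_of_forall_pow_eq_one hel.2).exists_card_eq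
    rw [hm]
    refine dvd_pow_self q fun e => hK0 ?_
    rwa [e, pow_zero, card_eq_one] at hm
  have hq2 : Odd q := h.odd.of_dvd_nat hqK
  have hqF : ¬ q ∣ Nat.card F := fun e => hq.ne_one (Nat.eq_one_of_dvd_coprimes h.cop hqK e)
  have hyp : ∀ X : Subgroup G, (∀ B ≤ K₀, B.relIndex K₀ = q → F ⊓ centralizer (B : Set G) ≤ X) →
      F ≤ X := fun X => le_of_hyperplane_centralizer_le hel hK0 h.hK hqF
  obtain ⟨B₀, hB₀, hi₀, hne₀⟩ : ∃ B ≤ K₀, B.relIndex K₀ = q ∧
      ¬ F ⊓ centralizer (B : Set G) ≤ zpowers z := by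
    by_contra hc
    push Not at hc
    exact h0' (hyp _ hc)
  have hKB : ∀ B ≤ K₀, ∀ k ∈ K₀, B ^ᶜ k = B := fun B hB k hk =>
    map_conj_eq_of_mem_norm (le_normalizer_of_le_of_comm hB hk)
  by_cases hSB : S ≤ normalizer (B₀ : Set G)
  · have hB : B₀ = ⊥ := (hmin.2.2 B₀ (sup_le (le_normalizer_of_le_of_comm hB₀) hSB) hB₀).resolve_right
      fun e => hq.ne_one (by rw [← hi₀, e, relIndex_self])
    rw [hB, relIndex_bot_left] at hi₀
    obtain ⟨k, hk⟩ : ∃ k, zpowers k = K₀ := by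
      haveI := isCyclic_of_prime_card hi₀
      exact (Subgroup.isCyclic_iff_exists_zpowers_eq_top K₀).1 this
    subst hk
    exact ext_cyclic hF (zpowers_le.1 h.hK) h.hS h.hSK hq hq2 (by rwa [← Nat.card_zpowers])
      (fun c hc e => h.fix (Glb.mem_inf_centralizer_zpowers.2 ⟨hc, e⟩)) h.two h.disj
  obtain ⟨S₂, t, ht, htS, h1, h2, h3, h4⟩ := exists_relIndex_prime_sup_zpowers h.two
    (lt_of_le_of_ne (inf_le_left : S ⊓ normalizer (B₀ : Set G) ≤ S) fun e => hSB (e ▸ inf_le_right))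
  have hSS : S ≤ normalizer (S₂ : Set G) := le_normalizer_of_relIndex_prime h.two h2 h3
  have ht2 : t * t ∈ S₂ := by rw [← sq]; exact pow_mem_of_relIndex_prime h.two h2 h3 ht
  let P₁ : Subgroup G → Prop := fun B => ∃ s ∈ S₂, B = B₀ ^ᶜ s
  let P₂ : Subgroup G → Prop := fun B => ∃ s ∈ S₂, B = B₀ ^ᶜ (t * s)
  let P₃ : Subgroup G → Prop := fun B => ¬ ∃ s ∈ S, B = B₀ ^ᶜ s
  set F₁ := part F K₀ z q P₁
  set F₂ := part F K₀ z q P₂
  set F₃ := part F K₀ z q P₃
  have hle : ∀ P, part F K₀ z q P ≤ F := fun P => part_le hF.z_mem fun _ _ _ _ => inf_le_left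
  have hKP : ∀ P, K₀ ≤ normalizer (part F K₀ z q P : Set G) := fun P k hk =>
    mem_normalizer_of_map_conj_le (part_conj_le hF (h.hK hk) (le_normalizer hk)
      fun B hB hP => by rwa [hKB B hB k hk])
  have hSP : ∀ P Q : Subgroup G → Prop, ∀ s ∈ S, (∀ B, P B → Q (B ^ᶜ s)) →
      part F K₀ z q P ^ᶜ s ≤ part F K₀ z q Q := fun P Q s hs H =>
    part_conj_le hF (h.hS hs) (h.hSK hs) fun B _ => H B
  have n1 : S₂ ≤ normalizer (F₁ : Set G) := fun s hs =>
    mem_normalizer_of_map_conj_le (hSP _ _ s (h2 hs) (by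
      rintro _ ⟨s', hs', rfl⟩
      exact ⟨s * s', mul_mem hs hs', map_conj_map_conj _ _ _⟩))
  have n2 : S₂ ≤ normalizer (F₂ : Set G) := fun s hs =>
    mem_normalizer_of_map_conj_le (hSP _ _ s (h2 hs) (by
      rintro _ ⟨s', hs', rfl⟩
      exact ⟨t⁻¹ * s * t * s', mul_mem (conj_mem' hSS ht hs) hs', by
        rw [map_conj_map_conj]; congr 2; group⟩))
  have c12 : F₁ ^ᶜ t ≤ F₂ := hSP _ _ t ht (by
      rintro _ ⟨s', hs', rfl⟩
      exact ⟨s', hs', map_conj_map_conj _ _ _⟩)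
  have c21 : F₂ ^ᶜ t ≤ F₁ := hSP _ _ t ht (by
      rintro _ ⟨s', hs', rfl⟩
      exact ⟨t * t * s', mul_mem ht2 hs', by rw [map_conj_map_conj, mul_assoc]⟩)
  have e21 : F₂ ^ᶜ t = F₁ := eq_of_le_of_card_le c21 (by
    rw [card_map_conj, ← card_map_conj F₁ t]; exact card_le_of_le c12)
  have n3 : S ≤ normalizer (F₃ : Set G) := fun s hs =>
    mem_normalizer_of_map_conj_le (hSP _ _ s hs (by
      rintro B hB ⟨s', hs', e⟩
      exact hB ⟨s⁻¹ * s', mul_mem (inv_mem hs) hs', by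
        rw [← map_conj_map_conj, ← e, map_conj_inv_map_conj]⟩))
  have n12 : S ≤ normalizer ((F₁ ⊔ F₂ : Subgroup G) : Set G) := by
    rw [← h4]
    refine sup_le (CopAct.le_normalizer_sup n1 n2) (zpowers_le.2 (mem_normalizer_of_map_conj_le ?_))
    rw [map_conj_sup, sup_comm F₁]
    exact sup_le_sup c12 c21
  have hc : F₂ ≤ centralizer (F₁ : Set G) := h.part_comm hq (by
    rintro _ ⟨s, hs, rfl⟩ ⟨s', hs', e⟩
    have h5 := h1 (mem_inf.2 ⟨mul_mem (inv_mem (h2 hs')) (mul_mem ht (h2 hs)),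
      map_conj_eq_map_conj_iff.1 e⟩)
    exact htS (by simpa [mul_assoc] using mul_mem (mul_mem hs' h5) (inv_mem hs)))
  have hc3 : F₃ ≤ centralizer ((F₁ ⊔ F₂ : Subgroup G) : Set G) := by
    rw [GT.centralizer_sup]
    exact le_inf (h.part_comm hq fun B hB ⟨s, hs, e⟩ => hB ⟨s, h2 hs, e⟩)
      (h.part_comm hq fun B hB ⟨s, hs, e⟩ => hB ⟨_, mul_mem ht (h2 hs), e⟩)
  have hs3 : (F₁ ⊔ F₂) ⊔ F₃ = F := by
    refine le_antisymm (sup_le (sup_le (hle _) (hle _)) (hle _)) (hyp _ fun B hB hi => ?_)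
    by_cases hP : P₃ B
    · exact le_sup_of_le_right (le_part z hB hi hP)
    obtain ⟨s, hs, e⟩ := not_not.1 hP
    by_cases hs' : s ∈ S₂
    · exact le_sup_of_le_left (le_sup_of_le_left (le_part z hB hi ⟨s, hs', e⟩))
    · refine le_sup_of_le_left (le_sup_of_le_right (le_part z hB hi ⟨t⁻¹ * s, ?_, by simpa using e⟩))
      have := (mul_mem_iff_of_index_two (H := S₂.subgroupOf S) h3 (a := ⟨t, ht⟩⁻¹)
        (b := ⟨s, hs⟩)).2 (by simp [mem_subgroupOf, htS, hs'])
      exact this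
  by_cases hA : F₁ ⊔ F₂ = F
  swap
  · refine split _ _ (mem_sup_left (z_mem_part _ _ _ _ _)) (z_mem_part _ _ _ _ _) hc3 hs3
      (sup_le (CopAct.le_normalizer_sup (hKP _) (hKP _)) n12) (sup_le (hKP _) n3) hA fun e => ?_
    rw [show F₃ = F from e, le_centralizer_iff] at hc3
    refine hne₀ (le_trans (le_inf inf_le_left ?_) hF.center_eq.le)
    exact (le_part z hB₀ hi₀ ⟨1, one_mem _, (map_conj_one _).symm⟩).trans (le_sup_left.trans hc3)
  have lS := PG.card_lt_of_lt (lt_of_le_of_ne h2 fun e => htS (e ▸ ht))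
  have lF : Nat.card F₁ ≤ Nat.card F := card_le_of_le (hle P₁)
  obtain ⟨χ₁, e₁⟩ := ih _ F₁ K₀ S₂ z (by omega)
    (h.sub (z_mem_part _ _ _ _ _) hc hA (hKP _) h2 n1)
  have e₂ := e₁.conj e21 (map_conj_eq_of_mem_norm (hSS ht)) (hzc t (h.hS ht))
  obtain ⟨χ, e, hv⟩ := Ext.prod hF.orderOf_z (z_mem_part _ _ _ _ _) (z_mem_part _ _ _ _ _)
    (le_centralizer_iff.1 hc) (inf_le_zpowers hF hc hA) n1 n2
    (eq_bot_iff.2 ((inf_le_inf hA.le h2).trans h.disj.le)) e₁ e₂
  rw [hA] at e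
  refine e.extend hF h.hS hSS h4 fun x hx => ?_
  obtain ⟨f, hf, s, hs, rfl⟩ := (mem_sup_iff_of_le_normalizer (h2.trans h.hS)).1 hx
  rw [← hA] at hf
  obtain ⟨a, ha, b, hb, rfl⟩ :=
    (mem_sup_iff_of_le_normalizer (GT.le_normalizer_of_le_centralizer hc)).1 hf
  have ma : t * a * t⁻¹ ∈ F₂ := c12 (conj_mem_map_conj.2 ha)
  have mb : t * b * t⁻¹ ∈ F₁ := c21 (conj_mem_map_conj.2 hb)
  have e3 : t * (a * b * s) * t⁻¹ = t * b * t⁻¹ * (t * a * t⁻¹) * (t * s * t⁻¹) := by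
    rw [hc hb a ha]; group
  have e4 := e₁.ch.conj (mul_mem_sup ha hs) (mem_sup_right ht2)
  rw [e3, hv _ mb _ ma _ (conj_mem hSS ht hs), hv a ha b hb s hs, ← e4, mul_comm]
  congr 2 <;> group

end Cfsg.Agent.Blk.Dade
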