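import Mathlib
import Cfsg.Agent.Blk.Fong

/-!
# Sets of characters whose idempotent is supported on `p`-regular elements
-/

set_option autoImplicit false
set_option linter.unusedSectionVars false
set_option linter.style.haveILetI false

namespace Cfsg.Agent.Blk.Om

open Cfsg.Agent.Ch Cfsg.Agent.GT Cfsg.Agent.Blk.Mod ComplexConjugate Function
open scoped Pointwise

universe u

variable {G : Type u} [Group G] [Finite G] {p : ℕ}

/-- Two `p`-regular elements in one coset of a normal `p`-subgroup `Q` are `Q`-conjugate. -/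
theorem exists_conj_eq_of_regular [Fact p.Prime] {Q : Subgroup G} [hn : Q.Normal]
    (hQ : IsPGroup p Q) {x u : G} (hu : u ∈ Q) (hx : ¬ p ∣ orderOf x)
    (hy : ¬ p ∣ orderOf (u * x)) : ∃ a ∈ Q, a * x * a⁻¹ = u * x := by
  have hp : p.Prime := Fact.out
  obtain ⟨k, hk⟩ := IsPGroup.iff_card.1 hQ
  have hc : ∀ y : G, ¬ p ∣ orderOf y → (Nat.card Q).Coprime (Nat.card (Subgroup.zpowers y)) :=
    fun y hy => by
      rw [hk, Nat.card_zpowers]
      exact Nat.Coprime.pow_left _ ((Nat.Prime.coprime_iff_not_dvd hp).2 hy)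
  have hs : Q ⊔ Subgroup.zpowers x = Q ⊔ Subgroup.zpowers (u * x) := by
    refine le_antisymm (sup_le le_sup_left ?_) (sup_le le_sup_left ?_)
    · rw [Subgroup.zpowers_le]
      have : x = u⁻¹ * (u * x) := by group
      rw [this]
      exact Subgroup.mul_mem_sup (inv_mem hu) (by rw [← this]; exact Subgroup.mem_zpowers _)
    · rw [Subgroup.zpowers_le]
      exact Subgroup.mul_mem_sup hu (Subgroup.mem_zpowers _)
  obtain ⟨a, ha, h⟩ := conj_of_coprime_sup_eq_of_normal Q _ _ (hc x hx) (hc _ hy) hs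
    (Or.inr inferInstance)
  refine ⟨a, ha, ?_⟩
  have h1 : a * x * a⁻¹ ∈ Subgroup.zpowers (u * x) := by
    rw [← h]
    exact Subgroup.smul_mem_pointwise_smul _ _ _ (Subgroup.mem_zpowers x)
  have h2 : a * x * a⁻¹ * (u * x)⁻¹ ∈ Q ⊓ Subgroup.zpowers (u * x) := by
    refine Subgroup.mem_inf.2 ⟨?_, mul_mem h1 (inv_mem (Subgroup.mem_zpowers _))⟩
    have : a * x * a⁻¹ * (u * x)⁻¹ = a * (x * a⁻¹ * x⁻¹) * u⁻¹ := by group
    rw [this]
    exact mul_mem (mul_mem ha (hn.conj_mem _ (inv_mem ha) x)) (inv_mem hu)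
  rw [Subgroup.inf_eq_bot_of_coprime (hc _ hy), Subgroup.mem_bot] at h2
  exact mul_inv_eq_one.1 h2

theorem blockCoeff_inv (U : Set (IrrCharacter G)) (g : G) :
    blockCoeff U g⁻¹ = conj (blockCoeff U g) := by
  classical
  rw [blockCoeff_eq_sum, blockCoeff_eq_sum, map_mul, map_sum, map_inv₀, map_natCast]
  congr 1
  refine Finset.sum_congr rfl fun χ _ => ?_
  split_ifs
  · rw [map_mul, χ.isCharacter.conj_apply_one, χ.isCharacter.apply_inv]
  · rw [map_zero]

theorem sum_blockCoeff_mul_blockCoeff [Fintype G] (U : Set (IrrCharacter G)) (g : G) :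
    ∑ h, blockCoeff U h * blockCoeff U (h⁻¹ * g) = blockCoeff U g := by
  have := congrArg (fun x => x.coeff g) (setIdem_mul_self U)
  simpa only [coeff_mul_sum, coeff_setIdem] using this

theorem blockCoeff_eq_finsum (U : Set (IrrCharacter G)) (g : G) : blockCoeff U g =
    (Nat.card G : ℂ)⁻¹ * ∑ᶠ χ ∈ U, (χ : G → ℂ) 1 * (χ : G → ℂ) g⁻¹ := by
  classical
  rw [blockCoeff_eq_sum, finsum_mem_irr_eq_sum]
  simp only [IsCharacter.apply_inv (IrrCharacter.isCharacter _)]

theorem blockCoeff_eq_zero_iff (U : Set (IrrCharacter G)) (g : G) : blockCoeff U g = 0 ↔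
    ∑ᶠ χ ∈ U, (χ : G → ℂ) 1 * (χ : G → ℂ) g⁻¹ = 0 := by
  rw [blockCoeff_eq_finsum, mul_eq_zero, or_iff_right]
  exact inv_ne_zero (Nat.cast_ne_zero.2 Nat.card_pos.ne')

/-- A central idempotent of `ℂ G` supported on `p`-regular elements is supported on the
centralizer of every normal `p`-subgroup. -/
theorem mem_centralizer_of_blockCoeff_ne_zero [Fact p.Prime] {U : Set (IrrCharacter G)}
    (hU : ∀ g, p ∣ orderOf g → blockCoeff U g = 0) {Q : Subgroup G} [hn : Q.Normal]
    (hQ : IsPGroup p Q) {x : G} (hx : blockCoeff U x ≠ 0) :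
    x ∈ Subgroup.centralizer (Q : Set G) := by
  classical
  haveI := Fintype.ofFinite G
  haveI := Fintype.ofFinite Q
  let m : G → ℕ := fun h =>
    ((Finset.univ.erase (1 : Q)).filter fun u : Q => blockCoeff U (u * h) ≠ 0).card
  have h1 : ∀ h, blockCoeff U h * conj (∑ u ∈ Finset.univ.erase (1 : Q), blockCoeff U (u * h)) =
      ((m h * Complex.normSq (blockCoeff U h) : ℝ) : ℂ) := by
    intro h
    by_cases h0 : blockCoeff U h = 0
    · simp [h0]
    rw [← Finset.sum_filter_ne_zero, Finset.sum_congr rfl (g := fun _ => blockCoeff U h),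
      Finset.sum_const, nsmul_eq_mul, map_mul, map_natCast, mul_left_comm, Complex.mul_conj]
    · push_cast; rfl
    · intro u hu
      obtain ⟨a, -, ha⟩ := exists_conj_eq_of_regular hQ u.2 (fun hd => h0 (hU _ hd))
        (fun hd => (Finset.mem_filter.1 hu).2 (hU _ hd))
      rw [← ha]
      exact (isClassFunction_blockCoeff U).conj_eq h a
  have h2 : ∑ h, blockCoeff U h * conj (∑ u ∈ Finset.univ.erase (1 : Q), blockCoeff U (u * h)) =
      0 := by
    simp only [map_sum, Finset.mul_sum, ← blockCoeff_inv, mul_inv_rev]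
    rw [Finset.sum_comm]
    refine Finset.sum_eq_zero fun u hu => ?_
    rw [sum_blockCoeff_mul_blockCoeff]
    refine hU _ ?_
    rw [orderOf_inv, Subgroup.orderOf_coe]
    exact hQ.dvd_orderOf (Finset.ne_of_mem_erase hu)
  simp only [h1] at h2
  rw [← Complex.ofReal_sum, Complex.ofReal_eq_zero, Finset.sum_eq_zero_iff_of_nonneg
    fun h _ => mul_nonneg (Nat.cast_nonneg _) (Complex.normSq_nonneg _)] at h2
  have h3 := (mul_eq_zero.1 (h2 x (Finset.mem_univ x))).resolve_right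
    (fun h => hx (Complex.normSq_eq_zero.1 h))
  rw [Nat.cast_eq_zero, Finset.card_eq_zero, Finset.filter_eq_empty_iff] at h3
  intro u hu
  have h4 : u * x * u⁻¹ * x⁻¹ ∈ Q := by
    rw [mul_assoc, mul_assoc, ← mul_assoc x]
    exact mul_mem hu (hn.conj_mem _ (inv_mem hu) x)
  by_contra hne
  refine h3 (x := ⟨_, h4⟩) (Finset.mem_erase.2 ⟨fun h => hne ?_, Finset.mem_univ _⟩) ?_
  · have := congrArg Subtype.val h
    simp only [Subgroup.coe_one] at this
    rw [mul_inv_eq_one, mul_inv_eq_iff_eq_mul] at this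
    exact this
  · simp only [inv_mul_cancel_right]
    rwa [(isClassFunction_blockCoeff U).conj_eq]

variable {N : Subgroup G} [hN : N.Normal]

theorem dvd_orderOf_mk_iff (hp : p.Prime) (hNp : ¬ p ∣ Nat.card N) (g : G) :
    p ∣ orderOf (g : G ⧸ N) ↔ p ∣ orderOf g := by
  refine ⟨fun h => h.trans (orderOf_map_dvd (QuotientGroup.mk' N) g), fun h => ?_⟩
  have h1 : g ^ orderOf (g : G ⧸ N) ∈ N := by
    rw [← QuotientGroup.eq_one_iff, QuotientGroup.mk_pow, pow_orderOf_eq_one]
  have h2 : g ^ (orderOf (g : G ⧸ N) * Nat.card N) = 1 := by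
    rw [pow_mul]
    exact congrArg Subtype.val (pow_card_eq_one' (x := (⟨_, h1⟩ : N)))
  exact ((Nat.Prime.dvd_mul hp).1 (h.trans (orderOf_dvd_of_pow_eq_one h2))).resolve_right hNp

theorem coeff_mul_eq_zero_of_dvd {R : Type*} [CommRing R] (hp : p.Prime) (hNp : ¬ p ∣ Nat.card N)
    {x y : MonoidAlgebra R G} (hx : ∀ g, p ∣ orderOf g → x.coeff g = 0)
    (hy : ∀ g, g ∉ N → y.coeff g = 0) {g : G} (hg : p ∣ orderOf g) : (x * y).coeff g = 0 := by
  haveI := Fintype.ofFinite G
  rw [coeff_mul_sum']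
  refine Finset.sum_eq_zero fun h _ => ?_
  by_cases hh : h ∈ N
  · rw [hx, zero_mul]
    rwa [← dvd_orderOf_mk_iff hp hNp, QuotientGroup.mk_mul_of_mem _ (inv_mem hh),
      dvd_orderOf_mk_iff hp hNp]
  · rw [hy h hh, mul_zero]

/-- A character triple cover whose kernel is killed by `θ(1) o(θ)`. -/
theorem exists_tripleCover_card_dvd {θ : N → ℂ} (hθ : IsIrrCharacter N θ)
    (hinv : ∀ (g : G) (n : N), θ ⟨g * n * g⁻¹, hN.conj_mem n n.2 g⟩ = θ n) :
    ∃ T : TripleCover N θ, Nat.card T.π.ker ∣ charDegree θ * detOrder θ := by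
  have hm : charDegree θ * detOrder θ ≠ 0 :=
    mul_ne_zero hθ.charDegree_pos.ne' hθ.isCharacter.detOrder_pos.ne'
  obtain ⟨d, ρ, hρ, rfl⟩ := hθ
  have := nontrivial_of_isIrreducible ρ
  have hs := tripProj_surjective ρ hinv
  obtain ⟨r, hr1, hr2⟩ := tripPow_detOrder (G := G) ρ
  generalize charDegree ρ.character * detOrder ρ.character = m at hm hr1
  let π : r.ker →* G := (tripProj ρ).comp r.ker.subtype
  have hk : ∀ z : π.ker, ∃ c : ℂˣ, tripScalar ρ c = (z : r.ker) := fun z => by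
    have : ((z : r.ker) : Trip ρ) ∈ (tripScalar ρ).range := by
      rw [range_tripScalar]; exact z.2
    exact this
  choose c hc using hk
  let lam : π.ker →* ℂˣ := MonoidHom.mk' c fun a b => tripScalar_injective ρ (by
    rw [map_mul, hc, hc, hc]; rfl)
  have hlam : Injective lam := fun a b h => Subtype.ext (Subtype.ext (by
    rw [← hc, ← hc]; exact congrArg _ h))
  have : NeZero m := ⟨hm⟩
  have hmem : ∀ z, lam z ∈ rootsOfUnity m ℂ := fun z => by
    rw [mem_rootsOfUnity]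
    have h1 := hr1 (c z)
    rw [hc, (z : r.ker).2, zpow_natCast] at h1
    exact h1.symm
  have hlam' : Injective (lam.codRestrict _ hmem) := fun a b h => hlam (congrArg Subtype.val h)
  have hfin : Finite π.ker := Finite.of_injective _ hlam'
  have hΓ : Finite r.ker := finite_of_finite_ker π
  refine ⟨⟨r.ker, π, (tripSec ρ).codRestrict _ hr2,
    Representation.character ((tripRep ρ).comp r.ker.subtype), lam, fun g => ?_, fun z hz => ?_,
    fun _ => rfl, fun t n => Subtype.ext (trip_conj_sec ρ t n), isCharacter_character _,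
    fun _ => rfl, hlam, fun z t => ?_⟩, ?_⟩
  · obtain ⟨t, rfl⟩ := hs g
    obtain ⟨a, ha⟩ := units_pow_surjective ℂ m hm (r t)⁻¹
    refine ⟨⟨tripScalar ρ a * t, ?_⟩, ?_⟩
    · rw [MonoidHom.mem_ker, map_mul, hr1, zpow_natCast]
      simp only at ha
      rw [ha, inv_mul_cancel]
    · simp [π, tripProj_scalar]
  · rw [Subgroup.mem_center_iff]
    intro t
    exact Subtype.ext ((Subgroup.mem_center_iff.1 (ker_tripProj_le_center ρ hz)) t)
  · simp only [Representation.character, MonoidHom.comp_apply, map_mul, Subgroup.coe_subtype]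
    rw [← hc, tripRep_scalar]
    simp [lam]
  · have h1 := Subgroup.card_dvd_of_injective _ hlam'
    rwa [Complex.card_rootsOfUnity] at h1

/-- The `p`-core maps onto the `p`-core modulo a central kernel. -/
theorem pCore_le_map_of_ker_le_center [Fact p.Prime] {H : Type*} [Group H] {f : G →* H}
    (hf : Surjective f) (hk : f.ker ≤ Subgroup.center G) : pCore p H ≤ (pCore p G).map f := by
  haveI := Finite.of_surjective f hf
  let K := (pCore p H).comap f
  let φ : K →* pCore p H := (f.comp K.subtype).codRestrict _ fun x => x.2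
  have hφ : Surjective φ := fun y => by
    obtain ⟨x, hx⟩ := hf y
    exact ⟨⟨x, by change f x ∈ pCore p H; rw [hx]; exact y.2⟩, Subtype.ext hx⟩
  haveI := (isPGroup_pCore (G := H) p).isNilpotent
  haveI : Group.IsNilpotent K := isNilpotent_of_ker_le_center φ fun x hx => by
    rw [Subgroup.mem_center_iff]
    intro y
    exact Subtype.ext (Subgroup.mem_center_iff.1 (hk (congrArg Subtype.val hx)) y)
  obtain ⟨P⟩ : Nonempty (Sylow p K) := inferInstance
  haveI : (P : Subgroup K).Normal := inferInstance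
  haveI : (P : Subgroup K).Characteristic := Sylow.characteristic_of_normal P inferInstance
  have h1 : (P : Subgroup K).map K.subtype ≤ pCore p G := le_pCore (P.isPGroup'.map _)
  have h2 : (⊤ : Subgroup (pCore p H)) ≤ P.mapSurjective hφ :=
    ((isPGroup_pCore (G := H) p).to_subgroup ⊤).le_sylow_of_normal _
  intro y hy
  obtain ⟨x, hx, hxy⟩ := h2 (Subgroup.mem_top ⟨y, hy⟩)
  exact ⟨x, h1 ⟨x, hx, rfl⟩, congrArg Subtype.val hxy⟩

theorem mem_of_over_of_invariant [Fact p.Prime] (hG : IsPConstrained p G)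
    (hNdef : N = pPrimeCore p G) {θ : N → ℂ} (hθ : IsIrrCharacter N θ) (hinv : inertia N θ = ⊤)
    {U : Set (IrrCharacter G)} (hU : ∀ g, p ∣ orderOf g → blockCoeff U g = 0)
    (hUθ : ∀ χ ∈ U, Over N.subtype (χ : G → ℂ) θ) {χ ψ : IrrCharacter G} (hχ : χ ∈ U)
    (hψ : Over N.subtype (ψ : G → ℂ) θ) : ψ ∈ U := by
  classical
  have hp : p.Prime := Fact.out
  subst hNdef
  haveI := Fintype.ofFinite (pPrimeCore p G)
  have hNp : ¬ p ∣ Nat.card (pPrimeCore p G) := not_dvd_card_pPrimeCore hp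
  obtain ⟨T, hT⟩ := exists_tripleCover_card_dvd hθ
    fun g => mem_inertia.1 (hinv ▸ Subgroup.mem_top g)
  have hZ : ¬ p ∣ Nat.card T.π.ker := fun hd => by
    rcases (Nat.Prime.dvd_mul hp).1 (hd.trans hT) with hd | hd
    · exact hNp (hd.trans hθ.charDegree_dvd_card)
    · exact hNp (hd.trans hθ.isCharacter.detOrder_dvd_card)
  have hs : ¬ p ∣ Nat.card T.s.range := by
    rwa [← Nat.card_congr (MonoidHom.ofInjective T.s_injective).toEquiv]
  have hex : ∀ χ : IrrCharacter G, ∃ β : IrrCharacter (T.Γ ⧸ T.s.range),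
      Over (pPrimeCore p G).subtype χ.1 θ → (∀ t : T.Γ, χ.1 (T.π t) = β.1 t * T.ext t) ∧
        ∀ (z : T.π.ker) (t : T.Γ), β.1 (((z : T.Γ) * t : T.Γ)) = (T.lam z : ℂ)⁻¹ * β.1 t := by
    intro χ
    by_cases h : Over (pPrimeCore p G).subtype χ.1 θ
    · obtain ⟨β, h1, h2⟩ := T.exists_eq_mul hθ χ.2 (over_subtype_iff.1 h)
      exact ⟨⟨β, h1⟩, fun _ => h2⟩
    · exact ⟨irrOne _, fun h' => absurd h' h⟩
  choose F hF using hex
  have hinj : ∀ χ ψ : IrrCharacter G, Over (pPrimeCore p G).subtype χ.1 θ →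
      Over (pPrimeCore p G).subtype ψ.1 θ → F χ = F ψ → χ = ψ := fun χ ψ h1 h2 h =>
    Subtype.ext (funext fun g => by
      obtain ⟨t, rfl⟩ := T.surj g
      rw [(hF χ h1).1, (hF ψ h2).1, h])
  have hU' : ∀ q, p ∣ orderOf q → blockCoeff (F '' U) q = 0 := by
    intro q hq
    rw [blockCoeff_eq_zero_iff, finsum_mem_image fun a ha b hb => hinj a b (hUθ a ha) (hUθ b hb)]
    rw [← orderOf_inv] at hq
    obtain ⟨t, ht⟩ := QuotientGroup.mk_surjective q⁻¹
    haveI := Fintype.ofFinite T.s.range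
    obtain ⟨n, hn⟩ : ∃ n : T.s.range, T.ext (n * t) ≠ 0 := by
      by_contra h0
      push Not at h0
      have := sum_coset_norm_sq T.isChar (T.isIrr_res hθ) t
      simp only [h0, norm_zero, ne_eq, OfNat.ofNat_ne_zero, not_false_eq_true, zero_pow,
        Finset.sum_const_zero] at this
      exact Nat.card_pos.ne' (by exact_mod_cast this.symm)
    have h1 : (((n : T.Γ) * t : T.Γ) : T.Γ ⧸ T.s.range) = q⁻¹ := by
      rw [QuotientGroup.mk_mul, (QuotientGroup.eq_one_iff _).2 n.2, one_mul, ht]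
    have h2 : p ∣ orderOf (T.π (n * t))⁻¹ := by
      rw [← h1, dvd_orderOf_mk_iff hp hs, ← dvd_orderOf_mk_iff hp hZ,
        ← orderOf_injective (QuotientGroup.kerLift T.π) (QuotientGroup.kerLift_injective T.π),
        QuotientGroup.kerLift_mk] at hq
      rwa [orderOf_inv]
    have h3 := (blockCoeff_eq_zero_iff U _).1 (hU _ h2)
    rw [inv_inv, finsum_mem_irr_eq_sum] at h3
    rw [finsum_mem_irr_eq_sum]
    refine mul_left_cancel₀ (mul_ne_zero hn (T.isIrr_ext hθ).apply_one_ne_zero) ?_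
    rw [mul_zero, Finset.mul_sum]
    refine Eq.trans (Finset.sum_congr rfl fun χ _ => ?_) h3
    split_ifs with h
    · rw [(hF χ (hUθ χ h)).1, ← map_one T.π, (hF χ (hUθ χ h)).1, h1, QuotientGroup.mk_one]
      ring
    · rw [mul_zero]
  let φ : T.Γ ⧸ T.s.range →* G ⧸ pPrimeCore p G :=
    QuotientGroup.map _ _ T.π (by rw [T.comap_eq]; exact le_sup_left)
  have hφ : Surjective φ := fun y => by
    obtain ⟨g, rfl⟩ := QuotientGroup.mk_surjective y
    obtain ⟨t, rfl⟩ := T.surj g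
    exact ⟨t, rfl⟩
  have hker : φ.ker ≤ T.Z := fun q hq => by
    obtain ⟨t, rfl⟩ := QuotientGroup.mk_surjective q
    have h1 : t ∈ (pPrimeCore p G).comap T.π := (QuotientGroup.eq_one_iff (T.π t)).1 hq
    rw [T.comap_eq] at h1
    obtain ⟨a, ha, z, hz, rfl⟩ := Subgroup.mem_sup_of_normal_left.1 h1
    exact ⟨z, hz, by
      rw [QuotientGroup.mk_mul, (QuotientGroup.eq_one_iff _).2 ha, one_mul]; rfl⟩
  have h1 : F ψ ∈ F '' U := by
    refine mem_of_eq_on_supp (Set.mem_image_of_mem F hχ) fun q hq => ?_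
    have h2 := mem_centralizer_of_blockCoeff_ne_zero hU' (isPGroup_pCore p) hq
    have h3 : φ q ∈ pCore p (G ⧸ pPrimeCore p G) := by
      refine isPConstrained_iff.1 hG fun y hy => ?_
      obtain ⟨x, hx, rfl⟩ := pCore_le_map_of_ker_le_center hφ (hker.trans T.Z_le_center) hy
      rw [← map_mul, h2 x hx, map_mul]
    have h4 : φ q = 1 := by
      by_contra hne
      refine hq (hU' q (Dvd.dvd.trans ?_ (orderOf_map_dvd φ q)))
      have := (isPGroup_pCore p).dvd_orderOf (g := ⟨_, h3⟩) fun h => hne (congrArg Subtype.val h)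
      rwa [← Subgroup.orderOf_coe] at this
    obtain ⟨z, hz, rfl⟩ := hker h4
    have h5 := (hF χ (hUθ χ hχ)).2 ⟨z, hz⟩ 1
    have h6 := (hF ψ hψ).2 ⟨z, hz⟩ 1
    rw [mul_one, QuotientGroup.mk_one] at h5 h6
    rw [QuotientGroup.mk'_apply, h5, h6, mul_div_assoc, mul_div_assoc,
      div_self (F χ).2.apply_one_ne_zero, div_self (F ψ).2.apply_one_ne_zero]
  obtain ⟨χ', hχ', h2⟩ := h1
  rwa [← hinj χ' ψ (hUθ χ' hχ') hψ h2]

theorem setIdem_eq_mul {T : Subgroup G} [Fintype G] (hNT : N ≤ T) {θ : IrrCharacter N}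
    (hT : inertia N (θ : N → ℂ) = T) (U : Set (IrrCharacter G)) :
    setIdem {ψ : IrrCharacter T | Over (Subgroup.inclusion hNT) ψ.1 θ ∧
        ∃ χ ∈ U, (χ : G → ℂ) = indFun T ψ.1} =
      restrictTo T (setIdem U) * setIdem {ψ : IrrCharacter T | Over (Subgroup.inclusion hNT) ψ.1 θ} := by
  classical
  have hz := restrictTo_mem_ctr T (setIdem_mem_ctr U)
  have key : ∀ ψ : IrrCharacter T, ∀ h : IsIrrCharacter G (indFun T ψ.1),
      omega ψ.1 (restrictTo T (setIdem U)) = if ⟨_, h⟩ ∈ U then 1 else 0 := by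
    intro ψ h
    haveI := Fintype.ofFinite T
    rw [← om_blockCoeff, om_indFun T _ (isClassFunction_blockCoeff U), om_eq_sum, omega_apply,
      Finset.sum_div]
    rfl
  refine (eq_setIdem (mul_mem hz (setIdem_mem_ctr _)) ?_ ?_).symm
  · rintro ψ ⟨h1, χ, hχ, he⟩
    have h2 : IsIrrCharacter G (indFun T ψ.1) := he ▸ χ.2
    rw [omega_ctr_mul ψ hz, omega_setIdem_of_mem (by exact h1), key ψ h2, if_pos, mul_one]
    rwa [← show χ = ⟨_, h2⟩ from Subtype.ext he]
  · intro ψ hψ
    rw [omega_ctr_mul ψ hz]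
    by_cases h1 : Over (Subgroup.inclusion hNT) ψ.1 θ
    · rw [key ψ (isIrr_indFun_of_over hNT θ.2 hT.le ψ.2 h1), if_neg, zero_mul]
      exact fun h => hψ ⟨h1, _, h, rfl⟩
    · rw [omega_setIdem_of_not_mem (by exact h1), mul_zero]

theorem blockCoeff_over_eq_zero {T : Subgroup G} (hNT : N ≤ T) {θ : IrrCharacter N}
    (hT : T ≤ inertia N (θ : N → ℂ)) {t : T} (ht : (t : G) ∉ N) :
    blockCoeff {ψ : IrrCharacter T | Over (Subgroup.inclusion hNT) ψ.1 θ} t = 0 := by
  have h1 : {ψ : IrrCharacter T | Over (Subgroup.inclusion hNT) ψ.1 θ} =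
      overSet (N.subgroupOf T) {irrCongr (Subgroup.subgroupOfEquivOfLe hNT) θ} := by
    ext ψ
    simp only [overSet, Set.mem_setOf_eq, Set.mem_singleton_iff, exists_eq_left]
    exact (over_comp_equiv (Subgroup.subgroupOfEquivOfLe hNT)).symm
  rw [h1, blockCoeff_overSet, extendByZero_of_not_mem (N.subgroupOf T) _ ht]
  rw [blkStab_singleton]
  refine eq_top_iff.2 fun g _ => mem_inertia.2 fun n => ?_
  exact mem_inertia.1 (hT g.2) ⟨(n : T), n.2⟩

omit hN [Finite G] in
/-- Harada's conjecture for `p`-solvable groups (Kiyota–Okuyama). -/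
theorem mem_of_sameBlock_of_isPSolvable [Fact p.Prime] {M : Ideal AlgInt} (hM : IsPModular p M)
    (n : ℕ) : ∀ (G : Type u) [Group G] [Finite G], Nat.card G = n → IsPSolvable p G →
      ∀ {U : Set (IrrCharacter G)}, (∀ g, p ∣ orderOf g → blockCoeff U g = 0) →
      ∀ χ ∈ U, ∀ ψ : IrrCharacter G, SameBlock M (χ : G → ℂ) ψ → ψ ∈ U := by
  haveI := hM.isMaximal
  induction n using Nat.strong_induction_on with
  | _ n ih =>
  intro G _ _ hn hG U hU χ hχ ψ hs
  haveI := Fintype.ofFinite G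
  have hp : p.Prime := Fact.out
  have hNp : ¬ p ∣ Nat.card (pPrimeCore p G) := not_dvd_card_pPrimeCore hp
  obtain ⟨θ, hθ⟩ := exists_over_under (pPrimeCore p G).subtype χ
  have hb := isPBlock_singleton_of_not_dvd hM hNp θ
  by_cases hT : inertia _ θ.1 = ⊤
  · refine (mem_of_over_of_invariant hG.isPConstrained rfl θ.2 hT (U := U ∩ overSet _ {θ})
      (fun g hg => ?_) (fun _ h => ?_) ⟨hχ, θ, rfl, hθ⟩ (hθ.of_sameBlock hM hNp hs)).1
    · rw [← coeff_setIdem, ← setIdem_mul_setIdem]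
      refine coeff_mul_eq_zero_of_dvd hp hNp hU (fun x hx => ?_) hg
      rw [coeff_setIdem, blockCoeff_overSet (by rw [blkStab_singleton, hT]),
        extendByZero_of_not_mem _ _ hx]
    · obtain ⟨-, _, rfl, h⟩ := h
      exact h
  · have hNT := le_inertia θ.isClassFunction
    have hB := isPBlock_blockOf (M := M) χ
    obtain ⟨χ', h1, h2⟩ := FR.exists_of_mem hb (hNT := hNT) (blkStab_singleton θ).le rfl hθ
    have hB' := isPBlock_blockOf (M := M) χ'
    have hc' : Covers _ (blockOf M χ'.1) {θ} := ⟨χ', self_mem_blockOf χ', θ, rfl, h1⟩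
    have h3 := FR.isPBlock_indSet hb (blkStab_singleton θ).le hB' hc'
    obtain ⟨ψ', h4, h5⟩ := mem_block_of_sameBlock h3 ⟨χ', self_mem_blockOf χ', h2⟩ hs
    have h6 := ih _ (by
        rw [← hn, ← Subgroup.card_top (G := G)]
        exact Tr.card_lt_of_lt (lt_top_iff_ne_top.2 hT)) _ rfl (hG.subgroup _)
      (U := {ψ | Over (Subgroup.inclusion hNT) ψ.1 θ ∧ ∃ χ ∈ U, (χ : G → ℂ) = indFun _ ψ.1})
      (fun g hg => ?_) χ' ⟨h1, χ, hχ, h2⟩ ψ' h4
    · obtain ⟨-, ξ, hξ, he⟩ := h6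
      rwa [show ψ = ξ from Subtype.ext (h5.trans he.symm)]
    · rw [← coeff_setIdem, setIdem_eq_mul hNT rfl]
      refine coeff_mul_eq_zero_of_dvd (N := (pPrimeCore p G).subgroupOf _) hp ?_ (fun x hx => ?_)
        (fun x hx => ?_) hg
      · rwa [Nat.card_congr (Subgroup.subgroupOfEquivOfLe hNT).toEquiv]
      · exact hU _ (by rwa [Subgroup.orderOf_coe])
      · exact blockCoeff_over_eq_zero hNT le_rfl hx

end Cfsg.Agent.Blk.Om
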