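import Mathlib
import Cfsg.Agent.Ch.Jordan
import Cfsg.Agent.Ch.Det

/-!
# The multiset of eigenvalues of a group element in a character
-/

set_option autoImplicit false
set_option linter.unusedSectionVars false

namespace Cfsg.Agent.Blk.Lin

open Cfsg Cfsg.Agent.Ch Subgroup Module

theorem multiset_eq_of_psum {s t : Multiset ℂ}
    (h : ∀ m : ℕ, (s.map (· ^ m)).sum = (t.map (· ^ m)).sum) : s = t := by
  classical
  have h1 := (linearIndependent_monoidHom (Multiplicative ℕ) ℂ).comp (powersHom ℂ)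
    (powersHom ℂ).injective
  have h2 := linearIndependent_iff'.1 h1 (s + t).toFinset
    (fun c => (s.count c : ℂ) - t.count c) (funext fun m => by
      have h3 : ∀ u : Multiset ℂ, u.toFinset ⊆ (s + t).toFinset → (u.map (· ^ m.toAdd)).sum =
          ∑ c ∈ (s + t).toFinset, (u.count c : ℂ) * c ^ m.toAdd := fun u hu => by
        rw [Finset.sum_multiset_map_count]
        simp only [nsmul_eq_mul]
        exact Finset.sum_subset hu fun c _ hc => by
          rw [Multiset.count_eq_zero_of_notMem (by simpa using hc), Nat.cast_zero, zero_mul]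
      have h4 := h m.toAdd
      rw [h3 s (by simp), h3 t (by simp)] at h4
      simp only [Finset.sum_apply, Pi.smul_apply, Function.comp_apply, powersHom_apply, smul_eq_mul,
        Pi.zero_apply, sub_mul, Finset.sum_sub_distrib, h4, sub_self])
  ext c
  by_cases hc : c ∈ (s + t).toFinset
  · exact_mod_cast sub_eq_zero.1 (h2 c hc)
  · simp only [Multiset.mem_toFinset, Multiset.mem_add, not_or] at hc
    rw [Multiset.count_eq_zero_of_notMem hc.1, Multiset.count_eq_zero_of_notMem hc.2]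

variable {G H : Type*} [Group G] [Group H] {χ ψ : G → ℂ} {g : G}

/-- The eigenvalues of `g` in a representation with character `χ`. -/
noncomputable def eig (χ : G → ℂ) (g : G) : Multiset ℂ :=
  Classical.epsilon fun s : Multiset ℂ => ∀ m : ℕ, χ (g ^ m) = (s.map (· ^ m)).sum

theorem eig_eq {s : Multiset ℂ} (h : ∀ m : ℕ, χ (g ^ m) = (s.map (· ^ m)).sum) : eig χ g = s :=
  multiset_eq_of_psum fun m => (Classical.epsilon_spec
    (p := fun s : Multiset ℂ => ∀ m : ℕ, χ (g ^ m) = (s.map (· ^ m)).sum) ⟨s, h⟩ m).symm.trans (h m)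

theorem eig_congr {φ : H → ℂ} {y : H} (h : ∀ m : ℕ, χ (g ^ m) = φ (y ^ m)) : eig χ g = eig φ y := by
  simp only [eig, h]

theorem eig_coe (K : Subgroup G) (y : K) : eig (fun k : K => χ k) y = eig χ y :=
  eig_congr fun _ => rfl

theorem eig_conj (h : IsClassFunction G χ) (g x : G) : eig χ (x * g * x⁻¹) = eig χ g :=
  eig_congr fun m => by rw [conj_pow, h.conj_eq]

theorem eig_of_scalar {c : ℂ} {d : ℕ} (h : ∀ m : ℕ, χ (g ^ m) = c ^ m * d) :
    eig χ g = Multiset.replicate d c :=
  eig_eq fun m => by simp [h, mul_comm]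

variable [Finite G] [Finite H]

theorem eig_basis {V : Type*} [AddCommGroup V] [Module ℂ V] [FiniteDimensional ℂ V]
    (ρ : Representation ℂ G V) (g : G) : ∃ (b : Basis (Fin (finrank ℂ V)) ℂ V)
      (μ : Fin (finrank ℂ V) → ℂ), (∀ i, μ i ^ orderOf g = 1) ∧ (∀ i, ρ g (b i) = μ i • b i) ∧
      (∀ m : ℕ, ρ.character (g ^ m) = ∑ i, μ i ^ m) ∧ eig ρ.character g = Finset.univ.val.map μ := by
  obtain ⟨b, μ, h1, h2⟩ := exists_eigenbasis ρ (isOfFinOrder_of_finite g)
  have h3 : ∀ m : ℕ, ρ.character (g ^ m) = ∑ i, μ i ^ m := fun m =>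
    trace_eq_sum_of_eigenbasis b _ _ fun i => by simpa using h2 m i
  exact ⟨b, μ, h1, fun i => by simpa using h2 1 i, h3, eig_eq fun m => by
    rw [h3, Multiset.map_map]; rfl⟩

theorem eig_spec (h : IsCharacter G χ) (g : G) (m : ℕ) :
    χ (g ^ m) = ((eig χ g).map (· ^ m)).sum := by
  obtain ⟨ρ, hρ⟩ := h.exists_rep
  obtain ⟨b, μ, -, -, h1, h2⟩ := eig_basis ρ g
  rw [← hρ, h1, h2, Multiset.map_map]; rfl

theorem pow_eq_one_of_mem_eig (h : IsCharacter G χ) {a : ℂ} (ha : a ∈ eig χ g) {n : ℕ}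
    (hn : g ^ n = 1) : a ^ n = 1 := by
  obtain ⟨ρ, hρ⟩ := h.exists_rep
  obtain ⟨b, μ, h0, -, -, h2⟩ := eig_basis ρ g
  rw [← hρ, h2] at ha
  obtain ⟨i, -, rfl⟩ := Multiset.mem_map.1 ha
  obtain ⟨k, rfl⟩ := orderOf_dvd_of_pow_eq_one hn
  rw [pow_mul, h0, one_pow]

theorem prod_eig (h : IsCharacter G χ) (hg : g ∈ commutator G) : (eig χ g).prod = 1 := by
  obtain ⟨ρ, hρ⟩ := h.exists_rep
  obtain ⟨b, μ, -, h1, -, h2⟩ := eig_basis ρ g
  have h3 := coe_detHom ρ g
  rw [show detHom ρ g = 1 from Abelianization.commutator_subset_ker _ hg,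
    diag_det_eq_prod_of_eigenbasis b _ μ h1] at h3
  rw [← hρ, h2]
  exact h3.symm

theorem card_eig (h : IsCharacter G χ) (g : G) : (eig χ g).card = charDegree χ := by
  have := eig_spec h g 0
  simp only [pow_zero, ← h.coe_charDegree, Multiset.map_const', Multiset.sum_replicate,
    nsmul_eq_mul, mul_one, Nat.cast_inj] at this
  exact this.symm

theorem eig_add (h : IsCharacter G χ) (h' : IsCharacter G ψ) (g : G) :
    eig (χ + ψ) g = eig χ g + eig ψ g :=
  eig_eq fun m => by rw [Pi.add_apply, eig_spec h, eig_spec h', Multiset.map_add, Multiset.sum_add]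

theorem eig_pow (h : IsCharacter G χ) (g : G) (k : ℕ) :
    eig χ (g ^ k) = (eig χ g).map (· ^ k) :=
  eig_eq fun m => by rw [← pow_mul, eig_spec h, Multiset.map_map]; simp only [pow_mul]; rfl

theorem eig_mul {φ : H → ℂ} (h : IsCharacter H φ) {y : H} {c : ℂ}
    (e : ∀ m : ℕ, χ (g ^ m) = c ^ m * φ (y ^ m)) : eig χ g = (eig φ y).map (c * ·) :=
  eig_eq fun m => by
    rw [e, eig_spec h, Multiset.map_map, ← Multiset.sum_map_mul_left]
    simp only [Function.comp_def, mul_pow]

theorem eig_of_mem_charKer (h : IsCharacter G χ) (hg : g ∈ charKer χ) :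
    eig χ g = Multiset.replicate (charDegree χ) 1 :=
  eig_of_scalar fun m => by
    rw [apply_eq_of_mem_charKer (pow_mem hg m), one_pow, one_mul, h.coe_charDegree]

theorem eig_mul_of_mem_charKer {q : G} (hq : q ∈ charKer χ) (hc : Commute q g) :
    eig χ (q * g) = eig χ g :=
  eig_congr fun m => by rw [hc.mul_pow, apply_mul_of_mem_charKer (pow_mem hq m)]

theorem eig_center_mul (h : IsIrrCharacter G χ) {r : G} (hr : r ∈ center G) :
    ∃ c : ℂ, c ≠ 0 ∧ ∀ g, eig χ (r * g) = (eig χ g).map (c * ·) := by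
  obtain ⟨lam, h1, -⟩ := h.exists_center_hom
  refine ⟨lam ⟨r, hr⟩, Units.ne_zero _, fun g => eig_mul h.isCharacter fun m => ?_⟩
  rw [(show Commute r g from (mem_center_iff.1 hr g).symm).mul_pow]
  rw [← Units.val_pow_eq_pow_val, ← map_pow]
  exact h1 (⟨r, hr⟩ ^ m) (g ^ m)

theorem eig_center (h : IsIrrCharacter G χ) {r : G} (hr : r ∈ center G) :
    ∃ c : ℂ, eig χ r = Multiset.replicate (charDegree χ) c := by
  obtain ⟨c, -, h1⟩ := eig_center_mul h hr
  have := h1 1
  rw [mul_one, eig_of_mem_charKer h.isCharacter (one_mem _), Multiset.map_replicate] at this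
  exact ⟨_, this⟩

theorem mem_charCenter_of_eig (h : IsCharacter G χ) {c : ℂ} (hc : ∀ a ∈ eig χ g, a = c) :
    g ∈ charCenter χ := by
  have h1 := eig_spec h g 1
  rw [Multiset.eq_replicate_card.2 hc, card_eig h] at h1
  rcases Nat.eq_zero_or_pos (charDegree χ) with h0 | h0
  · rw [h.mem_charCenter, ← pow_one g, h1, h0]; simp
  obtain ⟨a, ha⟩ := Multiset.card_pos_iff_exists_mem.1 (card_eig h g ▸ h0)
  have h2 := norm_eq_one_of_pow_eq_one' (orderOf_pos g).ne'
    (pow_eq_one_of_mem_eig h ha (pow_orderOf_eq_one g))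
  rw [h.mem_charCenter, ← pow_one g, h1, ← hc a ha]
  simp [h2]

open Classical in
theorem finrank_eigenspace {V : Type*} [AddCommGroup V] [Module ℂ V] [FiniteDimensional ℂ V]
    (ρ : Representation ℂ G V) (g : G) (c : ℂ) :
    finrank ℂ (End.eigenspace (ρ g) c) = (eig ρ.character g).count c := by
  obtain ⟨b, μ, -, h1, -, h2⟩ := eig_basis ρ g
  have h3 : End.eigenspace (ρ g) c = Submodule.span ℂ (Set.range fun i : {i // μ i = c} => b i) := by
    refine le_antisymm (fun v hv => ?_) (Submodule.span_le.2 ?_)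
    · rw [show (Set.range fun i : {i // μ i = c} => b i) = b '' {i | μ i = c} from
        (Set.image_eq_range b {i | μ i = c}).symm, b.mem_span_image]
      intro i hi
      have h4 := congrArg (fun w => b.repr w i) (End.mem_eigenspace_iff.1 hv)
      conv_lhs at h4 => rw [← b.sum_repr v]
      simp only [map_sum, map_smul, h1, b.repr_self, Finsupp.coe_finsetSum, Finset.sum_apply,
        Finsupp.smul_apply, Finsupp.single_apply, smul_eq_mul, mul_ite, mul_one, mul_zero,
        Finset.sum_ite_eq', Finset.mem_univ, if_true] at h4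
      exact mul_left_cancel₀ (Finsupp.mem_support_iff.1 hi) (h4.trans (mul_comm _ _))
    · rintro _ ⟨⟨i, rfl⟩, rfl⟩
      exact End.mem_eigenspace_iff.2 (h1 i)
  rw [h3, finrank_span_eq_card (b := fun i : {i // μ i = c} => b i)
    (b.linearIndependent.comp _ Subtype.val_injective), h2, Fintype.card_subtype, Multiset.count_map]
  simp only [eq_comm (a := c)]
  rfl

open Classical in
theorem closure_ne_top (hχ : IsIrrCharacter G χ) (h1 : charDegree χ ≠ 1) {a b : G} {c c' : ℂ}
    (h : charDegree χ < (eig χ a).count c + (eig χ b).count c') :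
    closure ({a, b} : Set G) ≠ ⊤ := fun e => by
  obtain ⟨ρ, hρ, h2⟩ := hχ.exists_rep
  have h3 := Submodule.finrank_sup_add_finrank_inf_eq (End.eigenspace (ρ a) c)
    (End.eigenspace (ρ b) c')
  have h4 := Submodule.finrank_le (End.eigenspace (ρ a) c ⊔ End.eigenspace (ρ b) c')
  rw [finrank_eigenspace, finrank_eigenspace, h2] at h3
  rw [finrank_fin_fun] at h4
  obtain ⟨v, hv, h0⟩ := Submodule.exists_mem_ne_zero_of_ne_bot
    (p := End.eigenspace (ρ a) c ⊓ End.eigenspace (ρ b) c') fun e => by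
      rw [e, finrank_bot] at h3; omega
  have h5 : ∀ g, ρ g v ∈ Submodule.span ℂ {v} := fun g => by
    have h6 : ∀ (g : G) (t : ℂ), ρ g v = t • v → ∀ w ∈ Submodule.span ℂ {v},
        ρ g w ∈ Submodule.span ℂ {v} := fun g t ht w hw => by
      obtain ⟨s, rfl⟩ := Submodule.mem_span_singleton.1 hw
      rw [map_smul, ht]
      exact Submodule.smul_mem _ _ (Submodule.smul_mem _ _ (Submodule.mem_span_singleton_self v))
    have h7 : g ∈ Submonoid.closure ({a, b} : Set G) := by
      rw [← closure_toSubmonoid_of_finite, e]; trivial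
    refine (Submonoid.closure_induction (motive := fun g _ => ∀ w ∈ Submodule.span ℂ {v},
      ρ g w ∈ Submodule.span ℂ {v}) ?_ (fun w hw => by simpa using hw)
      (fun x y _ _ hx hy w hw => by simpa using hx _ (hy w hw)) h7) v
      (Submodule.mem_span_singleton_self v)
    rintro _ (rfl | rfl)
    · exact h6 _ c (End.mem_eigenspace_iff.1 hv.1)
    · exact h6 _ c' (End.mem_eigenspace_iff.1 hv.2)
  rcases ((isIrreducible_iff ρ).1 hρ).2 (Submodule.span ℂ {v}) (fun g w hw => by
    obtain ⟨s, rfl⟩ := Submodule.mem_span_singleton.1 hw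
    rw [map_smul]
    exact Submodule.smul_mem _ _ (h5 g)) with h6 | h6
  · exact h0 (Submodule.span_singleton_eq_bot.1 h6)
  · have := finrank_span_singleton (K := ℂ) h0
    rw [h6, finrank_top, finrank_fin_fun] at this
    exact h1 this

open Classical in
theorem card_simple_le (hχ : IsCharacter G χ) {h y g : G} (hy : Commute y h) (hg : Commute g h) :
    ((eig χ h).filter fun a => (eig χ h).count a = 1).card ≤
      (eig χ (y * g * y⁻¹ * g⁻¹)).count 1 := by
  obtain ⟨ρ, hρ⟩ := hχ.exists_rep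
  obtain ⟨b, μ, -, h1, -, h2⟩ := eig_basis ρ h
  rw [← hρ]
  have h3 : ∀ i, (eig ρ.character h).count (μ i) = 1 → ∀ {y : G}, Commute y h →
      ∃ t : ℂ, ρ y (b i) = t • b i := fun i hi y hy => by
    rw [← finrank_eigenspace] at hi
    have h4 : ρ y (b i) ∈ End.eigenspace (ρ h) (μ i) := End.mem_eigenspace_iff.2 (by
      rw [← End.mul_apply, ← map_mul, ← hy.eq, map_mul, End.mul_apply, h1, map_smul])
    obtain ⟨t, ht⟩ := (finrank_eq_one_iff_of_nonzero' (⟨b i, End.mem_eigenspace_iff.2 (h1 i)⟩ :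
      End.eigenspace (ρ h) (μ i)) (fun e => b.ne_zero i (congrArg Subtype.val e))).1 hi ⟨_, h4⟩
    exact ⟨t, (congrArg Subtype.val ht).symm⟩
  rw [← finrank_eigenspace]
  have h4 := finrank_span_eq_card (b.linearIndependent.comp (Subtype.val :
    {i // (eig ρ.character h).count (μ i) = 1} → _) Subtype.val_injective)
  refine le_trans (le_of_eq ?_) (h4.ge.trans (Submodule.finrank_mono (Submodule.span_le.2 ?_)))
  · rw [Fintype.card_subtype]
    conv_lhs => enter [1, 2]; rw [h2]
    rw [Multiset.filter_map, Multiset.card_map]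
    rfl
  rintro _ ⟨⟨i, hi⟩, rfl⟩
  obtain ⟨l, hl⟩ := diag_exists_hom_of_eigenvector (ρ.comp (centralizer {h}).subtype) (b.ne_zero i)
    fun y => h3 i hi (mem_centralizer_singleton_iff.1 y.2)
  set y' : centralizer ({h} : Set G) := ⟨y, mem_centralizer_singleton_iff.2 hy⟩
  set g' : centralizer ({h} : Set G) := ⟨g, mem_centralizer_singleton_iff.2 hg⟩
  have h5 := hl (y' * g' * y'⁻¹ * g'⁻¹)
  rw [map_mul l, map_mul l, map_mul l, mul_right_comm (l y'), ← map_mul l, mul_inv_cancel,
    ← map_mul l, ← map_mul l, one_mul, mul_inv_cancel, map_one] at h5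
  exact End.mem_eigenspace_iff.2 h5

theorem jordanDist_le_of_eig {E : Type*} [NormedAddCommGroup E] [InnerProductSpace ℂ E]
    [FiniteDimensional ℂ E] {ρ : Representation ℂ G E} (hU : ∀ g v, ‖ρ g v‖ = ‖v‖) {c : ℂ} {r : ℝ}
    (hr : 0 ≤ r) (h : ∀ a ∈ eig ρ.character g, ‖a - c‖ ≤ r) : jordanDist ρ c g ≤ r := by
  obtain ⟨b, μ, -, h1, -, h2⟩ := eig_basis ρ g
  exact jordanDist_le hr (unitary_norm_sub_le (hU _) b μ h1 hr fun i =>
    h _ (h2 ▸ Multiset.mem_map_of_mem _ (Finset.mem_univ i)))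

end Cfsg.Agent.Blk.Lin
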