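import Mathlib
import Cfsg.Agent.Blk.OneHalf

/-!
# Irreducible characters of degree at most `p - 2` when the Sylow `p`-subgroups have order `p`
-/

set_option autoImplicit false
set_option linter.unusedSectionVars false
set_option linter.style.haveILetI false

namespace Cfsg.Agent.Blk.One

open Cfsg Cfsg.Agent.Ch Subgroup Cfsg.Agent.Blk.Om Cfsg.Agent.GT
open scoped ComplexConjugate

variable {G : Type*} [Group G] {p : ℕ} [hp : Fact p.Prime] [Fintype G]

namespace Setup

variable (S : Setup p G)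

open Classical in
/-- The automizer of the Sylow subgroup, as a finite set of units. -/
noncomputable def Af : Finset (ZMod p)ˣ := Finset.univ.filter (· ∈ S.A (irrOne S.C))

/-- The inertial index. -/
noncomputable abbrev ee : ℕ := S.C.relIndex S.N

theorem mem_Af {a : (ZMod p)ˣ} : a ∈ S.Af ↔ a ∈ S.A (irrOne S.C) := by simp [Af]

theorem mem_Af' {a : (ZMod p)ˣ} : a ∈ S.Af ↔ ∃ n : S.N, S.al n = a := by
  rw [mem_Af, A, St_irrOne]
  simp

theorem al_mem_Af (n : S.N) : S.al n ∈ S.Af := S.mem_Af'.2 ⟨n, rfl⟩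

theorem card_Af : S.Af.card = S.ee := by
  rw [ee, ← S.card_A_one]
  exact (Nat.subtype_card S.Af fun _ => S.mem_Af).symm

theorem one_mem_Af : (1 : (ZMod p)ˣ) ∈ S.Af := S.mem_Af.2 (one_mem _)

theorem mul_mem_Af {a b : (ZMod p)ˣ} (ha : a ∈ S.Af) (hb : b ∈ S.Af) : a * b ∈ S.Af :=
  S.mem_Af.2 (mul_mem (S.mem_Af.1 ha) (S.mem_Af.1 hb))

theorem inv_mem_Af {a : (ZMod p)ˣ} (ha : a ∈ S.Af) : a⁻¹ ∈ S.Af :=
  S.mem_Af.2 (inv_mem (S.mem_Af.1 ha))

theorem sum_Af_mul {R : Type*} [AddCommMonoid R] {b : (ZMod p)ˣ} (hb : b ∈ S.Af)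
    (F : (ZMod p)ˣ → R) : ∑ a ∈ S.Af, F (b * a) = ∑ a ∈ S.Af, F a :=
  Finset.sum_bij' (fun a _ => b * a) (fun a _ => b⁻¹ * a) (fun _ ha => S.mul_mem_Af hb ha)
    (fun _ ha => S.mul_mem_Af (S.inv_mem_Af hb) ha) (fun _ _ => by simp) (fun _ _ => by simp)
    fun _ _ => rfl

theorem sum_N [Fintype S.N] (F : (ZMod p)ˣ → ℂ) :
    ∑ n : S.N, F (S.al n) = Nat.card S.C * ∑ a ∈ S.Af, F a := by
  classical
  have := S.sum_St (irrOne S.C) F
  simp only [St_irrOne, mem_top, if_true] at this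
  rw [this, Af, Finset.sum_filter]

/-- Gauss periods. -/
noncomputable def gp (j : ZMod p) : ℂ := ∑ a ∈ S.Af, ps (j * (a : ZMod p))

theorem gp_zero : S.gp 0 = S.ee := by simp [gp, ps_zero, card_Af]

theorem gp_mul {b : (ZMod p)ˣ} (hb : b ∈ S.Af) (j : ZMod p) : S.gp (j * b) = S.gp j := by
  rw [gp, gp, ← S.sum_Af_mul hb fun a => ps (j * (a : ZMod p))]
  simp only [Units.val_mul, mul_assoc]

theorem conj_gp (j : ZMod p) : conj (S.gp j) = S.gp (-j) := by
  simp only [gp, map_sum, conj_ps, neg_mul]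

open Classical in
theorem sum_gp_ps (i j : ZMod p) : ∑ k : ZMod p, S.gp (i * k) * ps (j * k) =
    p * ∑ a ∈ S.Af, if i * (a : ZMod p) + j = 0 then 1 else 0 := by
  simp only [gp, Finset.sum_mul, ← ps_add]
  rw [Finset.sum_comm, Finset.mul_sum]
  refine Finset.sum_congr rfl fun a _ => ?_
  have := sum_ps_mul (p := p) (i * (a : ZMod p) + j)
  simp only [mul_ite, mul_one, mul_zero]
  rw [← this]
  exact Finset.sum_congr rfl fun k _ => by ring_nf

theorem sum_units_eq (F : ZMod p → ℂ) : ∑ k : (ZMod p)ˣ, F k = ∑ k, F k - F 0 := by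
  rw [sum_zmod_eq]; ring

theorem gp_of_ee (h : S.ee = p - 1) {j : ZMod p} (hj : j ≠ 0) : S.gp j = -1 := by
  have h1 : S.Af = Finset.univ := Finset.eq_univ_of_card _ (by rw [card_Af, h, ZMod.card_units])
  have := sum_units_ps (p := p) j
  rw [if_neg hj] at this
  rw [gp, h1]
  simp only [mul_comm j]
  rw [this]; ring

theorem two_mul_ee_le (h : S.ee ≠ p - 1) : 2 * S.ee + 1 ≤ p := by
  obtain ⟨t, ht⟩ := S.relIndex_dvd
  have := hp.out.two_le
  have h3 : 2 ≤ t := by
    rcases t with _ | _ | t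
    · omega
    · exact absurd (by rw [ht, zero_add, mul_one]) h
    · omega
  have := Nat.mul_le_mul_left S.ee h3
  change p - 1 = S.ee * t at ht
  omega

theorem ee_pos : 0 < S.ee := S.relIndex_pos

/-- Summing a class function that vanishes on the `p`-regular elements. -/
theorem sum_singular {F : G → ℂ} (hF : IsClassFunction G F) (f : ZMod p → ℂ)
    (hf : ∀ c : S.C, p ∣ orderOf c → F c = f (S.pr c)) (h0 : ∀ g, ¬ p ∣ orderOf g → F g = 0) :
    (p * S.ee : ℂ) * ∑ g, F g = Nat.card G * ∑ k : (ZMod p)ˣ, f k := by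
  classical
  haveI := Fintype.ofFinite S.N
  haveI := Fintype.ofFinite S.C
  have h1 : ∀ g, indFun S.C (fun c : S.C => F c) g = S.ee * F g := fun g => by
    by_cases hg : p ∣ orderOf g
    · obtain ⟨h, hh⟩ := S.exists_conj_mem_C hg
      rw [← (indFun_isClassFunction S.C _).conj_eq g h, ← hF.conj_eq g h]
      have := S.indFun_singular (fun c : S.C => F c) (c := ⟨_, hh⟩)
        (by rw [← orderOf_coe]; exact ((MulAut.conj h).orderOf_eq g).symm ▸ hg)
      rw [this]
      simp only [coe_cj, hF.conj_eq, Finset.sum_const, Finset.card_univ,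
        ← Nat.card_eq_fintype_card, card_N, nsmul_eq_mul, Nat.cast_mul]
      rw [mul_assoc, inv_mul_cancel_left₀ (natCard_ne_zero _)]
    · rw [S.indFun_eq_zero_of_regular (fun c hc => h0 _ (by rwa [orderOf_coe])) hg, h0 g hg,
        mul_zero]
  have h2 := classInner_indFun_left S.C (fun c : S.C => F c) (IsClassFunction.const (G := G) 1)
  rw [classInner_one_right, classInner_one_right] at h2
  simp only [h1, ← Finset.mul_sum] at h2
  have hs : Function.Surjective S.prHom := fun j =>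
    ⟨S.xc ^ (Multiplicative.toAdd j).val, S.pr_xc_pow _⟩
  have h3 := sum_comp_surjective S.prHom hs fun j =>
    if Multiplicative.toAdd j = 0 then 0 else f (Multiplicative.toAdd j)
  have h4 : ∑ c : S.C, F c = Nat.card S.prHom.ker * ∑ k : (ZMod p)ˣ, f k := by
    rw [Finset.sum_congr rfl fun (c : S.C) _ => show F c = if S.pr c = 0 then 0 else f (S.pr c) from ?_]
    · refine h3.trans (congrArg _ ?_)
      rw [Multiplicative.toAdd.sum_comp fun j => if j = 0 then 0 else f j, sum_zmod_eq]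
      simp
    · split_ifs with h
      · exact h0 _ (by rw [orderOf_coe]; exact (S.pr_eq_zero_iff c).1 h)
      · exact hf c ((S.pr_ne_zero_iff c).1 h)
  have h5 : Nat.card S.C = Nat.card S.prHom.ker * p := by
    rw [← S.prHom.ker.card_mul_index, index_ker, MonoidHom.range_eq_top.2 hs, card_top]
    simp
  rw [h4, h5] at h2
  have h6 := natCard_ne_zero S.prHom.ker
  have h7 := natCard_ne_zero G
  have h8 : (p : ℂ) ≠ 0 := Nat.cast_ne_zero.2 hp.out.ne_zero
  push_cast at h2
  field_simp at h2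
  linear_combination h2

theorem apply_x_of_const {χ : G → ℂ} (hχ : IsCharacter G χ) (hd : charDegree χ + 2 ≤ p) {c : ℂ}
    (h : ∀ k : (ZMod p)ˣ, χ (S.x ^ (k : ZMod p).val) = c) : χ S.x = χ 1 := by
  choose θ hθ _ hθ' using S.exists_four hχ
  have h1 := fun j => hθ' j 1 (by simpa using hp.out.ne_one)
  have h3 := Finset.sum_congr rfl fun j (_ : j ∈ Finset.univ) => h1 j
  rw [sum_four, ← Finset.mul_sum, mul_right_inj' (Nat.cast_ne_zero.2 hp.out.ne_zero)] at h3
  simp only [coe_one, mul_one, h, ← Finset.mul_sum] at h1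
  have h4 : ∀ j : (ZMod p)ˣ, p * θ j 1 = χ 1 - c := fun j => by
    have := sum_units_ps (p := p) j
    rw [if_neg j.ne_zero] at this
    rw [h1, show ∑ k : (ZMod p)ˣ, ps ((j : ZMod p) * (k : ZMod p)) = 0 - 1 from
      (Finset.sum_congr rfl fun k _ => by rw [mul_comm]).trans this]
    ring
  have h5 : ∀ j : (ZMod p)ˣ, θ j 1 = θ (1 : (ZMod p)ˣ) 1 := fun j =>
    mul_left_cancel₀ (Nat.cast_ne_zero.2 hp.out.ne_zero) ((h4 j).trans (h4 1).symm)
  rw [sum_zmod_eq] at h3
  simp only [h5, Finset.sum_const, Finset.card_univ, ZMod.card_units, nsmul_eq_mul] at h3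
  simp only [← (hθ _).coe_charDegree, coe_one, ← hχ.coe_charDegree] at h3
  have h6 : charDegree (θ 0) + (p - 1) * charDegree (θ (1 : (ZMod p)ˣ)) = charDegree χ := by
    exact_mod_cast h3
  have h7 : charDegree (θ (1 : (ZMod p)ˣ)) = 0 := by
    by_contra h8
    have := Nat.mul_le_mul_left (p - 1) (Nat.pos_of_ne_zero h8)
    omega
  have h8 := h4 1
  rw [← (hθ _).coe_charDegree, h7] at h8
  have h9 := h 1
  rw [Units.val_one, ZMod.val_one, pow_one] at h9
  rw [h9]
  simp only [Nat.cast_zero, mul_zero] at h8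
  linear_combination h8

/-- An irreducible character of degree `p - e`. -/
structure Low (χ : G → ℂ) (i : (ZMod p)ˣ) : Prop where
  irr : IsIrrCharacter G χ
  deg : charDegree χ + S.ee = p
  cen : ∀ v ∈ S.Vr, v ∈ charCenter χ
  val : ∀ k : (ZMod p)ˣ, χ (S.x ^ (k : ZMod p).val) = - S.gp ((i : ZMod p) * (k : ZMod p))

theorem low_cases {χ : G → ℂ} (hχ : IsIrrCharacter G χ) (hd : charDegree χ + 2 ≤ p)
    (hx : χ S.x ≠ χ 1) : 2 * S.ee + 1 ≤ p ∧ ∃ i : (ZMod p)ˣ, S.Low χ i ∨
      ∃ m : ℕ, charDegree χ = S.ee * m ∧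
        ∀ k : (ZMod p)ˣ, χ (S.x ^ (k : ZMod p).val) = m * S.gp ((i : ZMod p) * (k : ZMod p)) := by
  classical
  haveI := Fintype.ofFinite S.N
  obtain ⟨M, hM⟩ := exists_isPModular hp.out
  haveI := hM.isMaximal
  obtain ⟨θ, hθ, hB⟩ := S.exists_triv_of_not_dvd hM (χ := ⟨χ, hχ⟩)
    fun h => absurd (Nat.le_of_dvd hχ.charDegree_pos h) (by change ¬ p ≤ charDegree χ; omega)
  obtain ⟨D, -⟩ := hθ.exists_data' hM hB
  rcases (D.mem_iff ⟨χ, hχ⟩).1 (mem_blockOf_self ⟨χ, hχ⟩) with h | ⟨i, hi⟩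
  · exact absurd (S.apply_x_of_const hχ.isCharacter hd fun k => D.X_apply_of_mem h
      (pow_mem (mem_zpowers _) _) (S.x_pow_ne_one k)) hx
  have hv : ∀ (k : (ZMod p)ˣ) (v : S.C), ¬ p ∣ orderOf v → χ (S.x ^ (k : ZMod p).val * v) =
      D.ε * ((Nat.card S.C : ℂ)⁻¹ * ∑ n : S.N, ps ((i : ZMod p) * (S.al n : ZMod p) * (k : ZMod p)) *
        (θ : S.C → ℂ) (S.cj n v)) := fun k v hv => by
    have h1 : S.pr (S.xc ^ (k : ZMod p).val * v) = k := by
      rw [S.pr_mul, S.pr_xc_pow, S.pr_of_regular hv, add_zero]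
    have h2 : p ∣ orderOf (S.xc ^ (k : ZMod p).val * v) :=
      (S.pr_ne_zero_iff _).1 (by rw [h1]; exact k.ne_zero)
    have h3 := D.singY i (S.xc ^ (k : ZMod p).val * v : S.C) (by rwa [orderOf_coe])
    rw [hi, indFun_singular_St h2, h1] at h3
    refine h3.trans (congrArg _ (congrArg _ (Finset.sum_congr rfl fun n _ => congrArg _ ?_)))
    rw [cjI_apply, map_mul]
    exact hθ.apply_mul (by rw [coe_cj]; exact S.conj_mem_zpowers n.2 (pow_mem (mem_zpowers _) _)) _
  have hC := natCard_ne_zero S.C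
  have hp0 : (p : ℂ) ≠ 0 := Nat.cast_ne_zero.2 hp.out.ne_zero
  set m := charDegree (θ : S.C → ℂ) with hm
  have hm0 : 0 < m := θ.2.charDegree_pos
  have hv1 : ∀ k : (ZMod p)ˣ, χ (S.x ^ (k : ZMod p).val) = D.ε * m * S.gp ((i : ZMod p) * (k : ZMod p)) := fun k => by
    have := hv k 1 (by simpa using hp.out.ne_one)
    simp only [coe_one, mul_one, map_one, ← Finset.sum_mul] at this
    rw [this, S.sum_N fun a => ps ((i : ZMod p) * (a : ZMod p) * (k : ZMod p)), hm, θ.2.coe_charDegree, gp]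
    simp only [mul_right_comm (i : ZMod p)]
    field_simp
  have he : 2 * S.ee + 1 ≤ p := S.two_mul_ee_le fun h => hx (S.apply_x_of_const hχ.isCharacter hd
    fun k => by rw [hv1, S.gp_of_ee h (mul_ne_zero i.ne_zero k.ne_zero)])
  refine ⟨he, i, ?_⟩
  choose φ hφ _ hφ' using S.exists_four hχ.isCharacter
  have hf : ∀ j (v : S.C), ¬ p ∣ orderOf v → p * φ j v = χ v + D.ε * ((Nat.card S.C : ℂ)⁻¹ *
      ∑ n : S.N, ((if (i : ZMod p) * (S.al n : ZMod p) + j = 0 then (p : ℂ) else 0) - 1) *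
        (θ : S.C → ℂ) (S.cj n v)) := fun j v h => by
    rw [hφ' j v h]
    simp only [hv _ v h, Finset.mul_sum, Finset.sum_mul]
    rw [Finset.sum_comm]
    refine congrArg _ (Finset.sum_congr rfl fun n _ => ?_)
    rw [← sum_units_ps, Finset.sum_mul, Finset.mul_sum, Finset.mul_sum]
    refine Finset.sum_congr rfl fun k _ => ?_
    rw [mul_add, ps_add, mul_comm (k : ZMod p), mul_comm (k : ZMod p)]
    ring
  have hf0 : ∀ j, (∀ a ∈ S.Af, (i : ZMod p) * (a : ZMod p) + j ≠ 0) → ∀ v : S.C, ¬ p ∣ orderOf v →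
      φ j v = φ 0 v := fun j hj v h => by
    refine mul_left_cancel₀ hp0 ?_
    rw [hf j v h, hf 0 v h]
    simp only [if_neg (hj _ (S.al_mem_Af _)), add_zero,
      if_neg (mul_ne_zero i.ne_zero (S.al _).ne_zero)]
  have r1 : ¬ p ∣ orderOf (1 : S.C) := by simpa using hp.out.ne_one
  have hf1 : ∀ j, p * φ j 1 = χ 1 + D.ε * m *
      (p * (∑ a ∈ S.Af, if (i : ZMod p) * (a : ZMod p) + j = 0 then 1 else 0) - S.ee) := fun j => by
    rw [hf j 1 r1]
    simp only [map_one, ← Finset.sum_mul]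
    rw [S.sum_N fun a => (if (i : ZMod p) * (a : ZMod p) + j = 0 then (p : ℂ) else 0) - 1, hm,
      θ.2.coe_charDegree, Finset.sum_sub_distrib, Finset.mul_sum]
    simp only [mul_ite, mul_one, mul_zero, Finset.sum_const, card_Af, nsmul_eq_mul, coe_one]
    field_simp
  have h0 := hf1 0
  rw [Finset.sum_eq_zero fun a _ => if_neg (by rw [add_zero]; exact (i * a).ne_zero),
    ← (hφ 0).coe_charDegree, ← hχ.coe_charDegree] at h0
  rcases D.ε_sign with h | h <;> rw [h] at h0 hv1 hf1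
  · have h1 : p * charDegree (φ 0) + m * S.ee = charDegree χ := by
      have : ((p * charDegree (φ 0) + m * S.ee : ℕ) : ℂ) = charDegree χ := by
        push_cast at h0 ⊢; linear_combination h0
      exact_mod_cast this
    have h2 : charDegree (φ 0) = 0 := by
      by_contra h2
      have := Nat.mul_le_mul_left p (Nat.pos_of_ne_zero h2)
      omega
    exact Or.inr ⟨m, by rw [← h1, h2, mul_comm m]; simp, fun k => by simpa using hv1 k⟩
  have h1 : p * charDegree (φ 0) = charDegree χ + m * S.ee := by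
    have : ((p * charDegree (φ 0) : ℕ) : ℂ) = (charDegree χ + m * S.ee : ℕ) := by
      push_cast at h0 ⊢; linear_combination h0
    exact_mod_cast this
  have h2 : ∀ b ∈ S.Af, charDegree (φ (-((i : ZMod p) * (b : ZMod p)))) + m = charDegree (φ 0) := fun b hb => by
    have h3 := hf1 (-((i : ZMod p) * (b : ZMod p)))
    rw [Finset.sum_eq_single b (fun a _ hab => if_neg fun e => hab (Units.ext
      (mul_left_cancel₀ i.ne_zero (add_neg_eq_zero.1 e)))) (fun e => absurd hb e),
      if_pos (add_neg_cancel _), ← (hφ _).coe_charDegree, ← hχ.coe_charDegree] at h3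
    have : ((charDegree (φ (-((i : ZMod p) * (b : ZMod p)))) + m : ℕ) : ℂ) = charDegree (φ 0) := by
      refine mul_left_cancel₀ hp0 ?_
      push_cast at h0 h3 ⊢; linear_combination h3 - h0
    exact_mod_cast this
  have h3 := h2 1 S.one_mem_Af
  have h4 : charDegree (φ 0) = 1 := by
    by_contra h4
    have h5 : m * S.ee ≤ charDegree (φ 0) * S.ee := Nat.mul_le_mul_right _ (by omega)
    obtain ⟨n, hn⟩ : ∃ n, charDegree (φ 0) = n + 2 := ⟨charDegree (φ 0) - 2, by omega⟩
    rw [hn] at h1 h5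
    nlinarith
  have hm1 : m = 1 := by omega
  rw [h4, hm1] at h1
  refine Or.inl ⟨hχ, by omega, fun v hv => ?_, fun k => by simp [hv1, hm1]⟩
  obtain ⟨hvC, hv'⟩ := S.mem_V.1 hv
  have r2 : ¬ p ∣ orderOf (⟨v, hvC⟩ : S.C) := by rwa [← orderOf_coe]
  have h5 := Finset.sum_congr rfl fun j (_ : j ∈ Finset.univ) => hφ' j ⟨v, hvC⟩ r2
  rw [sum_four, ← Finset.mul_sum, mul_right_inj' hp0] at h5
  set I := S.Af.image fun b : (ZMod p)ˣ => -((i : ZMod p) * (b : ZMod p)) with hI
  have hIc : I.card = S.ee := by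
    rw [hI, Finset.card_image_of_injective _ fun a b e =>
      Units.ext (mul_left_cancel₀ i.ne_zero (neg_injective e)), card_Af]
  rw [← Finset.sum_add_sum_compl I, Finset.sum_eq_zero (s := I) fun j hj => ?_,
    Finset.sum_congr rfl fun j hj => hf0 j (fun a ha e => ?_) _ r2] at h5
  · rw [hχ.isCharacter.mem_charCenter, ← show _ = χ v from h5, zero_add, Finset.sum_const,
      Finset.card_compl, hIc, ZMod.card, nsmul_eq_mul, norm_mul,
      (hφ 0).norm_eq_one_of_apply_one (by rw [← (hφ 0).coe_charDegree, h4, Nat.cast_one]),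
      Complex.norm_natCast, mul_one]
    congr 1
    omega
  · exact Finset.mem_compl.1 hj (Finset.mem_image.2 ⟨a, ha, (eq_neg_of_add_eq_zero_right e).symm⟩)
  · obtain ⟨b, hb, rfl⟩ := Finset.mem_image.1 hj
    have := h2 b hb
    rw [(hφ _).eq_zero_of_apply_one (by
      rw [← (hφ _).coe_charDegree, show charDegree (φ (-((i : ZMod p) * (b : ZMod p)))) = 0 by omega, Nat.cast_zero])]
    rfl

end Setup

end Cfsg.Agent.Blk.One
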