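import Mathlib
import Cfsg.Agent.Blk.LowA
import Cfsg.Agent.Blk.OneGalois
import Cfsg.Agent.Ch.Galois
import Cfsg.Agent.Ch.Det

/-!
# Tools for characters of degree `p - e`
-/

set_option autoImplicit false
set_option linter.unusedSectionVars false
set_option linter.style.haveILetI false

namespace Cfsg.Agent.Blk.One

open Cfsg Cfsg.Agent.Ch Subgroup Cfsg.Agent.Blk.Om Cfsg.Agent.GT
open scoped ComplexConjugate

variable {G : Type*} [Group G] {p : ℕ} [hp : Fact p.Prime] [Fintype G]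

theorem apply_mul_cen {χ : G → ℂ} (hχ : IsIrrCharacter G χ) {v : G} (hv : v ∈ charCenter χ)
    (g : G) : χ (v * g) = χ v / χ 1 * χ g := by
  rw [div_mul_eq_mul_div, ← hχ.isCharacter.apply_mul_of_mem_charCenter hv,
    mul_div_cancel_left₀ _ hχ.apply_one_ne_zero]

theorem mul_conj_cen {χ : G → ℂ} (hχ : IsIrrCharacter G χ) {v : G} (hv : v ∈ charCenter χ) :
    χ v / χ 1 * conj (χ v / χ 1) = 1 := by
  rw [Complex.mul_conj, Complex.normSq_eq_norm_sq, norm_div,
    hχ.isCharacter.mem_charCenter_iff_norm.1 hv, div_self (norm_ne_zero_iff.2 hχ.apply_one_ne_zero)]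
  simp

theorem apply_sq_cen {χ : G → ℂ} (hχ : IsIrrCharacter G χ) {v : G} (hv : v ∈ charCenter χ)
    (g : G) : χ (v * g * (v * g)) = (χ v / χ 1) ^ 2 * χ (g * g) := by
  rw [mul_assoc, apply_mul_cen hχ hv, hχ.isClassFunction.mul_comm g, mul_assoc,
    apply_mul_cen hχ hv]
  ring

/-- A character twisted so that the central elements of order dividing `n` act trivially. -/
theorem exists_twist {χ : G → ℂ} (hχ : IsIrrCharacter G χ) {n : ℕ} (hn0 : 0 < n)
    (hn : (charDegree χ).Coprime n) : ∃ μ : G →* ℂˣ,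
      ∀ s ∈ charCenter χ, s ^ n = 1 → χ s * μ s = χ 1 := by
  obtain ⟨f, hf⟩ := hχ.isCharacter.exists_detHom
  obtain ⟨lam, hl, -⟩ := hχ.isCharacter.exists_charCenter_hom hχ.ne_zero
  refine ⟨(f ^ (charDegree χ ^ (n.totient - 1)))⁻¹, fun s hs h => ?_⟩
  have h1 : f s = lam ⟨s, hs⟩ ^ charDegree χ := Units.ext (by
    rw [← show _ = (f s : ℂ) from congrFun hf s, hχ.isCharacter.detChar_of_scalar (hl ⟨s, hs⟩)]
    simp)
  have h2 : lam ⟨s, hs⟩ ^ n = 1 := by
    rw [← map_pow, show (⟨s, hs⟩ : charCenter χ) ^ n = 1 from Subtype.ext h, map_one]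
  have h3 := hl ⟨s, hs⟩ 1
  rw [mul_one] at h3
  rw [MonoidHom.inv_apply, MonoidHom.pow_apply, h1, ← pow_mul, ← pow_succ',
    Nat.sub_add_cancel (Nat.totient_pos.2 hn0), pow_eq_pow_iff_modEq.2
      ((Nat.ModEq.pow_totient hn).of_dvd (orderOf_dvd_of_pow_eq_one h2)), pow_one, h3,
    mul_right_comm, Units.mul_inv, one_mul]

theorem charCenter_mul_hom {χ : G → ℂ} (hχ : IsIrrCharacter G χ) (μ : G →* ℂˣ) :
    charCenter (fun g => χ g * μ g) = charCenter χ := by
  ext g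
  rw [(hχ.mul_monoidHom μ).isCharacter.mem_charCenter_iff_norm,
    hχ.isCharacter.mem_charCenter_iff_norm]
  simp only [norm_mul, norm_monoidHom_units, mul_one]

namespace Setup

variable (S : Setup p G)

theorem exists_Vr_mul (c : S.C) : ∃ v ∈ S.Vr, (c : G) = v * S.x ^ (S.pr c).val := by
  refine ⟨(c * (S.xc ^ (S.pr c).val)⁻¹ : S.C), S.mem_V.2 ⟨Subtype.coe_prop _, ?_⟩, by simp [coe_xc]⟩
  rw [orderOf_coe, ← pr_eq_zero_iff, pr_mul, pr_inv, pr_xc_pow, add_neg_cancel]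

open Classical in
theorem sum_sing {F : G → ℂ} (hF : IsClassFunction G F) (hv : ∀ v ∈ S.Vr, ∀ g, F (v * g) = F g) :
    (p * S.ee : ℂ) * ∑ g, (if p ∣ orderOf g then F g else 0) =
      Nat.card G * ∑ k : (ZMod p)ˣ, F (S.x ^ (k : ZMod p).val) := by
  refine S.sum_singular (F := fun g => if p ∣ orderOf g then F g else 0)
    (IsClassFunction.of_isConj fun g x h => by
      obtain ⟨c, hc⟩ := h
      rw [hF.eq_of_isConj ⟨c, hc⟩, SemiconjBy.orderOf_eq _ hc])
    (fun j => F (S.x ^ j.val)) (fun c hc => ?_) fun g hg => if_neg hg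
  obtain ⟨v, hv', h⟩ := S.exists_Vr_mul c
  rw [if_pos (by rwa [orderOf_coe]), h, hv v hv']

theorem inner_sing {Φ Ψ : G → ℂ} (hΦ : IsClassFunction G Φ) (hΨ : IsClassFunction G Ψ)
    (h0 : ∀ g, ¬ p ∣ orderOf g → Ψ g = 0)
    (hv : ∀ v ∈ S.Vr, ∀ g, Φ (v * g) * conj (Ψ (v * g)) = Φ g * conj (Ψ g)) :
    (p * S.ee : ℂ) * classInner Φ Ψ =
      ∑ k : (ZMod p)ˣ, Φ (S.x ^ (k : ZMod p).val) * conj (Ψ (S.x ^ (k : ZMod p).val)) := by
  classical
  have := S.sum_sing (F := fun g => Φ g * conj (Ψ g)) (hΦ.mul hΨ.complexConj) hv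
  rw [Finset.sum_congr rfl fun g _ => show _ = Φ g * conj (Ψ g) from ?_, ← card_mul_classInner,
    mul_left_comm] at this
  · exact mul_left_cancel₀ (natCard_ne_zero G) this
  · split_ifs with h
    · rfl
    · rw [h0 g h, map_zero, mul_zero]

theorem x_pow_mul (j : ZMod p) (k : ℕ) : (S.x ^ j.val) ^ k = S.x ^ (j * k).val := by
  rw [← pow_mul, pow_eq_pow_iff_modEq, S.hx, ← ZMod.natCast_eq_natCast_iff]
  simp

theorem exists_exponent (κ : (ZMod p)ˣ) {w : ℕ} (hw : w.Coprime (zpowers S.x).index) :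
    ∃ k : ℕ, k.Coprime (Nat.card G) ∧ (k : ZMod p) = κ ∧
      ∀ g : G, ¬ p ∣ orderOf g → g ^ k = g ^ w := by
  obtain ⟨k, h1, h2⟩ := Nat.chineseRemainder ((Nat.Prime.coprime_iff_not_dvd hp.out).2 S.hidx)
    (κ : ZMod p).val w
  refine ⟨k, ?_, by rw [(ZMod.natCast_eq_natCast_iff _ _ _).2 h1, ZMod.natCast_zmod_val],
    fun g hg => pow_eq_pow_iff_modEq.2
      (h2.of_dvd (orderOf_dvd_of_pow_eq_one (S.pow_index_of_regular hg)))⟩
  rw [S.card_eq]
  exact Nat.Coprime.mul_right (h1.gcd_eq.trans (ZMod.val_coe_unit_coprime κ))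
    (h2.gcd_eq.trans hw)

variable {S} {χ : G → ℂ} {i : (ZMod p)ˣ}

theorem Low.exists_conj (h : S.Low χ i) (κ : (ZMod p)ˣ) {w : ℕ}
    (hw : w.Coprime (zpowers S.x).index) :
    ∃ ξ, S.Low ξ (i * κ) ∧ ∀ g, ¬ p ∣ orderOf g → ξ g = χ (g ^ w) := by
  obtain ⟨k, h1, h2, h3⟩ := S.exists_exponent κ hw
  have h4 : charDegree (fun g => χ (g ^ k)) = charDegree χ := charDegree_congr (by simp)
  refine ⟨fun g => χ (g ^ k), ⟨h.irr.comp_pow_of_coprime h1, h4 ▸ h.deg, fun v hv => ?_,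
    fun j => ?_⟩, fun g hg => by simp only [h3 g hg]⟩
  · rw [(h.irr.comp_pow_of_coprime h1).isCharacter.mem_charCenter, h4]
    exact h.irr.isCharacter.mem_charCenter.1 (h.cen _ (pow_mem hv k))
  · simp only [x_pow_mul, h2]
    rw [← Units.val_mul, h.val]
    simp only [Units.val_mul]
    ring_nf

theorem Low.mul_hom (h : S.Low χ i) (he : S.ee ≠ 1) (μ : G →* ℂˣ) :
    S.Low (fun g => χ g * μ g) i := by
  have h1 : μ S.x = 1 := Abelianization.commutator_subset_ker μ (S.x_mem_commutator he)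
  refine ⟨h.irr.mul_monoidHom μ, ?_, ?_, fun k => by simp [h.val, h1]⟩
  · rw [charDegree_congr (ψ := χ) (by simp), h.deg]
  · rw [charCenter_mul_hom h.irr]; exact h.cen

theorem Low.conj (h : S.Low χ i) : S.Low (fun g => conj (χ g)) (-i) := by
  have h4 : charDegree (fun g => conj (χ g)) = charDegree χ :=
    charDegree_congr h.irr.isCharacter.conj_apply_one
  refine ⟨h.irr.complexConj, h4 ▸ h.deg, fun v hv => ?_, fun k => ?_⟩
  · rw [h.irr.complexConj.isCharacter.mem_charCenter, h4, Complex.norm_conj]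
    exact h.irr.isCharacter.mem_charCenter.1 (h.cen _ hv)
  · simp [h.val, conj_gp]

theorem Low.inner_sub {ξ ξ' Φ : G → ℂ} {j j' : (ZMod p)ˣ} (h1 : S.Low ξ j) (h2 : S.Low ξ' j')
    (h3 : ∀ g, ¬ p ∣ orderOf g → ξ g = ξ' g) (hΦ : IsClassFunction G Φ)
    (h4 : ∀ v ∈ S.Vr, ∀ g, Φ (v * g) = ξ v / ξ 1 * Φ g) :
    (p * S.ee : ℂ) * (classInner Φ ξ - classInner Φ ξ') = ∑ k : (ZMod p)ˣ,
      Φ (S.x ^ (k : ZMod p).val) * (S.gp (-((j' : ZMod p) * k)) - S.gp (-((j : ZMod p) * k))) := by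
  rw [← classInner_sub_right, S.inner_sing hΦ (h1.irr.isClassFunction.sub h2.irr.isClassFunction)
    (fun g hg => sub_eq_zero.2 (h3 g hg)) fun v hv g => ?_]
  · refine Finset.sum_congr rfl fun k _ => ?_
    simp only [Pi.sub_apply, h1.val, h2.val, map_sub, map_neg, conj_gp]
    ring
  · have := mul_conj_cen h1.irr (h1.cen v hv)
    simp only [Pi.sub_apply, h4 v hv, apply_mul_cen h1.irr (h1.cen v hv),
      apply_mul_cen h2.irr (h2.cen v hv), ← h3 v (S.mem_V.1 hv).2,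
      ← h3 1 (by simpa using hp.out.ne_one), map_sub, map_mul]
    linear_combination Φ g * (conj (ξ g) - conj (ξ' g)) * this

theorem Low.cast_deg (h : S.Low χ i) : χ 1 = p - S.ee := by
  rw [← h.irr.coe_charDegree, eq_sub_iff_add_eq]
  exact_mod_cast h.deg

theorem Vr_eq_center (hN : S.N ≠ ⊤) (h : S.Low χ i) (hf : charKer χ = ⊥) : S.Vr = center G :=
  le_antisymm (fun v hv => h.irr.isCharacter.charCenter_le_center hf (h.cen v hv)) fun z hz =>
    S.mem_V.2 ⟨(S.hC z).2 (mem_center_iff.1 hz _).symm, fun h => S.not_dvd_card_center hN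
      (h.trans (orderOf_dvd_natCard _ hz))⟩

theorem charCenter_eq_center (hχ : IsIrrCharacter G χ) (hf : charKer χ = ⊥) :
    charCenter χ = center G :=
  le_antisymm (hχ.isCharacter.charCenter_le_center hf) hχ.center_le_charCenter

end Setup

end Cfsg.Agent.Blk.One
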