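import Mathlib
import Cfsg.Agent.Blk.OneRed

/-!
# Reduction of subspaces along a valuation ring of `ℂ`; homomorphisms of lattices modulo
projective homomorphisms
-/

set_option autoImplicit false
set_option linter.unusedSectionVars false
set_option linter.style.haveILetI false

namespace Cfsg.Agent.Blk.One

open Cfsg Cfsg.Agent.Ch Subgroup Module

section Red

variable {A : ValuationSubring ℂ} {k ι : Type*} [Field k] [Fintype ι] (f : A →+* k)

theorem exists_normalize (A : ValuationSubring ℂ) {c : ι → ℂ} (hc : c ≠ 0) :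
    ∃ i, c i ≠ 0 ∧ ∀ j, c j / c i ∈ A := by
  obtain ⟨i₀, h0⟩ := Function.ne_iff.1 hc
  obtain ⟨i, -, hi⟩ := Finset.exists_max_image Finset.univ (fun j => A.valuation (c j))
    ⟨i₀, Finset.mem_univ _⟩
  have h1 : c i ≠ 0 := fun e => h0 (by simpa [e] using hi i₀ (Finset.mem_univ _))
  refine ⟨i, h1, fun j => (A.valuation_le_one_iff _).1 ?_⟩
  rw [map_div₀]
  exact div_le_one_of_le₀ (hi j (Finset.mem_univ _)) zero_le

/-- The reduction of the integral points of a subspace. -/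
def redSub (U : Submodule ℂ (ι → ℂ)) : Submodule k (ι → k) :=
  Submodule.span k {w | ∃ u : ι → A, (fun i => (u i : ℂ)) ∈ U ∧ (fun i => f (u i)) = w}

theorem finrank_redSub_le (U : Submodule ℂ (ι → ℂ)) : finrank k (redSub f U) ≤ finrank ℂ U := by
  obtain ⟨b, hb, h1, h2⟩ := exists_linearIndependent k
    {w | ∃ u : ι → A, (fun i => (u i : ℂ)) ∈ U ∧ (fun i => f (u i)) = w}
  haveI := h2.setFinite.fintype
  choose u hu hu' using fun w : b => hb w.2
  rw [redSub, ← h1, finrank_span_set_eq_card h2, Set.toFinset_card]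
  refine LinearIndependent.fintype_card_le_finrank (b := fun w : b => (⟨_, hu w⟩ : U))
    (Fintype.linearIndependent_iff.2 fun g hg => ?_)
  by_contra h3
  obtain ⟨w₀, h4, h5⟩ := exists_normalize A (c := g) fun e => h3 (congrFun e)
  have h6 : ∀ j, ∑ w, (⟨_, h5 w⟩ : A) * u w j = 0 := fun j => Subtype.ext (by
    have := congrFun (congrArg Subtype.val hg) j
    simp only [AddSubmonoidClass.coe_finset_sum, SetLike.val_smul, Finset.sum_apply, Pi.smul_apply,
      smul_eq_mul, ZeroMemClass.coe_zero, Pi.zero_apply] at this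
    simp only [AddSubmonoidClass.coe_finset_sum, MulMemClass.coe_mul, div_mul_eq_mul_div,
      ← Finset.sum_div, this, zero_div, ZeroMemClass.coe_zero])
  have h7 := Fintype.linearIndependent_iff.1 h2 (fun w => f ⟨_, h5 w⟩) (funext fun j => by
    simp only [Finset.sum_apply, Pi.smul_apply, smul_eq_mul, ← hu', ← map_mul, ← map_sum, h6,
      map_zero, Pi.zero_apply]) w₀
  rw [show (⟨_, h5 w₀⟩ : A) = 1 from Subtype.ext (div_self h4), map_one] at h7
  exact one_ne_zero h7

theorem le_finrank_redSub (U : Submodule ℂ (ι → ℂ)) : finrank ℂ U ≤ finrank k (redSub f U) := by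
  induction hn : finrank ℂ U using Nat.strong_induction_on generalizing U with
  | _ n ih =>
  rcases eq_or_ne U ⊥ with rfl | hU
  · simp [← hn]
  obtain ⟨c, hc, hc0⟩ := (Submodule.ne_bot_iff U).1 hU
  obtain ⟨i, h1, h2⟩ := exists_normalize A hc0
  set U' := U ⊓ LinearMap.ker (LinearMap.proj i) with hU'
  have h3 : finrank ℂ U' < n := hn ▸ Submodule.finrank_lt_finrank_of_lt
    (lt_of_le_of_ne inf_le_left fun e => h1 (e.ge hc).2)
  have h4 : U ≤ U' ⊔ Submodule.span ℂ {c} := fun v hv => by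
    rw [← sub_add_cancel v ((v i / c i) • c)]
    exact Submodule.add_mem_sup ⟨U.sub_mem hv (U.smul_mem _ hc), by simp [h1]⟩
      (Submodule.smul_mem _ _ (Submodule.mem_span_singleton_self c))
  have h5 := (Submodule.finrank_mono h4).trans (Submodule.finrank_add_le_finrank_add_finrank _ _)
  rw [finrank_span_singleton hc0] at h5
  have h6 : redSub f U' < redSub f U := by
    refine lt_of_le_of_ne (Submodule.span_mono fun w ⟨u, hu, e⟩ => ⟨u, hu.1, e⟩) fun e => ?_
    have h7 : redSub f U' ≤ LinearMap.ker (LinearMap.proj i) := Submodule.span_le.2 (by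
      rintro _ ⟨u, hu, rfl⟩
      rw [SetLike.mem_coe, LinearMap.mem_ker, LinearMap.proj_apply,
        show u i = 0 from Subtype.ext hu.2, map_zero])
    have h8 := h7 (e.ge (Submodule.subset_span ⟨fun j => ⟨_, h2 j⟩, by
      simp only [div_eq_inv_mul]; exact U.smul_mem (c i)⁻¹ hc, rfl⟩))
    replace h8 : f ⟨_, h2 i⟩ = 0 := h8
    rw [show (⟨_, h2 i⟩ : A) = 1 from Subtype.ext (div_self h1), map_one] at h8
    exact one_ne_zero h8
  have := ih _ h3 U' rfl
  have := Submodule.finrank_lt_finrank_of_lt h6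
  omega

theorem finrank_range_red_le [DecidableEq ι] (E : Matrix ι ι A) :
    finrank k (LinearMap.range (E.map f).toLin') ≤
      finrank ℂ (LinearMap.range (E.map A.subtype).toLin') := by
  refine (Submodule.finrank_mono ?_).trans (finrank_redSub_le f _)
  rw [Matrix.range_toLin']
  refine Submodule.span_le.2 ?_
  rintro _ ⟨j, rfl⟩
  exact Submodule.subset_span ⟨fun i => E i j, by
    rw [Matrix.range_toLin']; exact Submodule.subset_span ⟨j, rfl⟩, rfl⟩

variable {ι₁ ι₂ : Type*} [Fintype ι₁] [Fintype ι₂] [DecidableEq ι₁] [DecidableEq ι₂]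

/-- Coordinates on a space of linear maps. -/
noncomputable def homCoord (R ι₁ ι₂ : Type*) [CommRing R] [Fintype ι₁] [DecidableEq ι₁] :
    (ι₂ × ι₁ → R) ≃ₗ[R] ((ι₁ → R) →ₗ[R] (ι₂ → R)) :=
  (LinearEquiv.curry R R ι₂ ι₁).trans ((Matrix.ofLinearEquiv R).trans Matrix.toLin')

/-- The reduction of the integral points of a space of linear maps. -/
def redHom (U : Submodule ℂ ((ι₁ → ℂ) →ₗ[ℂ] (ι₂ → ℂ))) : Submodule k ((ι₁ → k) →ₗ[k] (ι₂ → k)) :=
  Submodule.span k {w | ∃ M : Matrix ι₂ ι₁ A, (M.map A.subtype).toLin' ∈ U ∧ (M.map f).toLin' = w}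

theorem finrank_redHom (U : Submodule ℂ ((ι₁ → ℂ) →ₗ[ℂ] (ι₂ → ℂ))) :
    finrank k (redHom f U) = finrank ℂ U := by
  have h := le_antisymm (finrank_redSub_le f (U.comap (homCoord ℂ ι₁ ι₂).toLinearMap))
    (le_finrank_redSub f _)
  rw [Submodule.comap_equiv_eq_map_symm, LinearEquiv.finrank_map_eq, ← Submodule.comap_equiv_eq_map_symm,
    ← (homCoord k ι₁ ι₂).finrank_map_eq, redSub, Submodule.map_span] at h
  rw [← h, redHom]
  refine congrArg (fun s => finrank k (Submodule.span k s)) (Set.ext fun w => ⟨?_, ?_⟩)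
  · rintro ⟨M, hM, rfl⟩
    exact ⟨_, ⟨fun q => M q.1 q.2, hM, rfl⟩, rfl⟩
  · rintro ⟨_, ⟨u, hu, rfl⟩, rfl⟩
    exact ⟨Matrix.of fun a b => u (a, b), hu, rfl⟩

end Red

variable {G : Type*} [Group G] {p : ℕ} [hp : Fact p.Prime] [Fintype G]

theorem redRep_apply {A k ι : Type*} [CommRing A] [Field k] [Fintype ι] [DecidableEq ι]
    (f : A →+* k) (σ : G →* Matrix ι ι A) (g : G) : redRep f σ g = ((σ g).map f).toLin' := rfl

theorem trace_redRep_hom {A k ι : Type*} [CommRing A] [Field k] [Fintype ι] [DecidableEq ι]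
    (f : A →+* k) (σ : G →* Matrix ι ι A) (g : G) :
    LinearMap.trace k _ (redRep f σ g) = f (σ g).trace :=
  (Matrix.trace_toLin'_eq _).trans (AddMonoidHom.map_trace f _).symm

theorem linHom_redRep {A k ι₁ ι₂ : Type*} [CommRing A] [Field k] [Fintype ι₁] [DecidableEq ι₁]
    [Fintype ι₂] [DecidableEq ι₂] (f : A →+* k) (σ₁ : G →* Matrix ι₁ ι₁ A)
    (σ₂ : G →* Matrix ι₂ ι₂ A) (g : G) (M : Matrix ι₂ ι₁ A) :
    (redRep f σ₁).linHom (redRep f σ₂) g (M.map f).toLin' =
      ((σ₂ g * M * σ₁ g⁻¹).map f).toLin' := by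
  rw [Matrix.map_mul, Matrix.map_mul, Matrix.toLin'_mul, Matrix.toLin'_mul]
  rfl

theorem finrank_invariants_linHom {V W : Type*} [AddCommGroup V] [Module ℂ V] [AddCommGroup W]
    [Module ℂ W] [FiniteDimensional ℂ V] [FiniteDimensional ℂ W] (ρ : Representation ℂ G V)
    (σ : Representation ℂ G W) :
    (finrank ℂ (ρ.linHom σ).invariants : ℂ) = classInner σ.character ρ.character := by
  rw [← classInner_character_one, classInner_eq_mul_conj_one σ.character]
  congr 1
  ext g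
  rw [Representation.char_linHom, (isCharacter_character ρ).apply_inv, mul_comm]
  rfl

namespace Setup

variable (S : Setup p G)

theorem exists_mackey {W : Type*} [AddCommGroup W] (τ : G → W →+ W)
    (hτ : ∀ g h w, τ (g * h) w = τ g (τ h w)) [Fintype (zpowers S.x)] {u : W}
    (hu : ∀ n ∈ S.N, τ n u = u) :
    ∃ w h, (∀ g, τ g w = w) ∧ u = w + ∑ y : zpowers S.x, τ y h := by
  classical
  haveI := Fintype.ofFinite (G ⧸ S.N)
  set F : G ⧸ S.N → W := fun q => τ q.out u with hF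
  have h1 : ∀ g : G, F (g : G ⧸ S.N) = τ g u := fun g => by
    obtain ⟨y, hy⟩ := QuotientGroup.mk_out_eq_mul S.N g
    simp only [hF, hy, hτ, hu _ y.2]
  have h2 : ∀ (g : G) (q : G ⧸ S.N), F (g • q) = τ g (F q) := fun g q => by
    obtain ⟨a, rfl⟩ := QuotientGroup.mk_surjective q
    rw [show g • (a : G ⧸ S.N) = ((g * a : G) : G ⧸ S.N) from rfl, h1, h1, hτ]
  obtain ⟨h, hh⟩ := exists_sum_eq_of_free (P := zpowers S.x) (fun y => τ y) F (fun y q => h2 y q)
    (Finset.univ.erase ((1 : G) : G ⧸ S.N)) (fun y q hq => by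
      obtain ⟨a, rfl⟩ := QuotientGroup.mk_surjective q
      refine Finset.mem_erase.2 ⟨fun e => (Finset.mem_erase.1 hq).1 ?_, Finset.mem_univ _⟩
      have := QuotientGroup.eq.1 (show (((y : G) * a : G) : G ⧸ S.N) = (1 : G) from e)
      rw [mul_one, mul_inv_rev, S.N.mul_mem_cancel_right
        (inv_mem (S.C_le_N (S.zpowers_le_C y.2)))] at this
      exact QuotientGroup.eq.2 (by rwa [mul_one])) fun q hq y hy => by
      obtain ⟨a, rfl⟩ := QuotientGroup.mk_surjective q
      have h3 := QuotientGroup.eq.1 (show (((y : G) * a : G) : G ⧸ S.N) = a from hy).symm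
      by_contra h4
      have h5 : (y : G) ≠ 1 := fun e => h4 (Subtype.ext e)
      refine h5 (S.hTI a (fun e => (Finset.mem_erase.1 hq).1 (QuotientGroup.eq.2 (by simpa))) y y.2
        (S.mem_zpowers_of_mem_N (by rwa [mul_assoc]) ⟨1, ?_⟩))
      refine Eq.trans ?_ ((S.orderOf_of_mem y.2 h5).trans (pow_one p).symm)
      simpa using (MulAut.conj a⁻¹).orderOf_eq y
  refine ⟨∑ q, F q, -h, fun g => ?_, ?_⟩
  · rw [map_sum]
    simp only [← h2]
    exact Equiv.sum_comp (MulAction.toPerm g) F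
  · rw [← Finset.add_sum_erase _ _ (Finset.mem_univ ((1 : G) : G ⧸ S.N)), hh, h1, hu 1 (one_mem _)]
    simp

variable {A : ValuationSubring ℂ} {k ι₁ ι₂ : Type*} [Field k] [Fintype ι₁] [Fintype ι₂]
  [DecidableEq ι₁] [DecidableEq ι₂] (f : A →+* k) (σ₁ : G →* Matrix ι₁ ι₁ A)
  (σ₂ : G →* Matrix ι₂ ι₂ A) [Fintype (zpowers S.x)]

theorem exists_mackey_red {M : Matrix ι₂ ι₁ A} (hM : ∀ n ∈ S.N, σ₂ n * M * σ₁ n⁻¹ = M) :
    ∃ (w : Matrix ι₂ ι₁ A) (φ : (ι₁ → k) →ₗ[k] (ι₂ → k)), (∀ g, σ₂ g * w * σ₁ g⁻¹ = w) ∧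
      (M.map f).toLin' = (w.map f).toLin' +
        ∑ y : zpowers S.x, (redRep f σ₁).linHom (redRep f σ₂) y φ := by
  obtain ⟨w, h, hw, e⟩ := S.exists_mackey (W := Matrix ι₂ ι₁ A) (fun g => AddMonoidHom.mk'
    (fun M => σ₂ g * M * σ₁ g⁻¹) fun _ _ => by rw [Matrix.mul_add, Matrix.add_mul])
    (fun g h w => by simp [Matrix.mul_assoc]) hM
  refine ⟨w, (h.map f).toLin', hw, ?_⟩
  simp only [linHom_redRep, ← map_sum, ← map_add]
  rw [e]
  congr 1
  ext a b
  simp [Matrix.sum_apply, -Matrix.map_mul]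

theorem inner_le [Fintype S.N] {χ₁ χ₂ : G → ℂ} (h₁ : ∀ g, ((σ₁ g).trace : ℂ) = χ₁ g)
    (h₂ : ∀ g, ((σ₂ g).trace : ℂ) = χ₂ g) (W : Submodule k ((ι₁ → k) →ₗ[k] (ι₂ → k)))
    (hW : ∀ ψ φ, (∀ n ∈ S.N, (redRep f σ₁).linHom (redRep f σ₂) n ψ = ψ) →
      ψ = ∑ y : zpowers S.x, (redRep f σ₁).linHom (redRep f σ₂) y φ → ψ ∈ W) :
    (classInner (fun n : S.N => χ₂ n) fun n : S.N => χ₁ n).re ≤
      (classInner χ₂ χ₁).re + finrank k W := by
  have e₁ : (redRep A.subtype σ₁).character = χ₁ := funext fun g => (trace_redRep_hom _ _ g).trans (h₁ g)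
  have e₂ : (redRep A.subtype σ₂).character = χ₂ := funext fun g => (trace_redRep_hom _ _ g).trans (h₂ g)
  have h1 := finrank_invariants_linHom ((redRep A.subtype σ₁).comp S.N.subtype)
    ((redRep A.subtype σ₂).comp S.N.subtype)
  rw [← e₁, ← e₂, ← finrank_invariants_linHom, ← show _ = classInner
    (fun n : S.N => (redRep A.subtype σ₂).character n) fun n : S.N =>
      (redRep A.subtype σ₁).character n from h1, ← finrank_redHom f, ← finrank_redHom f]
  norm_cast
  refine (Submodule.finrank_mono (Submodule.span_le.2 ?_)).trans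
    (Submodule.finrank_add_le_finrank_add_finrank _ _)
  rintro _ ⟨M, hM, rfl⟩
  have h2 : ∀ n ∈ S.N, σ₂ n * M * σ₁ n⁻¹ = M := fun n hn =>
    Matrix.map_injective Subtype.val_injective (Matrix.toLin'.injective
      ((linHom_redRep A.subtype σ₁ σ₂ n M).symm.trans (hM ⟨n, hn⟩)))
  obtain ⟨w, φ, hw, e⟩ := S.exists_mackey_red f σ₁ σ₂ h2
  rw [e]
  refine Submodule.add_mem_sup (Submodule.subset_span ⟨w, fun g => ?_, rfl⟩) (hW _ φ ?_ rfl)
  · rw [linHom_redRep, hw]
  · intro n hn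
    rw [← sub_eq_iff_eq_add'.2 e, map_sub, linHom_redRep, linHom_redRep, hw, h2 n hn]

end Setup

end Cfsg.Agent.Blk.One
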