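import Mathlib

/-!
# A nilpotent operator normalized by an operator of finite order
-/

set_option autoImplicit false
set_option linter.unusedSectionVars false
set_option linter.style.haveILetI false

namespace Cfsg.Agent.Blk.One

open Module Finset

variable {k V : Type*} [Field k] [AddCommGroup V] [Module k V]

/-- The projection on an eigenspace of an operator of finite order. -/
noncomputable def eproj (s : End k V) (M : ℕ) (c : k) : End k V :=
  (M : k)⁻¹ • ∑ j ∈ range M, (c⁻¹ • s) ^ j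

theorem eproj_of_eig {s : End k V} {M : ℕ} (hM : (M : k) ≠ 0) {c : k} (hc : c ≠ 0) {u : V}
    (h : s u = c • u) : eproj s M c u = u := by
  have : ∀ j : ℕ, ((c⁻¹ • s) ^ j) u = u := fun j =>
    (End.pow_apply _ j u).trans (Function.iterate_fixed (by simp [h, smul_smul, hc]) j)
  simp only [eproj, LinearMap.smul_apply, LinearMap.sum_apply, this, sum_const, card_range,
    ← Nat.cast_smul_eq_nsmul k, smul_smul, inv_mul_cancel₀ hM, one_smul]

theorem commute_eproj {s a : End k V} (h : Commute a s) (M : ℕ) (c : k) :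
    Commute a (eproj s M c) :=
  (Commute.sum_right _ _ _ fun j _ => (h.smul_right _).pow_right j).smul_right _

theorem eproj_mem {s : End k V} {U : Submodule k V} (h : ∀ u ∈ U, s u ∈ U) (M : ℕ) (c : k) {u : V}
    (hu : u ∈ U) : eproj s M c u ∈ U := by
  rw [eproj, LinearMap.smul_apply, LinearMap.sum_apply]
  exact U.smul_mem _ (U.sum_mem fun j _ =>
    End.pow_apply_mem_of_forall_mem j (fun x hx => U.smul_mem _ (h x hx)) _ hu)

theorem mul_eproj {s : End k V} {M : ℕ} (hs : s ^ M = 1) {c : k} (hc : c ^ M = 1) (hc0 : c ≠ 0) :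
    s * eproj s M c = c • eproj s M c := by
  have := mul_geom_sum (c⁻¹ • s) M
  rw [smul_pow, inv_pow, hs, hc, inv_one, one_smul, sub_self, sub_mul, sub_eq_zero, one_mul,
    smul_mul_assoc, inv_smul_eq_iff₀ hc0] at this
  rw [eproj, mul_smul_comm, this, smul_comm]

theorem eproj_of_ne {s : End k V} {M : ℕ} (hs : s ^ M = 1) {c c' : k} (hc : c ^ M = 1)
    (hc0 : c ≠ 0) {u : V} (h : s u = c' • u) (hne : c' ≠ c) : eproj s M c u = 0 := by
  have h1 := LinearMap.congr_fun (mul_eproj hs hc hc0) u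
  rw [(commute_eproj (Commute.refl s) M c).eq, End.mul_apply, h, map_smul, LinearMap.smul_apply,
    ← sub_eq_zero, ← sub_smul, smul_eq_zero, sub_eq_zero] at h1
  exact h1.resolve_left hne

/-- The span of the vectors `a ^ j v` with `j ≥ n`. -/
def chain (a : End k V) (v : V) (n : ℕ) : Submodule k V :=
  Submodule.span k (Set.range fun j => (a ^ (n + j)) v)

theorem mem_chain (a : End k V) (v : V) {n j : ℕ} (h : n ≤ j) : (a ^ j) v ∈ chain a v n :=
  Submodule.subset_span ⟨j - n, by simp only [Nat.add_sub_cancel' h]⟩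

theorem apply_mem_chain {a : End k V} {v u : V} {n : ℕ} (h : u ∈ chain a v n) :
    a u ∈ chain a v (n + 1) := by
  refine (Submodule.span_le (p := (chain a v (n + 1)).comap a)).2 ?_ h
  rintro _ ⟨j, rfl⟩
  exact show a _ ∈ _ from End.mul_apply a _ v ▸ pow_succ' a _ ▸ mem_chain a v (by omega)

theorem chain_anti (a : End k V) (v : V) {n m : ℕ} (h : n ≤ m) : chain a v m ≤ chain a v n :=
  Submodule.span_le.2 (by rintro _ ⟨j, rfl⟩; exact mem_chain a v (by omega))

theorem aeval_mem_chain {a : End k V} {v u : V} {n : ℕ} (h : u ∈ chain a v n) (Q : Polynomial k) :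
    Polynomial.aeval a Q u ∈ chain a v n := by
  rw [Polynomial.aeval_eq_sum_range, LinearMap.sum_apply]
  exact Submodule.sum_mem _ fun j _ => Submodule.smul_mem _ _ (End.pow_apply_mem_of_forall_mem j
    (fun x hx => chain_anti a v n.le_succ (apply_mem_chain hx)) _ h)

theorem pow_apply_of_le {a : End k V} {v : V} {n j : ℕ} (h : (a ^ n) v = 0) (hj : n ≤ j) :
    (a ^ j) v = 0 := by
  rw [← Nat.sub_add_cancel hj, pow_add, End.mul_apply, h, map_zero]

theorem chain_eq {a : End k V} {v : V} {n : ℕ} (h : (a ^ n) v = 0) :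
    chain a v 0 = Submodule.span k (Set.range fun j : Fin n => (a ^ (j : ℕ)) v) := by
  refine le_antisymm (Submodule.span_le.2 ?_) (Submodule.span_le.2 ?_)
  · rintro _ ⟨j, rfl⟩
    rcases lt_or_ge j n with hj | hj
    · exact Submodule.subset_span ⟨⟨j, hj⟩, by simp⟩
    · simp only [zero_add, pow_apply_of_le h hj]
      exact zero_mem _
  · rintro _ ⟨j, rfl⟩
    exact mem_chain a v (Nat.zero_le _)

theorem coeff_eq_zero_of_dual {a : End k V} {v : V} {n : ℕ} (h0 : (a ^ (n + 1)) v = 0)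
    {l : Dual k V} (hl : l ((a ^ n) v) ≠ 0) {g : Fin (n + 1) → k}
    (h : ∀ i, l ((a ^ i) (∑ j, g j • (a ^ (j : ℕ)) v)) = 0) (j : Fin (n + 1)) : g j = 0 := by
  induction hj : (j : ℕ) using Nat.strong_induction_on generalizing j with
  | _ m ih =>
  have := h (n - j)
  rw [map_sum, map_sum, sum_eq_single j (fun i _ hi => ?_) (by simp), map_smul, map_smul,
    ← End.mul_apply, ← pow_add, Nat.sub_add_cancel (by omega), smul_eq_zero] at this
  · exact this.resolve_right hl
  rcases lt_or_gt_of_ne (Fin.val_ne_of_ne hi) with h1 | h1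
  · simp [ih i (hj ▸ h1) i rfl]
  · rw [map_smul, ← End.mul_apply, ← pow_add, pow_apply_of_le h0 (by omega)]
    simp

theorem linearIndependent_chain {a : End k V} {v : V} {n : ℕ} (h0 : (a ^ (n + 1)) v = 0)
    (h1 : (a ^ n) v ≠ 0) : LinearIndependent k fun j : Fin (n + 1) => (a ^ (j : ℕ)) v := by
  obtain ⟨l, hl⟩ := Projective.exists_dual_ne_zero k h1
  exact Fintype.linearIndependent_iff.2 fun g hg =>
    coeff_eq_zero_of_dual h0 hl fun i => by rw [hg, map_zero, map_zero]

theorem finrank_chain {a : End k V} {v : V} {n : ℕ} (h0 : (a ^ (n + 1)) v = 0)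
    (h1 : (a ^ n) v ≠ 0) : finrank k (chain a v 0) = n + 1 := by
  rw [chain_eq h0, finrank_span_eq_card (linearIndependent_chain h0 h1), Fintype.card_fin]

/-- `s` has finite order and multiplies `a` by the root of unity `β`. -/
structure Wt (a s : End k V) (β : k) (M : ℕ) : Prop where
  comm : s * a = β • (a * s)
  pow : s ^ M = 1
  ne : (M : k) ≠ 0
  root : β ^ M = 1

theorem ne_zero_of_root {M : ℕ} (hM : (M : k) ≠ 0) {c : k} (hc : c ^ M = 1) : c ≠ 0 := fun e => by
  rw [e, zero_pow fun h => hM (by simp [h])] at hc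
  exact zero_ne_one hc

namespace Wt

variable {a s : End k V} {β : k} {M : ℕ} (h : Wt a s β M)
include h

theorem comm_pow (n : ℕ) : s * a ^ n = β ^ n • (a ^ n * s) := by
  induction n with
  | zero => simp
  | succ n ih => rw [pow_succ, ← mul_assoc, ih, smul_mul_assoc, mul_assoc, h.comm, mul_smul_comm,
      smul_smul, ← mul_assoc, ← pow_succ]

theorem eig_pow {v : V} {c : k} (hv : s v = c • v) (n : ℕ) :
    s ((a ^ n) v) = (β ^ n * c) • (a ^ n) v := by
  rw [← End.mul_apply, h.comm_pow, LinearMap.smul_apply, End.mul_apply, hv, map_smul, smul_smul]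

theorem root_of_eig {v : V} {c : k} (hv : s v = c • v) (h0 : v ≠ 0) : c ^ M = 1 := by
  have := (End.HasEigenvector.pow_apply ⟨End.mem_eigenspace_iff.2 hv, h0⟩ M).symm
  rw [h.pow, End.one_apply, ← sub_eq_zero] at this
  nth_rewrite 2 [← one_smul k v] at this
  rwa [← sub_smul, smul_eq_zero_iff_left h0, sub_eq_zero] at this

theorem pow_mul_eproj (n : ℕ) (c : k) :
    a ^ n * eproj s M c = eproj s M (β ^ n * c) * a ^ n := by
  have h1 : SemiconjBy (a ^ n) (c⁻¹ • s) ((β ^ n * c)⁻¹ • s) := by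
    rw [SemiconjBy, smul_mul_assoc, h.comm_pow, smul_smul, mul_smul_comm, mul_inv, mul_right_comm,
      inv_mul_cancel₀ (pow_ne_zero _ (ne_zero_of_root h.ne h.root)), one_mul]
  simp only [eproj, mul_smul_comm, smul_mul_assoc, mul_sum, sum_mul, (h1.pow_right _).eq]

theorem exists_eig [IsAlgClosed k] [FiniteDimensional k V] {U : Submodule k V}
    (hU : ∀ u ∈ U, s u ∈ U) {n : ℕ} {w : V} (hw : w ∈ U) (h0 : (a ^ n) w ≠ 0) :
    ∃ v ∈ U, ∃ c : k, s v = c • v ∧ (a ^ n) v ≠ 0 := by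
  have h1 : ∀ u ∈ U.map (a ^ n), s u ∈ U.map (a ^ n) := by
    rintro _ ⟨u, hu, rfl⟩
    rw [← End.mul_apply, h.comm_pow]
    exact Submodule.smul_mem _ _ ⟨_, hU u hu, rfl⟩
  haveI : Nontrivial (U.map (a ^ n)) := ⟨⟨⟨_, w, hw, rfl⟩, 0, fun e => h0 (congrArg Subtype.val e)⟩⟩
  obtain ⟨c, hc⟩ := End.exists_eigenvalue (s.restrict h1)
  obtain ⟨⟨_, u, hu, rfl⟩, h2, h3⟩ := hc.exists_hasEigenvector
  replace h2 : s ((a ^ n) u) = c • (a ^ n) u := congrArg Subtype.val (End.mem_eigenspace_iff.1 h2)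
  replace h3 : (a ^ n) u ≠ 0 := fun e => h3 (Subtype.ext e)
  have h4 := h.root_of_eig h2 h3
  have h5 : ((β ^ n)⁻¹ * c) ^ M = 1 := by
    rw [mul_pow, h4, inv_pow, pow_right_comm, h.root, one_pow, inv_one, one_mul]
  refine ⟨_, eproj_mem hU M ((β ^ n)⁻¹ * c) hu, _,
    LinearMap.congr_fun (mul_eproj h.pow h5 (ne_zero_of_root h.ne h5)) u, ?_⟩
  rwa [← End.mul_apply, h.pow_mul_eproj, mul_inv_cancel_left₀
    (pow_ne_zero _ (ne_zero_of_root h.ne h.root)), End.mul_apply,
    eproj_of_eig h.ne (ne_zero_of_root h.ne h4) h2]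

theorem induction [IsAlgClosed k] [FiniteDimensional k V] {q : ℕ} (hq : a ^ q = 0)
    (P : Submodule k V → Prop) (h0 : P ⊥)
    (step : ∀ (n : ℕ) (v : V) (c : k) (U : Submodule k V), n < q → s v = c • v →
      (a ^ (n + 1)) v = 0 → (a ^ n) v ≠ 0 → Disjoint (chain a v 0) U → P U →
        P (chain a v 0 ⊔ U)) : P ⊤ := by
  classical
  suffices H : ∀ U : Submodule k V, (∀ u ∈ U, a u ∈ U) → (∀ u ∈ U, s u ∈ U) → P U from
    H ⊤ (fun _ _ => trivial) fun _ _ => trivial
  intro U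
  induction hd : finrank k U using Nat.strong_induction_on generalizing U with
  | _ d ih =>
  intro ha hs
  rcases eq_or_ne U ⊥ with rfl | hU
  · exact h0
  have hex : ∃ m, ∀ u ∈ U, (a ^ m) u = 0 := ⟨q, fun u _ => by rw [hq]; rfl⟩
  obtain ⟨n, hn⟩ := Nat.exists_eq_succ_of_ne_zero (n := Nat.find hex) fun e =>
    hU ((Submodule.eq_bot_iff U).2 fun u hu => by simpa [e] using Nat.find_spec hex u hu)
  have h1 : ∀ u ∈ U, (a ^ (n + 1)) u = 0 := by simpa only [hn] using Nat.find_spec hex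
  have h2 := Nat.find_min hex (hn ▸ n.lt_succ_self)
  push Not at h2
  obtain ⟨w, hw, h2⟩ := h2
  obtain ⟨v, hv, c, h3, h4⟩ := h.exists_eig hs hw h2
  obtain ⟨l₀, hl₀⟩ := Projective.exists_dual_eq_one k h4
  have h5 := h.eig_pow h3 n
  have h6 := h.root_of_eig h5 h4
  have h7 := ne_zero_of_root h.ne h6
  set l : Dual k V := l₀ ∘ₗ eproj s M (β ^ n * c) with hl
  have hl1 : l ((a ^ n) v) = 1 := by rw [hl, LinearMap.comp_apply, eproj_of_eig h.ne h7 h5, hl₀]
  have hl2 : ∀ u, l (s u) = (β ^ n * c) * l u := fun u => by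
    rw [hl, LinearMap.comp_apply, ← End.mul_apply, ← (commute_eproj (Commute.refl s) M _).eq,
      mul_eproj h.pow h6 h7, LinearMap.smul_apply, map_smul]
    rfl
  set U' := U ⊓ ⨅ i : ℕ, LinearMap.ker (l ∘ₗ a ^ i) with hU'
  have hm : ∀ u, u ∈ U' ↔ u ∈ U ∧ ∀ i : ℕ, l ((a ^ i) u) = 0 := fun u => by
    simp [hU', Submodule.mem_iInf]
  have hc : chain a v 0 ≤ U := Submodule.span_le.2 (by
    rintro _ ⟨j, rfl⟩; exact End.pow_apply_mem_of_forall_mem _ ha _ hv)
  have h8 : ∀ m, ∀ u ∈ U, (∀ i, m ≤ i → l ((a ^ i) u) = 0) → u ∈ chain a v 0 ⊔ U' := fun m => by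
    induction m with
    | zero => exact fun u hu H => Submodule.mem_sup_right ((hm u).2 ⟨hu, fun i => H i i.zero_le⟩)
    | succ m ihm =>
      intro u hu H
      have e := mem_chain a v (Nat.zero_le (n - m))
      rw [← sub_add_cancel u (l ((a ^ m) u) • (a ^ (n - m)) v)]
      refine add_mem (ihm _ (U.sub_mem hu (U.smul_mem _ (hc e))) fun i hi => ?_)
        (Submodule.mem_sup_left (Submodule.smul_mem _ _ e))
      rw [map_sub, map_sub, map_smul, map_smul, ← End.mul_apply (a ^ i), ← pow_add]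
      rcases le_or_gt m n with hmn | hmn
      · rcases hi.eq_or_lt with rfl | hi
        · rw [Nat.add_sub_cancel' hmn, hl1, smul_eq_mul, mul_one, sub_self]
        · rw [H i hi, pow_apply_of_le (h1 v hv) (by omega), map_zero, smul_zero, sub_zero]
      · rw [pow_apply_of_le (h1 u hu) (by omega), pow_apply_of_le (h1 v hv) (by omega), map_zero,
          smul_zero, sub_zero]
  have h9 : chain a v 0 ⊔ U' = U := le_antisymm (sup_le hc inf_le_left) fun u hu =>
    h8 (n + 1) u hu fun i hi => by rw [pow_apply_of_le (h1 u hu) hi, map_zero]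
  have h10 : finrank k U' < d := hd ▸ Submodule.finrank_lt_finrank_of_lt (lt_of_le_of_ne inf_le_left
    fun e : U' = U => one_ne_zero (hl1.symm.trans (((hm v).1 (e.ge hv)).2 n)))
  rw [← h9]
  refine step n v c U' (by by_contra e; exact h4 (pow_apply_of_le (n := q) (by rw [hq]; rfl)
    (by omega))) h3 (h1 v hv) h4 (Submodule.disjoint_def.2 fun u hu hu' => ?_) (ih _ h10 U' rfl
      (fun u hu => (hm _).2 ⟨ha u hu.1, fun i => ?_⟩) fun u hu => (hm _).2 ⟨hs u hu.1, fun i => ?_⟩)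
  · rw [chain_eq (h1 v hv), Submodule.mem_span_range_iff_exists_fun] at hu
    obtain ⟨g, rfl⟩ := hu
    simp [coeff_eq_zero_of_dual (h1 v hv) (hl1 ▸ one_ne_zero) ((hm _).1 hu').2]
  · rw [← End.mul_apply, ← pow_succ]; exact ((hm u).1 hu).2 _
  · have := hl2 ((a ^ i) u)
    rwa [((hm u).1 hu).2, mul_zero, ← End.mul_apply, h.comm_pow, LinearMap.smul_apply, map_smul,
      smul_eq_zero_iff_right (pow_ne_zero _ (ne_zero_of_root h.ne h.root))] at this

end Wt

theorem finrank_map_le_count {ι : Type*} (b : ι → V) (deg : ι → ℕ) (T : Finset ι)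
    (hT : ∀ i ∉ T, b i = 0) (Q : ι → Prop) [DecidablePred Q] {E P : End k V} (hc : Commute P E)
    (hE : ∀ i, E (b i) = if Q i then b i else 0) {e : ℕ}
    (hP : ∀ i, P (b i) ∈ Submodule.span k (b '' {j | deg i + e ≤ deg j})) (m : ℕ) :
    finrank k ((Submodule.span k (Set.range b)).map (P * E)) ≤
      #{i ∈ T | Q i ∧ deg i < m} + #{i ∈ T | Q i ∧ m + e ≤ deg i} := by
  classical
  refine (Submodule.finrank_mono (t := Submodule.span k
    (({i ∈ T | Q i ∧ deg i < m}.image (P ∘ b) ∪ {i ∈ T | Q i ∧ m + e ≤ deg i}.image b :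
      Finset V) : Set V)) ?_).trans ((finrank_span_finset_le_card _).trans
        ((card_union_le _ _).trans (add_le_add card_image_le card_image_le)))
  rw [Submodule.map_span, Submodule.span_le]
  rintro _ ⟨_, ⟨i, rfl⟩, rfl⟩
  rcases lt_or_ge (deg i) m with h | h
  · rw [End.mul_apply, hE]
    by_cases hi : i ∈ T
    · split_ifs with hQ
      · exact Submodule.subset_span (by
          simpa using Or.inl ⟨i, ⟨hi, hQ, h⟩, rfl⟩)
      · rw [map_zero]; exact zero_mem _
    · rw [hT i hi, ite_self, map_zero]; exact zero_mem _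
  · rw [hc.eq, End.mul_apply, SetLike.mem_coe, ← Submodule.mem_comap]
    refine Submodule.span_le.2 ?_ (hP i)
    rintro _ ⟨j, hj, rfl⟩
    rw [SetLike.mem_coe, Submodule.mem_comap, hE]
    by_cases hi : j ∈ T
    · split_ifs with hQ
      · exact Submodule.subset_span (by
          simpa using Or.inr ⟨j, ⟨hi, hQ, le_trans (by omega) hj⟩, rfl⟩)
      · exact zero_mem _
    · rw [hT j hi, ite_self]; exact zero_mem _

theorem card_modEq_le {e : ℕ} (he : 0 < e) (u j r : ℕ) :
    #{l ∈ range (u * e + 1) | j + l ≡ r [MOD e]} ≤ u + if j ≡ r [MOD e] then 1 else 0 := by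
  have h1 : #{l ∈ range (u * e) | j + l ≡ r [MOD e]} ≤ u := by
    refine (card_le_card_of_injOn (t := range u) (· / e) (fun l hl => ?_)
      fun l hl l' hl' h => ?_).trans (card_range u).le
    · simp only [coe_filter, mem_range, Set.mem_setOf_eq, coe_range, Set.mem_Iio] at hl ⊢
      exact (Nat.div_lt_iff_lt_mul he).2 hl.1
    · simp only [coe_filter, Set.mem_setOf_eq] at hl hl' h
      rw [← Nat.div_add_mod l e, ← Nat.div_add_mod l' e, h,
        show l % e = l' % e from Nat.ModEq.add_left_cancel' j (hl.2.trans hl'.2.symm)]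
  rw [range_add_one, filter_insert]
  split_ifs with h2 h3 h3
  · exact (card_insert_le _ _).trans (by omega)
  · exact absurd (Nat.add_mul_modulus_modEq_iff.1 h2) h3
  · omega
  · omega

theorem exists_count {e : ℕ} (he : 0 < e) {u : ℕ} (hu : 0 < u) {r : ℕ} (hr0 : 0 < r)
    (hr : r ≤ u * e + 1 + e) (r₀ : ℕ) : ∃ m,
      2 * (#{i ∈ range r ×ˢ range (u * e + 1) | i.1 + i.2 ≡ r₀ [MOD e] ∧ i.1 + i.2 < m} +
        #{i ∈ range r ×ˢ range (u * e + 1) | i.1 + i.2 ≡ r₀ [MOD e] ∧ m + e ≤ i.1 + i.2}) + 2 * r ≤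
      2 * u * r + 2 * #{j ∈ range r | j ≡ r₀ [MOD e]} + (r + e - (u * e + 1)) := by
  set d := u * e + 1 with hd
  have hed : e < d := Nat.lt_succ_of_le (Nat.le_mul_of_pos_left e hu)
  set L := r - (r + e - d) / 2 - 1 with hL
  obtain ⟨m, h1, h2, h3⟩ : ∃ m, L ≤ m ∧ m < L + e ∧ m ≡ r₀ [MOD e] := by
    refine ⟨L + (r₀ + L * (e - 1)) % e, Nat.le_add_right _ _, by
      have := Nat.mod_lt (r₀ + L * (e - 1)) he; omega, ?_⟩
    refine ((Nat.mod_modEq _ _).add_left L).trans ?_
    obtain ⟨e', rfl⟩ := Nat.exists_eq_succ_of_ne_zero he.ne'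
    rw [show L + (r₀ + L * (e'.succ - 1)) = r₀ + L * e'.succ by simp [Nat.mul_succ]; ring]
    exact Nat.add_mul_modulus_modEq_iff.2 (Nat.ModEq.refl _)
  refine ⟨m, ?_⟩
  have h4 : #{i ∈ range r ×ˢ range d | i.1 + i.2 ≡ r₀ [MOD e]} ≤
      u * r + #{j ∈ range r | j ≡ r₀ [MOD e]} := by
    rw [card_filter, sum_product]
    refine (sum_le_sum fun j _ => (card_filter _ _).ge.trans (card_modEq_le he u j r₀)).trans ?_
    rw [sum_add_distrib, ← card_filter, sum_const, card_range, smul_eq_mul, mul_comm]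
  have h5 : #(Ico (m + 1 - d) (min r (m + 1))) ≤ #{i ∈ range r ×ˢ range d | i.1 + i.2 = m} :=
    card_le_card_of_injOn (fun j => (j, m - j)) (fun j hj => by
      simp only [coe_Ico, Set.mem_Ico, coe_filter, mem_product, mem_range, Set.mem_setOf_eq] at hj ⊢
      omega) fun _ _ _ _ h => congrArg Prod.fst h
  have h6 : #{i ∈ range r ×ˢ range d | i.1 + i.2 ≡ r₀ [MOD e] ∧ i.1 + i.2 < m} +
      #{i ∈ range r ×ˢ range d | i.1 + i.2 ≡ r₀ [MOD e] ∧ m + e ≤ i.1 + i.2} +
      #{i ∈ range r ×ˢ range d | i.1 + i.2 = m} ≤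
      #{i ∈ range r ×ˢ range d | i.1 + i.2 ≡ r₀ [MOD e]} := by
    simp only [card_filter, ← sum_add_distrib]
    refine sum_le_sum fun i _ => ?_
    by_cases h : i.1 + i.2 = m
    · simp [h, h3, he.ne']
    · split_ifs <;> simp_all <;> omega
  rw [Nat.card_Ico] at h5
  have : 2 * u * r = 2 * (u * r) := by ring
  omega

end Cfsg.Agent.Blk.One
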