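import Mathlib
import Cfsg.Agent.Blk.LowLat
import Cfsg.Agent.Blk.LowLin
import Cfsg.Agent.Blk.LowA
import Cfsg.Agent.Blk.OnePGL

/-!
# Projective homomorphisms from a uniserial module into a tensor product
-/

set_option autoImplicit false
set_option linter.unusedSectionVars false
set_option linter.style.haveILetI false

namespace Cfsg.Agent.Blk.One

open Cfsg Cfsg.Agent.Ch Subgroup Module Polynomial

theorem exists_X_eq {k : Type*} [Field k] (Q₀ : k[X]) (n : ℕ) : ∃ Q R : k[X],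
    X = (X + X ^ 2 * Q₀) * Q.comp (X + X ^ 2 * Q₀) + X ^ (n + 1) * R := by
  induction n with
  | zero => exact ⟨0, 1, by simp⟩
  | succ n ih =>
    obtain ⟨Q, R, h⟩ := ih
    obtain ⟨R', h'⟩ := sub_dvd_pow_sub_pow (1 + X * Q₀) 1 (n + 1)
    refine ⟨Q + C (R.coeff 0) * X ^ n, R.divX - C (R.coeff 0) * Q₀ * R', ?_⟩
    have h1 := R.divX_mul_X_add
    have h2 : (X + X ^ 2 * Q₀) ^ (n + 1) = X ^ (n + 1) * (1 + X * Q₀) ^ (n + 1) := by
      rw [← mul_pow]; ring
    simp only [add_comp, mul_comp, C_comp, pow_comp, X_comp]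
    linear_combination h - X ^ (n + 1) * h1 - C (R.coeff 0) * h2 - C (R.coeff 0) * X ^ (n + 1) * h'

theorem le_sup_inf_right_aux {α : Type*} [Lattice α] (a b c : α) : a ⊓ c ⊔ b ⊓ c ≤ (a ⊔ b) ⊓ c :=
  sup_le (inf_le_inf_right _ le_sup_left) (inf_le_inf_right _ le_sup_right)

variable {G : Type*} [Group G] {p : ℕ} [hp : Fact p.Prime] [Fintype G] {k V X W : Type*} [Field k]
  [CharP k p] [AddCommGroup V] [Module k V] [AddCommGroup X] [Module k X] [AddCommGroup W]
  [Module k W]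

namespace Setup

variable (S : Setup p G)

theorem xi_eq_aeval (ρ : Representation k G V) (h2 : p ≠ 2) :
    ∃ Q : k[X], S.xi ρ = aeval (ρ S.x - 1) (Polynomial.X + Polynomial.X ^ 2 * Q) := by
  choose q hq using fun m : ℕ => (powAddExpansion (1 : k[X]) Polynomial.X m).exists_of_subtype
  have := S.apply_xi ρ h2 LinearMap.id (a := 1) (b := ρ S.x - 1)
    (c := fun m => aeval (ρ S.x - 1) (q m * Polynomial.X ^ 2)) fun m => by
      simpa [Algebra.smul_def] using congrArg (aeval (ρ S.x - 1)) (hq m)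
  refine ⟨-∑ j : (ZMod p)ˣ, ZMod.castHom dvd_rfl k (j⁻¹ : (ZMod p)ˣ) • q (j : ZMod p).val, ?_⟩
  rw [LinearMap.id_apply] at this
  simp only [this, mul_comm (q _), mul_neg, Finset.mul_sum, mul_smul_comm, map_add, map_neg,
    map_sum, map_smul, aeval_X, sub_eq_add_neg]

theorem exists_eq_xi_mul (ρ : Representation k G V) (h2 : p ≠ 2) :
    ∃ Q : k[X], ρ S.x - 1 = S.xi ρ * aeval (S.xi ρ) Q := by
  obtain ⟨Q₀, h⟩ := S.xi_eq_aeval ρ h2
  obtain ⟨Q, R, h'⟩ := exists_X_eq Q₀ p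
  refine ⟨Q, ?_⟩
  have := congrArg (aeval (ρ S.x - 1)) h'
  rwa [map_add, map_mul, map_mul, aeval_comp, ← h, aeval_X, map_pow, aeval_X, pow_succ,
    S.pow_sub_one_eq_zero, zero_mul, zero_mul, add_zero] at this

theorem exists_pow_eq_xi_pow (ρ : Representation k G V) (h2 : p ≠ 2) (n : ℕ) :
    ∃ q, (ρ S.x - 1) ^ n = S.xi ρ ^ n * q := by
  obtain ⟨Q, h⟩ := S.exists_eq_xi_mul ρ h2
  refine ⟨aeval (S.xi ρ) Q ^ n, ?_⟩
  rw [h, Commute.mul_pow]
  simpa using (Commute.all Polynomial.X Q).map (aeval (S.xi ρ))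

theorem exists_xi_pow_eq (ρ : Representation k G V) (h2 : p ≠ 2) (n : ℕ) :
    ∃ q, S.xi ρ ^ n = (ρ S.x - 1) ^ n * q := by
  obtain ⟨Q, h⟩ := S.xi_eq_aeval ρ h2
  refine ⟨aeval (ρ S.x - 1) ((1 + Polynomial.X * Q) ^ n), ?_⟩
  rw [h, ← map_pow, show Polynomial.X + Polynomial.X ^ 2 * Q =
    Polynomial.X * (1 + Polynomial.X * Q) by ring, mul_pow, map_mul, map_pow, aeval_X]

theorem wt (ρ : Representation k G V) (n : S.N) (hn : ¬ p ∣ orderOf n) :
    Wt (S.xi ρ) (ρ n) (ZMod.castHom dvd_rfl k (S.al n)) (orderOf n) where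
  comm := by
    rw [← smul_mul_assoc, ← S.linHom_xi, Representation.linHom_apply, ← End.mul_eq_comp,
      ← End.mul_eq_comp, mul_assoc, mul_assoc, rep_inv_mul, mul_one]
  pow := by rw [← map_pow, ← Subgroup.coe_pow, pow_orderOf_eq_one, Subgroup.coe_one, map_one]
  ne := by rwa [Ne, CharP.cast_eq_zero_iff k p]
  root := by rw [← map_pow, ← Units.val_pow_eq_pow_val, ← map_pow, pow_orderOf_eq_one]; simp

theorem commute_xi_pow (ρ : Representation k G V) (n : S.N) (hn : ¬ p ∣ orderOf n) (c : k) :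
    Commute (S.xi ρ ^ orderOf (S.al n)) (eproj (ρ n) (orderOf n) c) := by
  refine commute_eproj (Commute.symm ?_) _ _
  have := (S.wt ρ n hn).comm_pow (orderOf (S.al n))
  rwa [← map_pow, ← Units.val_pow_eq_pow_val, pow_orderOf_eq_one, Units.val_one, map_one,
    one_smul] at this

theorem not_dvd_of_notMem_C {n : G} (hn : n ∈ S.N) (h : n ∉ S.C) : ¬ p ∣ orderOf n := fun e => by
  have h1 := orderOf_pow_orderOf_div (orderOf_pos n).ne' e
  exact h (S.mem_C_of_commute (S.mem_zpowers_of_mem_N (pow_mem hn _) ⟨1, by rw [h1, pow_one]⟩)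
    (fun e => hp.out.ne_one (by rw [← h1, e, orderOf_one])) (Commute.self_pow n _))

theorem sub_one_mem_chain (ρ : Representation k G V) (h2 : p ≠ 2) {v u : V} {n : ℕ}
    (h : u ∈ chain (S.xi ρ) v n) : (ρ S.x - 1) u ∈ chain (S.xi ρ) v (n + 1) := by
  obtain ⟨Q, hQ⟩ := S.exists_eq_xi_mul ρ h2
  rw [hQ]
  exact apply_mem_chain (aeval_mem_chain h Q)

theorem xi_pow_mem (ρ : Representation k G V) (h2 : p ≠ 2) (F : ℕ → Submodule k V)
    (h1 : ∀ n, F (n + 1) ≤ F n) (h : ∀ n, ∀ u ∈ F n, (ρ S.x - 1) u ∈ F (n + 1)) (e : ℕ) {n : ℕ}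
    {u : V} (hu : u ∈ F n) : (S.xi ρ ^ e) u ∈ F (n + e) := by
  obtain ⟨q, hq⟩ := S.xi_eq_aeval ρ h2
  induction e with
  | zero => exact hu
  | succ e ih =>
    rw [pow_succ', End.mul_apply]
    generalize (S.xi ρ ^ e) u = z at ih ⊢
    rw [hq, show Polynomial.X + Polynomial.X ^ 2 * q =
      Polynomial.X * (1 + Polynomial.X * q) by ring, map_mul, aeval_X, End.mul_apply,
      aeval_eq_sum_range, LinearMap.sum_apply]
    exact h _ _ (Submodule.sum_mem _ fun j _ => Submodule.smul_mem _ _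
      (End.pow_apply_mem_of_forall_mem j (fun x hx => h1 _ (h _ x hx)) _ ih))

theorem exists_tr_eq (ρ : Representation k G V) (τ : Representation k G W)
    [Fintype (zpowers S.x)] {d e : ℕ} (hd : (ρ S.x - 1) ^ d = 0) (h : d + e ≤ p) (φ : V →ₗ[k] W) :
    ∃ w, ∑ y : zpowers S.x, ρ.linHom τ y φ = ((τ S.x - 1) ^ e) ∘ₗ w := by
  set A : End k (V →ₗ[k] W) := LinearMap.llcomp k V W W (τ S.x - 1) with hA
  set B : End k (V →ₗ[k] W) := LinearMap.lcomp k W (ρ S.x - 1) with hB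
  set R : End k (V →ₗ[k] W) := LinearMap.lcomp k W (ρ S.x⁻¹) with hR
  have e1 : ∀ v, ρ S.x (ρ S.x⁻¹ v) = v := fun v => LinearMap.congr_fun (rep_mul_inv ρ _) v
  have e2 : ∀ v, ρ S.x⁻¹ (ρ S.x v) = v := fun v => LinearMap.congr_fun (rep_inv_mul ρ _) v
  have h1 := sum_zpowers_rep (ρ.linHom τ) (n := 1) (S.hx.trans (pow_one p).symm)
  have h2 : ρ.linHom τ S.x - 1 = R * (A - B) := by
    ext c v; simp [hA, hB, hR, e1]
  have h3 : Commute R (A - B) := by
    ext c v; simp [hA, hB, hR, e1, e2]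
  have h4 : Commute A B := by
    ext c v; simp [hA, hB]
  have h5 : ∀ (n : ℕ) (c : V →ₗ[k] W), (A ^ n) c = ((τ S.x - 1) ^ n) ∘ₗ c := fun n => by
    induction n with
    | zero => intro c; rfl
    | succ n ih => intro c; rw [pow_succ, pow_succ, End.mul_apply, ih]; rfl
  have h6 : ∀ (n : ℕ) (c : V →ₗ[k] W), (B ^ n) c = c ∘ₗ ((ρ S.x - 1) ^ n) := fun n => by
    induction n with
    | zero => intro c; rfl
    | succ n ih => intro c; rw [pow_succ, pow_succ', End.mul_apply, ih]; rfl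
  obtain ⟨w, hw⟩ := h4.pow_dvd_sub_pow_of_pow_eq_zero_right (n := d) (m := e) (p := p ^ 1 - 1)
    (by have := hp.out.pos; rw [pow_one]; omega) (by ext1 c; rw [h6, hd]; simp)
  rw [h2, h3.mul_pow, (h3.pow_pow _ _).eq, hw] at h1
  exact ⟨_, by rw [← LinearMap.sum_apply, h1, End.mul_apply, End.mul_apply, h5]⟩

variable {S} {ρ : Representation k G V} {σ : Representation k G X} {τ : Representation k G W}
  {t : V →ₗ[k] X →ₗ[k] W} (ht : ∀ g u w, τ g (t u w) = t (ρ g u) (σ g w)) {n₀ : S.N}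
  (hn : ¬ p ∣ orderOf n₀) {e u : ℕ} (he : orderOf (S.al n₀) = e) (hu : 0 < u)
  (hp' : u * e + 1 + e = p) {w : X} {c c' : k} (hw : σ n₀ w = c • w) (hc : c ≠ 0)
  (hw0 : (S.xi σ ^ (u * e + 1)) w = 0) (hw1 : chain (S.xi σ) w 0 = ⊤)
  (hc' : c' ^ orderOf n₀ = 1)
include ht hn he hu hp' hw hc hw0 hw1 hc'

theorem block_le [FiniteDimensional k V] {n : ℕ} {v : V} {b : k} (hn' : n < p)
    (hv : ρ n₀ v = b • v) (hv0 : (S.xi ρ ^ (n + 1)) v = 0) (hv1 : (S.xi ρ ^ n) v ≠ 0) :
    2 * finrank k ((Submodule.map₂ t (chain (S.xi ρ) v 0) ⊤).map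
      (S.xi τ ^ e * eproj (τ n₀) (orderOf n₀) c')) + 2 * (n + 1) ≤ 2 * u * (n + 1) +
        2 * finrank k (chain (S.xi ρ) v 0 ⊓ End.eigenspace (ρ n₀) (c' / c) : Submodule k V) +
          (n + 1 + e - (u * e + 1)) := by
  classical
  have he0 : 0 < e := he ▸ orderOf_pos _
  have h2 : p ≠ 2 := by have := Nat.le_mul_of_pos_left e hu; omega
  set β := ZMod.castHom dvd_rfl k (S.al n₀) with hβ
  have hβe : orderOf β = e := by
    rw [← he, ← orderOf_units, hβ]
    exact orderOf_injective (ZMod.castHom dvd_rfl k).toMonoidHom (RingHom.injective _) _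
  set B : ℕ × ℕ → W := fun i => t ((S.xi ρ ^ i.1) v) ((S.xi σ ^ i.2) w) with hB
  have h1 : Submodule.map₂ t (chain (S.xi ρ) v 0) ⊤ = Submodule.span k (Set.range B) := by
    rw [← hw1, chain, chain, Submodule.map₂_span_span, Set.image2_range]
    simp only [zero_add, hB]
  have hWρ := S.wt ρ n₀ hn
  have hWτ := S.wt τ n₀ hn
  have h3 : ∀ i, τ n₀ (B i) = (β ^ (i.1 + i.2) * (b * c)) • B i := fun i => by
    rw [hB, ht, hWρ.eig_pow hv, (S.wt σ n₀ hn).eig_pow hw]
    simp only [map_smul, LinearMap.smul_apply, smul_smul]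
    congr 1
    ring
  have h4 : ∀ i ∉ Finset.range (n + 1) ×ˢ Finset.range (u * e + 1), B i = 0 := fun i hi => by
    simp only [Finset.mem_product, Finset.mem_range, not_and_or, not_lt] at hi
    rcases hi with hi | hi
    · simp [hB, pow_apply_of_le hv0 hi]
    · simp [hB, pow_apply_of_le hw0 hi]
  have h5 := he ▸ S.commute_xi_pow τ n₀ hn c'
  have h6 : ∀ (j l m : ℕ), m ≤ j + l → ∀ x ∈ chain (S.xi ρ) v j, ∀ y ∈ chain (S.xi σ) w l,
      t x y ∈ Submodule.span k (B '' {i | m ≤ i.1 + i.2}) := fun j l m hm x hx y hy => by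
    refine (show Submodule.map₂ t _ _ ≤ _ from ?_) (Submodule.apply_mem_map₂ t hx hy)
    rw [chain, chain, Submodule.map₂_span_span]
    refine Submodule.span_mono ?_
    rintro _ ⟨_, ⟨a, rfl⟩, _, ⟨a', rfl⟩, rfl⟩
    exact ⟨(j + a, l + a'), show m ≤ j + a + (l + a') by omega, rfl⟩
  have h7 : ∀ i, (S.xi τ ^ e) (B i) ∈ Submodule.span k (B '' {j | i.1 + i.2 + e ≤ j.1 + j.2}) :=
    fun i => S.xi_pow_mem τ h2 (fun m => Submodule.span k (B '' {i | m ≤ i.1 + i.2}))
      (fun m => Submodule.span_mono (Set.image_mono fun _ h => Nat.le_of_succ_le h))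
      (fun m x hx => by
        rw [← Submodule.mem_comap]
        refine Submodule.span_le.2 ?_ hx
        rintro _ ⟨j, hj, rfl⟩
        have a1 := mem_chain (S.xi ρ) v (le_refl j.1)
        have a2 := mem_chain (S.xi σ) w (le_refl j.2)
        have a3 := S.sub_one_mem_chain ρ h2 a1
        have a4 := S.sub_one_mem_chain σ h2 a2
        replace hj : m ≤ j.1 + j.2 := hj
        have := add_mem (add_mem (h6 _ _ (m + 1) (by omega) _ a3 _ a2)
          (h6 _ _ (m + 1) (by omega) _ a1 _ a4)) (h6 _ _ (m + 1) (by omega) _ a3 _ a4)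
        rw [SetLike.mem_coe, Submodule.mem_comap]
        convert this using 1
        simp [hB, ht]) e (Submodule.subset_span ⟨i, le_refl (i.1 + i.2), rfl⟩)
  have h8 : ∀ i, eproj (τ n₀) (orderOf n₀) c' (B i) =
      if β ^ (i.1 + i.2) * (b * c) = c' then B i else 0 := fun i => by
    split_ifs with h
    · exact eproj_of_eig hWτ.ne (ne_zero_of_root hWτ.ne hc') (h ▸ h3 i)
    · exact eproj_of_ne hWτ.pow hc' (ne_zero_of_root hWτ.ne hc') (h3 i) h
  rw [h1]
  by_cases h : ∃ r, β ^ r * (b * c) = c'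
  · obtain ⟨r, hr⟩ := h
    have h9 : ∀ j, β ^ j * (b * c) = c' ↔ j ≡ r [MOD e] := fun j => by
      rw [← hr, mul_left_inj' fun e => ne_zero_of_root hWτ.ne hc' (by rw [← hr, e, mul_zero]),
        ← hβe, (isOfFinOrder_iff_pow_eq_one.2 ⟨_, orderOf_pos n₀, hWτ.root⟩).pow_eq_pow_iff_modEq]
    obtain ⟨m, hm⟩ := exists_count he0 hu n.succ_pos (by omega) r
    have h10 := finrank_map_le_count B (fun i => i.1 + i.2) _ h4
      (fun i => i.1 + i.2 ≡ r [MOD e]) h5 (fun i => by simp only [h8, h9]) h7 m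
    have h11 := (linearIndependent_chain hv0 hv1).comp (fun j : {j ∈ Finset.range (n + 1) |
      j ≡ r [MOD e]} => ⟨j.1, by simpa using (Finset.mem_filter.1 j.2).1⟩)
        fun _ _ h => Subtype.ext (congrArg Fin.val h)
    have h12 := (finrank_span_eq_card h11).ge.trans (Submodule.finrank_mono (t := chain (S.xi ρ) v 0
      ⊓ End.eigenspace (ρ n₀) (c' / c)) (Submodule.span_le.2 ?_))
    · rw [Fintype.card_coe] at h12
      simp only [Nat.succ_eq_add_one] at hm
      omega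
    rintro _ ⟨j, rfl⟩
    refine ⟨mem_chain _ _ (Nat.zero_le _), End.mem_eigenspace_iff.2 ?_⟩
    rw [← (h9 j).2 (Finset.mem_filter.1 j.2).2, ← mul_assoc, mul_div_cancel_right₀ _ hc]
    exact hWρ.eig_pow hv j
  · have h10 := finrank_map_le_count B (fun i => i.1 + i.2) _ h4 (fun _ => False) h5
      (fun i => by rw [h8, if_neg fun e => h ⟨_, e⟩, if_neg id]) h7 0
    simp only [false_and, Finset.filter_false, Finset.card_empty] at h10
    have := Nat.mul_le_mul_right (n + 1) hu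
    have : 2 * u * (n + 1) = 2 * (u * (n + 1)) := by ring
    omega

theorem exists_tensor_le [IsAlgClosed k] [FiniteDimensional k V] [FiniteDimensional k W] :
    ∃ N r : ℕ, r ≤ 2 * e * N ∧ r + N * (p - 2 * e) ≤ finrank k V ∧
      2 * finrank k ((Submodule.map₂ t ⊤ ⊤).map (S.xi τ ^ e * eproj (τ n₀) (orderOf n₀) c')) +
        2 * finrank k V ≤ 2 * u * finrank k V +
          2 * finrank k (End.eigenspace (ρ n₀) (c' / c)) + r := by
  have he0 : 0 < e := he ▸ orderOf_pos _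
  have h1 := Nat.le_mul_of_pos_left e hu
  obtain ⟨q, hq⟩ := S.exists_xi_pow_eq ρ (by omega) p
  rw [S.pow_sub_one_eq_zero, zero_mul] at hq
  have := (S.wt ρ n₀ hn).induction hq (fun U => ∃ N r : ℕ, r ≤ 2 * e * N ∧
    r + N * (p - 2 * e) ≤ finrank k U ∧
      2 * finrank k ((Submodule.map₂ t U ⊤).map (S.xi τ ^ e * eproj (τ n₀) (orderOf n₀) c')) +
        2 * finrank k U ≤ 2 * u * finrank k U +
          2 * finrank k (U ⊓ End.eigenspace (ρ n₀) (c' / c) : Submodule k V) + r)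
    ⟨0, 0, by rw [Submodule.map₂_bot_left, Submodule.map_bot]; simp⟩ fun n v b U hn' hv hv0 hv1 hd ⟨N, r, a1, a2, a3⟩ => ?_
  · rwa [finrank_top, top_inf_eq] at this
  have a4 := block_le ht hn he hu hp' hw hc hw0 hw1 hc' hn' hv hv0 hv1
  have a5 := Submodule.finrank_sup_add_finrank_inf_eq (chain (S.xi ρ) v 0) U
  rw [hd.eq_bot, finrank_bot, add_zero, finrank_chain hv0 hv1] at a5
  have a6 := Submodule.finrank_sup_add_finrank_inf_eq (chain (S.xi ρ) v 0 ⊓
    End.eigenspace (ρ n₀) (c' / c)) (U ⊓ End.eigenspace (ρ n₀) (c' / c))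
  rw [(hd.mono inf_le_left inf_le_left).eq_bot, finrank_bot, add_zero] at a6
  have a7 := Submodule.finrank_mono (le_sup_inf_right_aux (chain (S.xi ρ) v 0) U
    (End.eigenspace (ρ n₀) (c' / c)))
  have a8 := Submodule.finrank_add_le_finrank_add_finrank ((Submodule.map₂ t (chain (S.xi ρ) v 0)
    ⊤).map (S.xi τ ^ e * eproj (τ n₀) (orderOf n₀) c')) ((Submodule.map₂ t U ⊤).map
      (S.xi τ ^ e * eproj (τ n₀) (orderOf n₀) c'))
  rw [a5, Submodule.map₂_sup_left, Submodule.map_sup, mul_add (2 * u)]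
  rcases le_or_gt (n + 1 + e) (u * e + 1) with h | h
  · exact ⟨N, r, a1, by omega, by omega⟩
  · exact ⟨N + 1, r + (n + 1 + e - (u * e + 1)), by rw [mul_add]; omega,
      by rw [add_mul]; omega, by omega⟩

omit ht hw hc hw0 hw1 hc' in
theorem exists_uni_gen [IsAlgClosed k] [FiniteDimensional k V] (ρ : Representation k G V) (he2 : 1 < e)
    (hd : finrank k V = u * e + 1) (h : (ρ S.x - 1) ^ (u * e) ≠ 0) : ∃ v, ρ n₀ v =
      LinearMap.trace k V (ρ n₀) • v ∧ LinearMap.trace k V (ρ n₀) ^ orderOf n₀ = 1 ∧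
        (S.xi ρ ^ (u * e + 1)) v = 0 ∧ chain (S.xi ρ) v 0 = ⊤ := by
  have h2 : p ≠ 2 := by omega
  obtain ⟨q, hq⟩ := S.exists_xi_pow_eq ρ h2 (u * e + 1)
  rw [← hd, pow_finrank_eq_zero (p := p) (n := 1) ρ (by
    rw [pow_one, ← orderOf_dvd_iff_pow_eq_one, S.hx]), zero_mul, hd] at hq
  obtain ⟨q', hq'⟩ := S.exists_pow_eq_xi_pow ρ h2 (u * e)
  obtain ⟨w, hw⟩ : ∃ w, (S.xi ρ ^ (u * e)) w ≠ 0 := by
    by_contra! e
    exact h (by rw [hq', show S.xi ρ ^ _ = 0 from LinearMap.ext e, zero_mul])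
  have hW := S.wt ρ n₀ hn
  obtain ⟨v, -, c, h3, h4⟩ := hW.exists_eig (U := ⊤) (fun _ _ => trivial) trivial hw
  have h5 : (S.xi ρ ^ (u * e + 1)) v = 0 := by rw [hq]; rfl
  suffices c = LinearMap.trace k V (ρ n₀) from ⟨v, this ▸ h3, this ▸ hW.root_of_eig h3
    fun e => h4 (by rw [e, map_zero]), h5, Submodule.eq_top_of_finrank_eq
      ((finrank_chain h5 h4).trans hd.symm)⟩
  set b := basisOfLinearIndependentOfCardEqFinrank (linearIndependent_chain h5 h4) (by simp [hd])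
  have hb : ∀ j, ρ n₀ (b j) = (ZMod.castHom dvd_rfl k (S.al n₀) ^ (j : ℕ) * c) • b j := fun j => by
    simp only [b, coe_basisOfLinearIndependentOfCardEqFinrank, hW.eig_pow h3]
  have hβ : orderOf (ZMod.castHom dvd_rfl k (S.al n₀)) = e := by
    rw [← he, ← orderOf_units]
    exact orderOf_injective (ZMod.castHom dvd_rfl k).toMonoidHom (RingHom.injective _) _
  rw [LinearMap.trace_eq_matrix_trace k b, Matrix.trace]
  simp only [Matrix.diag_apply, LinearMap.toMatrix_apply, hb, map_smul, b.repr_self,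
    Finsupp.smul_apply, Finsupp.single_eq_same, smul_eq_mul, mul_one, ← Finset.sum_mul]
  rw [Fin.sum_univ_eq_sum_range, geom_sum_eq (fun e => by
    rw [e, orderOf_one] at hβ; omega), pow_succ, pow_mul', ← hβ, pow_orderOf_eq_one, one_pow,
    one_mul, div_self (sub_ne_zero.2 fun e => by rw [e, orderOf_one] at hβ; omega), one_mul]

end Setup

/-- The tensor product of two matrix representations. -/
def kron {A ι₁ ι₂ : Type*} [CommRing A] [Fintype ι₁] [Fintype ι₂] [DecidableEq ι₁] [DecidableEq ι₂]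
    (σ₁ : G →* Matrix ι₁ ι₁ A) (σ₂ : G →* Matrix ι₂ ι₂ A) : G →* Matrix (ι₁ × ι₂) (ι₁ × ι₂) A where
  toFun g := Matrix.kroneckerMap (· * ·) (σ₁ g) (σ₂ g)
  map_one' := by rw [map_one, map_one, Matrix.one_kronecker_one]
  map_mul' g h := by rw [map_mul, map_mul, Matrix.mul_kronecker_mul]

/-- The tensor product of two coordinate vectors. -/
def tens (k ι₁ ι₂ : Type*) [Field k] : (ι₁ → k) →ₗ[k] (ι₂ → k) →ₗ[k] (ι₁ × ι₂ → k) :=
  LinearMap.mk₂ k (fun u w q => u q.1 * w q.2) (fun _ _ _ => funext fun _ => add_mul ..)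
    (fun _ _ _ => funext fun _ => mul_assoc ..) (fun _ _ _ => funext fun _ => mul_add ..)
    fun _ _ _ => funext fun _ => mul_left_comm ..

variable {ι ι₁ ι₂ : Type*} [Fintype ι] [Fintype ι₁] [Fintype ι₂] [DecidableEq ι] [DecidableEq ι₁]
  [DecidableEq ι₂]

theorem redRep_kron {A : Type*} [CommRing A] (f : A →+* k) (σ₁ : G →* Matrix ι₁ ι₁ A)
    (σ₂ : G →* Matrix ι₂ ι₂ A) (g : G) (u : ι₁ → k) (w : ι₂ → k) :
    redRep f (kron σ₁ σ₂) g (tens k ι₁ ι₂ u w) =
      tens k ι₁ ι₂ (redRep f σ₁ g u) (redRep f σ₂ g w) := by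
  ext q
  simp only [redRep_apply, kron, tens, Matrix.toLin'_apply, Matrix.mulVec, dotProduct,
    Matrix.map_apply, MonoidHom.coe_mk, OneHom.coe_mk, Matrix.kroneckerMap_apply, map_mul,
    LinearMap.mk₂_apply, Fintype.sum_prod_type, Finset.sum_mul_sum]
  exact Finset.sum_congr rfl fun _ _ => Finset.sum_congr rfl fun _ _ => by ring

theorem map₂_tens : Submodule.map₂ (tens k ι₁ ι₂) ⊤ ⊤ = ⊤ := by
  rw [eq_top_iff, ← (Pi.basisFun k (ι₁ × ι₂)).span_eq, Submodule.span_le]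
  rintro _ ⟨q, rfl⟩
  rw [SetLike.mem_coe]
  convert Submodule.apply_mem_map₂ (tens k ι₁ ι₂) (m := Pi.single q.1 1) (n := Pi.single q.2 1)
    Submodule.mem_top Submodule.mem_top using 1
  ext r
  by_cases h1 : r.1 = q.1 <;> by_cases h2 : r.2 = q.2 <;>
    simp [tens, Pi.single_apply, Prod.ext_iff, h1, h2]

theorem toLin'_map_sum_pow {A F : Type*} [CommRing A] [Field F] (g : A →+* F) (M : Matrix ι ι A)
    (a : A) (e : ℕ) : ((∑ j ∈ Finset.range e, (a • M) ^ j).map g).toLin' =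
      ∑ j ∈ Finset.range e, (g a • (M.map g).toLin') ^ j := by
  rw [← RingHom.mapMatrix_apply, map_sum, map_sum]
  refine Finset.sum_congr rfl fun j _ => ?_
  rw [map_pow, Matrix.toLin'_pow, ← map_smul, RingHom.mapMatrix_apply, Matrix.map_smul' _ _ _
    (map_mul g)]

namespace Setup

variable (S : Setup p G) {A : ValuationSubring ℂ} (f : A →+* k)

theorem pow_ne_zero_of_inner [Fintype S.N] (σ : G →* Matrix ι ι A) {χ : G → ℂ}
    (hσ : ∀ g, ((σ g).trace : ℂ) = χ g) (hχ : IsIrrCharacter G χ) {d : ℕ}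
    (hd : d + 1 + S.ee = p) (he : 2 * S.ee + 1 ≤ p)
    (h : 1 < (classInner (fun n : S.N => χ n) fun n : S.N => χ n).re) :
    (redRep f σ S.x - 1) ^ d ≠ 0 := by
  intro h0
  haveI := Fintype.ofFinite (zpowers S.x)
  have he0 := S.ee_pos
  have h2 : p ≠ 2 := by omega
  set ρ := redRep f σ with hρ
  set T := Submodule.span k {(1 : End k (ι → k))} ⊔
    LinearMap.range (∑ y : zpowers S.x, ρ.linHom ρ y) with hT
  haveI : (redRep A.subtype σ).IsIrreducible := (isIrreducible_iff_isIrrCharacter _).2 (by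
    rwa [show (redRep A.subtype σ).character = χ from
      funext fun g => (trace_redRep_hom _ _ g).trans (hσ g)])
  have h1 : ∀ j : ZMod p, ∑ a ∈ S.Af, ρ (S.x ^ ((a : ZMod p) * j).val) ∈ T := fun j => by
    obtain ⟨w, φ, hw, e⟩ := S.exists_mackey_red f σ σ
      (M := ∑ a ∈ S.Af, σ (S.x ^ ((a : ZMod p) * j).val)) fun n hn => by
        rw [Finset.mul_sum, Finset.sum_mul, ← S.sum_Af_mul (S.al_mem_Af ⟨n, hn⟩)
          fun a => σ (S.x ^ ((a : ZMod p) * j).val)]
        refine Finset.sum_congr rfl fun a _ => ?_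
        rw [← map_mul, ← map_mul, S.conj_x_pow ⟨n, hn⟩, Units.val_mul, mul_assoc]
    obtain ⟨c, hc⟩ := exists_eq_smul_of_commute (redRep A.subtype σ) (w.map A.subtype).toLin'
      fun g => by
        have := linHom_redRep A.subtype σ σ g w
        rw [hw, Representation.linHom_apply] at this
        nth_rewrite 1 [← this]
        rw [← End.mul_eq_comp, ← End.mul_eq_comp, mul_assoc, mul_assoc, rep_inv_mul, mul_one]
    replace hc : w.map A.subtype = c • (1 : Matrix ι ι ℂ) := Matrix.toLin'.injective (by simpa)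
    have h3 : (w.map f).toLin' ∈ Submodule.span k {(1 : End k (ι → k))} := by
      rcases isEmpty_or_nonempty ι with _ | ⟨⟨i⟩⟩
      · rw [Subsingleton.elim (w.map f) 0, map_zero]; exact zero_mem _
      refine Submodule.mem_span_singleton.2 ⟨f (w i i), ?_⟩
      rw [show w = w i i • (1 : Matrix ι ι A) from Matrix.map_injective Subtype.val_injective (by
        have := congrFun (congrFun hc i) i
        ext a b
        simpa [Matrix.one_apply, apply_ite, show (w i i : ℂ) = c by simpa using this] using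
          congrFun (congrFun hc a) b), End.one_eq_id, ← Matrix.toLin'_one, ← map_smul]
      congr 1
      ext a b
      by_cases hab : a = b <;> simp [Matrix.one_apply, hab]
    have h4 := Submodule.add_mem_sup h3 (LinearMap.mem_range_self (∑ y : zpowers S.x, ρ.linHom ρ y) φ)
    rw [LinearMap.sum_apply, ← e] at h4
    convert h4 using 1
    simp only [hρ, redRep_apply, ← map_sum]
    exact congrArg _ (map_sum f.mapMatrix _ _).symm
  choose! n hn using fun a => (S.mem_Af' (a := a)).1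
  have h5 : ∀ z ∈ Algebra.adjoin k {ρ S.x}, ∑ a ∈ S.Af, ρ.linHom ρ (n a) z ∈ T := fun z hz => by
    rw [← LinearMap.sum_apply, ← Submodule.mem_comap]
    rw [← Subalgebra.mem_toSubmodule, Algebra.adjoin_eq_span] at hz
    refine Submodule.span_le.2 (fun z hz => ?_) hz
    obtain ⟨m, rfl⟩ := Submonoid.mem_closure_singleton.1 hz
    rw [SetLike.mem_coe, Submodule.mem_comap, LinearMap.sum_apply]
    convert h1 m using 2 with a ha
    rw [← hn a ha, ← S.conj_x_pow, hn a ha, map_mul, map_mul, ← map_pow, ZMod.val_natCast,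
      ← pow_eq_pow_mod m (orderOf_dvd_iff_pow_eq_one.1 S.hx.dvd)]
    rfl
  have h6 := h5 (S.xi ρ ^ S.ee) (pow_mem (neg_mem (sum_mem fun j _ => Subalgebra.smul_mem _
    (pow_mem (Algebra.self_mem_adjoin_singleton k _) _) _)) _)
  rw [Finset.sum_congr rfl fun a ha => show _ = S.xi ρ ^ S.ee from ?_, Finset.sum_const, card_Af,
    ← Nat.cast_smul_eq_nsmul k, T.smul_mem_iff (by
      rw [Ne, CharP.cast_eq_zero_iff k p]; exact Nat.not_dvd_of_pos_of_lt he0 (by omega))] at h6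
  swap
  · have h7 : ∀ m : ℕ, ρ.linHom ρ (n a) (S.xi ρ ^ m) = (ρ.linHom ρ (n a) (S.xi ρ)) ^ m := fun m =>
      (Units.conj_pow ⟨_, _, rep_mul_inv ρ (n a), rep_inv_mul ρ (n a)⟩ _ m).symm
    have h8 := pow_card_eq_one' (x := (⟨a, S.mem_Af.1 ha⟩ : S.A (irrOne S.C)))
    rw [card_A_one, Subtype.ext_iff] at h8
    rw [h7, S.linHom_xi, hn a ha, _root_.smul_pow, ← map_pow, ← Units.val_pow_eq_pow_val,
      show a ^ S.ee = 1 from h8, Units.val_one, map_one, one_smul]
  obtain ⟨_, h7, _, ⟨φ, rfl⟩, h8⟩ := Submodule.mem_sup.1 h6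
  obtain ⟨c, rfl⟩ := Submodule.mem_span_singleton.1 h7
  obtain ⟨w, hw⟩ := S.exists_tr_eq ρ ρ h0 (e := S.ee + 1) (by omega) φ
  obtain ⟨q, hq⟩ := S.exists_xi_pow_eq ρ h2 S.ee
  obtain ⟨q', hq'⟩ := S.exists_pow_eq_xi_pow ρ h2 S.ee
  rw [LinearMap.sum_apply, hw, ← End.mul_eq_comp] at h8
  have h9 : ∃ w', (ρ S.x - 1) ^ S.ee = (ρ S.x - 1) * (ρ S.x - 1) ^ S.ee * w' := by
    rcases eq_or_ne c 0 with rfl | hc
    · exact ⟨w * q', by rw [← pow_succ', ← mul_assoc, ← zero_add (_ * w),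
        ← zero_smul k (1 : End k (ι → k)), h8, hq']⟩
    · refine ⟨c⁻¹ • ((ρ S.x - 1) ^ (S.ee - 1) * (q - (ρ S.x - 1) * w)), ?_⟩
      rw [mul_smul_comm, ← pow_succ', pow_succ, mul_assoc, ← mul_assoc (ρ S.x - 1), ← pow_succ',
        Nat.sub_add_cancel he0, mul_sub, ← hq, ← h8, ← mul_assoc (_ ^ S.ee), ← pow_succ,
        add_sub_cancel_right, mul_smul_comm, inv_smul_smul₀ hc, mul_one]
  obtain ⟨w', h9⟩ := h9
  have h10 : ∀ m : ℕ, (ρ S.x - 1) ^ S.ee = (ρ S.x - 1) ^ m * (ρ S.x - 1) ^ S.ee * w' ^ m :=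
    fun m => by
    induction m with
    | zero => simp
    | succ m ih => rw [pow_succ, pow_succ', mul_assoc (_ ^ m), ← mul_assoc _ w', mul_assoc (_ ^ m),
        ← h9, ← ih]
  have h11 := h10 p
  rw [S.pow_sub_one_eq_zero, zero_mul, zero_mul] at h11
  have h12 := S.inner_le f σ σ hσ hσ ⊥ fun ψ φ _ e => by
    rw [e, ← LinearMap.sum_apply, S.sum_linHom_eq_zero ρ h11 (by omega)]; rfl
  rw [hχ.classInner_self, finrank_bot] at h12
  simp only [Complex.one_re, Nat.cast_zero, add_zero] at h12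
  linarith

omit S in
theorem finrank_eigenspace_le (M : Matrix ι ι A) (a : A) {e : ℕ} (he : (e : k) ≠ 0)
    (h : ((a : ℂ) • (M.map A.subtype).toLin') ^ e = 1) {c : k} (hc : f a * c = 1) :
    (finrank k (End.eigenspace (M.map f).toLin' c) : ℝ) ≤
      ((e : ℂ)⁻¹ * ∑ j ∈ Finset.range e, (a : ℂ) ^ j * ((M ^ j).trace : ℂ)).re := by
  have h0 : (e : ℂ) ≠ 0 := Nat.cast_ne_zero.2 fun e' => he (by simp [e'])
  set s := (a : ℂ) • (M.map A.subtype).toLin' with hs
  have h2 : IsIdempotentElem (eproj s e 1) := LinearMap.ext fun u => eproj_of_eig h0 one_ne_zero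
    (LinearMap.congr_fun (mul_eproj h (one_pow _) one_ne_zero) u)
  have h3 := (LinearMap.IsIdempotentElem.isProj_range _ h2).trace
  have h4 := finrank_range_red_le f (∑ j ∈ Finset.range e, (a • M) ^ j)
  rw [toLin'_map_sum_pow, toLin'_map_sum_pow] at h4
  have h5 : LinearMap.range (eproj s e 1) = LinearMap.range (∑ j ∈ Finset.range e, s ^ j) := by
    rw [eproj, inv_one, one_smul, LinearMap.range_smul _ _ (inv_ne_zero h0)]
  have h6 : LinearMap.trace ℂ _ (eproj s e 1) =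
      (e : ℂ)⁻¹ * ∑ j ∈ Finset.range e, (a : ℂ) ^ j * ((M ^ j).trace : ℂ) := by
    simp only [eproj, inv_one, one_smul, map_smul, map_sum, hs, _root_.smul_pow,
      ← Matrix.toLin'_pow, Matrix.trace_toLin'_eq, smul_eq_mul, ← Matrix.map_pow,
      ← AddMonoidHom.map_trace]
    rfl
  rw [← h6, h3, h5, Complex.natCast_re, Nat.cast_le]
  refine (Submodule.finrank_mono fun u hu => LinearMap.mem_range.2 ⟨(e : k)⁻¹ • u, ?_⟩).trans h4
  have := eproj_of_eig (s := f a • (M.map f).toLin') he one_ne_zero (u := u) (by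
    rw [LinearMap.smul_apply, End.mem_eigenspace_iff.1 hu, smul_smul, hc])
  rwa [eproj, inv_one, one_smul, LinearMap.smul_apply, ← map_smul] at this

open scoped ComplexConjugate in
theorem exists_lower [Fintype S.N] {ζ φ : G → ℂ} (hζ : IsIrrCharacter G ζ)
    (hφ : IsIrrCharacter G φ) {u : ℕ} (hu : 0 < u) (hd : charDegree ζ = u * S.ee + 1)
    (hp' : u * S.ee + 1 + S.ee = p) (he : 1 < S.ee)
    (h1 : 1 < (classInner (fun n : S.N => ζ n) fun n : S.N => ζ n).re) {n₀ : S.N}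
    (hn₀ : orderOf (S.al n₀) = S.ee) (hg : ζ n₀ * conj (ζ n₀) = 1)
    (h2 : ∀ g, (ζ n₀ ^ 2) ^ S.ee * φ (n₀ ^ S.ee * g) = φ g) :
    ∃ N r : ℕ, r ≤ 2 * S.ee * N ∧ r + N * (p - 2 * S.ee) ≤ charDegree φ ∧
      2 * (classInner (fun n : S.N => φ n * ζ n) fun n : S.N => conj (ζ n)).re +
        2 * charDegree φ ≤ 2 * (classInner (fun g => φ g * ζ g) fun g => conj (ζ g)).re +
          2 * u * charDegree φ + 2 * ((S.ee : ℂ)⁻¹ *
            ∑ j ∈ Finset.range S.ee, (ζ n₀ ^ 2) ^ j * φ (n₀ ^ j)).re + r := by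
  haveI := Fintype.ofFinite (zpowers S.x)
  obtain ⟨A, hA⟩ := TID.exists_valuationSubring hp.out
  let k := AlgebraicClosure (IsLocalRing.ResidueField A)
  let f := (algebraMap _ k).comp (IsLocalRing.residue A)
  obtain ⟨σ, hσ⟩ := exists_int_rep hζ.isCharacter A
  obtain ⟨σ', hσ'⟩ := exists_int_rep hζ.complexConj.isCharacter A
  obtain ⟨τ, hτ⟩ := exists_int_rep hφ.isCharacter A
  have h3 := Nat.le_mul_of_pos_left S.ee hu
  have hn : ¬ p ∣ orderOf n₀ := by
    rw [← orderOf_coe]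
    exact S.not_dvd_of_notMem_C n₀.2 fun e => by
      rw [(S.al_eq_one_iff n₀).2 e, orderOf_one] at hn₀; omega
  have hd' : finrank k (Fin (charDegree fun g => conj (ζ g)) → k) = u * S.ee + 1 := by
    simp [charDegree_congr (χ := fun g => conj (ζ g)) (ψ := ζ) hζ.isCharacter.conj_apply_one, hd]
  obtain ⟨w, w1, w2, w3, w4⟩ := exists_uni_gen hn hn₀ hu hp' (redRep f σ) he (by simp [hd])
    (S.pow_ne_zero_of_inner f σ hσ hζ hp' (by omega) h1)
  obtain ⟨v, v1, v2, -, v4⟩ := exists_uni_gen hn hn₀ hu hp' (redRep f σ') he hd'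
    (S.pow_ne_zero_of_inner f σ' hσ' hζ.complexConj hp' (by omega) (by
      rwa [classInner_conj_conj, conj_classInner_self]))
  rw [trace_redRep_hom] at w1 w2 v1 v2
  have hM := (S.wt (redRep f σ) n₀ hn).ne
  have hc := ne_zero_of_root hM w2
  obtain ⟨N, r, a1, a2, a3⟩ := exists_tensor_le (redRep_kron f τ σ) hn hn₀ hu hp' w1 hc w3 w4 v2
  rw [map₂_tens] at a3
  set ρ := redRep f (kron τ σ) with hρ
  set R := (⊤ : Submodule k _).map (S.xi ρ ^ S.ee * eproj (ρ n₀) (orderOf n₀) (f (σ' n₀).trace))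
  have a4 := S.inner_le f σ' (kron τ σ) hσ' (χ₂ := fun g => φ g * ζ g) (fun g => by
      rw [← hτ, ← hσ, ← MulMemClass.coe_mul, ← Matrix.trace_kronecker]; rfl)
    (LinearMap.ker ((redRep f σ').linHom ρ S.x - 1) ⊓ R.comap (LinearMap.applyₗ v))
    fun ψ φ' h e => ⟨LinearMap.mem_ker.2 (sub_eq_zero.2 (h _ S.x_mem_N)), by
      obtain ⟨z, hz⟩ := S.exists_tr_eq (redRep f σ') ρ (d := u * S.ee + 1) (e := S.ee)
        (hd' ▸ pow_finrank_eq_zero (p := p) (n := 1) _ (by
          rw [pow_one, ← orderOf_dvd_iff_pow_eq_one, S.hx])) hp'.le φ'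
      obtain ⟨q, hq⟩ := S.exists_pow_eq_xi_pow ρ (by omega) S.ee
      have b1 : ρ n₀ (ψ v) = f (σ' n₀).trace • ψ v := by
        rw [← map_smul, ← v1]
        nth_rewrite 2 [← h _ n₀.2]
        exact congrArg (fun x => ρ n₀ (ψ x))
          (LinearMap.congr_fun (rep_inv_mul (redRep f σ') (n₀ : G)) v).symm
      refine ⟨q (z v), trivial, ?_⟩
      have b2 := S.commute_xi_pow ρ n₀ hn (f (σ' n₀).trace)
      rw [hn₀] at b2
      rw [b2.eq, End.mul_apply, ← End.mul_apply _ q, ← hq]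
      change eproj _ _ _ ((_ ∘ₗ z) v) = ψ v
      rw [← hz, ← e, eproj_of_eig hM (ne_zero_of_root hM v2) b1]⟩
  have a5 : finrank k (LinearMap.ker ((redRep f σ').linHom ρ S.x - 1) ⊓
      R.comap (LinearMap.applyₗ v) : Submodule k _) ≤ finrank k R := by
    refine LinearMap.finrank_le_finrank_of_injective (f := (LinearMap.applyₗ v).restrict
      fun ψ h => h.2) ((injective_iff_map_eq_zero _).2 fun ψ h => Subtype.ext ?_)
    have b1 : ∀ y ∈ LinearMap.ker ψ.1, redRep f σ' S.x y ∈ LinearMap.ker ψ.1 := fun y hy => by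
      rw [LinearMap.mem_ker, ← show _ = ψ.1 from sub_eq_zero.1 (LinearMap.mem_ker.1 ψ.2.1)]
      change ρ S.x (ψ.1 ((redRep f σ' S.x⁻¹ * redRep f σ' S.x) y)) = 0
      rw [rep_inv_mul, End.one_apply, LinearMap.mem_ker.1 hy, map_zero]
    rw [ZeroMemClass.coe_zero, ← LinearMap.ker_eq_top, eq_top_iff, ← v4, chain, Submodule.span_le]
    rintro _ ⟨j, rfl⟩
    refine End.pow_apply_mem_of_forall_mem _ (fun y hy => ?_) _ (congrArg Subtype.val h)
    rw [xi, LinearMap.neg_apply, LinearMap.sum_apply]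
    exact neg_mem (Submodule.sum_mem _ fun j _ => Submodule.smul_mem _ _
      (End.pow_apply_mem_of_forall_mem _ b1 _ hy))
  have a6 := finrank_eigenspace_le f (τ n₀) ((σ n₀).trace ^ 2) (e := S.ee) (by
    rw [Ne, CharP.cast_eq_zero_iff k p]; exact Nat.not_dvd_of_pos_of_lt (by omega) (by omega))
    (c := f (σ' n₀).trace / f (σ n₀).trace) (by
      have e : (redRep A.subtype τ).character = φ :=
        funext fun g => (trace_redRep_hom _ _ g).trans (hτ g)
      have b1 := (hφ.isCharacter.mem_charCenter_iff_norm (g := n₀ ^ S.ee)).2 (by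
        have := congrArg norm hg
        rw [norm_mul, Complex.norm_conj, norm_one, ← sq] at this
        rw [← h2 1, norm_mul, norm_pow, norm_pow, this, one_pow, one_mul, mul_one])
      obtain ⟨ω, hω⟩ := (mem_charCenter_character (redRep A.subtype τ) _).1 (e ▸ b1)
      have b2 := h2 1
      rw [mul_one, ← e, Representation.character, Representation.character, hω, map_one,
        map_smul, smul_eq_mul, ← mul_assoc, End.one_eq_id] at b2
      rw [_root_.smul_pow, ← redRep_apply, ← map_pow, hω, smul_smul, SubmonoidClass.coe_pow, hσ,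
        mul_left_eq_self₀.1 b2 |>.resolve_right fun e' => hφ.apply_one_ne_zero (by
          rw [← e, Representation.character, map_one, End.one_eq_id, e']), one_smul]
      rfl) (by
      rw [map_pow, sq, mul_assoc, mul_div_cancel₀ _ hc, ← map_mul, show (σ n₀).trace *
        (σ' n₀).trace = 1 from Subtype.ext (by rw [MulMemClass.coe_mul, hσ, hσ', hg]; rfl), map_one])
  simp only [← map_pow, hτ, SubmonoidClass.coe_pow, hσ] at a6
  simp only [Module.finrank_fintype_fun_eq_card, Fintype.card_fin] at a2 a3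
  refine ⟨N, r, a1, a2, ?_⟩
  replace a3 := (Nat.cast_le (α := ℝ)).2 a3
  replace a5 := (Nat.cast_le (α := ℝ)).2 a5
  push_cast at a3
  rw [redRep_apply] at a3
  linarith

end Setup

end Cfsg.Agent.Blk.One
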