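import Mathlib
import Cfsg.Agent.Blk.OnePGL
import Cfsg.Agent.GT.PSolvable
import Cfsg.Agent.S4468

/-!
# Linear groups of degree `(p - 1) / 2`
-/

set_option autoImplicit false
set_option linter.unusedSectionVars false
set_option linter.style.haveILetI false

namespace Cfsg.Agent.Blk.One

open Cfsg Cfsg.Agent.Ch Subgroup Module Cfsg.Agent.GT
open scoped MatrixGroups

variable {G : Type*} [Group G] {p : ℕ} [hp : Fact p.Prime] [Fintype G]

theorem eq_one_of_smul {k V : Type*} [Field k] [AddCommGroup V] [Module k V] {a : End k V}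
    (hc : ∃ c : k, a = c • 1) {n : ℕ} (h : (a - 1) ^ n = 0) : a = 1 := by
  obtain ⟨c, rfl⟩ := hc
  rcases subsingleton_or_nontrivial V with _ | _
  · exact Subsingleton.elim _ _
  rw [show c • 1 - 1 = (c - 1) • (1 : End k V) by rw [sub_smul, one_smul], smul_pow, one_pow] at h
  rw [sub_eq_zero.1 (eq_zero_of_pow_eq_zero ((smul_eq_zero_iff_left one_ne_zero).1 h)), one_smul]

namespace Setup

variable (S : Setup p G) {χ : G → ℂ}

theorem N_eq_top_of_pSolvable (hχ : IsCharacter G χ) (hf : charKer χ = ⊥)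
    (hd : charDegree χ + 1 < p) (h : IsPSolvable p G) : S.N = ⊤ := by
  by_contra hN
  have := (S4468.result χ hχ (hχ.charKer_eq_bot_iff.1 hf) _ rfl p hp.out h hd.le S.sylow
    fun h => hN (S.N_eq.trans (normalizer_eq_top_iff.2 h))).1
  omega

theorem relIndex_ne_one_of_lt (hχ : IsCharacter G χ) (hf : charKer χ = ⊥)
    (hd : charDegree χ + 1 < p) (hN : S.N ≠ ⊤) : S.C.relIndex S.N ≠ 1 := fun h => by
  obtain ⟨K, _, h1, h2⟩ := S.exists_complement h
  exact hN (S.N_eq_top_of_pSolvable hχ hf hd (.extension K (isPSolvable_of_not_dvd h2)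
    (isPSolvable_of_isPGroup (.of_card (n := 1) (h1.trans (pow_one p).symm)))))

theorem le_C_of_lt (hχ : IsCharacter G χ) (hf : charKer χ = ⊥) (hd : charDegree χ + 1 < p)
    (K : Subgroup G) [K.Normal] (hK : ¬ p ∣ Nat.card K) : K ≤ S.C := fun g hg => by
  haveI := Fintype.ofFinite (zpowers S.x ⊔ K : Subgroup G)
  have h1 := (S.sub (zpowers S.x ⊔ K) (mem_sup_left (mem_zpowers _))).N_eq_top_of_pSolvable
    (hχ.restrict _) (by rw [hχ.charKer_restrict, hf, bot_subgroupOf])
    (by rwa [charDegree_restrict]) ((isPSolvable_of_isPGroup S.isPGroup).sup_of_le_normalizer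
      (isPSolvable_of_not_dvd hK) (le_normalizer_of_normal))
  refine S.mem_C_of_mem_normal hK (subgroupOf_eq_top.1 h1 (mem_sup_right hg)) ?_
  rw [mul_assoc, mul_assoc, ← mul_assoc S.x]
  exact mul_mem hg (‹K.Normal›.conj_mem _ (inv_mem hg) _)

variable {S} in
theorem Gen.le_center_of_lt (hG : S.Gen) (hχ : IsCharacter G χ) (hf : charKer χ = ⊥)
    (hd : charDegree χ + 1 < p) (K : Subgroup G) [hn : K.Normal] (hK : ¬ p ∣ Nat.card K) :
    K ≤ center G := fun v hv => hG.mem_center fun g => by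
  have := (S.hC _).1 (S.le_C_of_lt hχ hf hd K hK (hn.conj_mem' v hv g))
  rw [Commute, SemiconjBy, ← mul_left_inj g, ← mul_right_inj g⁻¹]
  simpa [mul_assoc] using this.symm

variable {S} in
theorem Gen.quot_center_psl (hG : S.Gen) (hN : S.N ≠ ⊤) (h5 : 5 ≤ p) (hχ : IsCharacter G χ)
    (hf : charKer χ = ⊥) (hd : charDegree χ + 1 < p) {k : Type*} [Field k] [CharP k p]
    [PerfectField k] (f : G →* PGL(2, k)) (hx : f S.x ≠ 1) :
    Nonempty (G ⧸ center G ≃* PSL(2, ZMod p)) := by
  have h1 := hG.perfect (S.relIndex_ne_one_of_lt hχ hf hd hN)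
  obtain ⟨e⟩ := S.range_psl h1 h5 f hx
  haveI := Cl.psl_fin_isSimpleGroup (F := ZMod p) (n := 2) le_rfl fun _ => by
    rw [Nat.card_zmod]; omega
  let φ := e.toMonoidHom.comp f.rangeRestrict
  have h2 : Function.Surjective φ := e.surjective.comp f.rangeRestrict_surjective
  have h3 : φ S.x ≠ 1 := fun h => hx (congrArg Subtype.val ((map_eq_one_iff e e.injective).1 h))
  have h4 : center G = φ.ker := le_antisymm (by
    rcases ((center G).normal_of_characteristic.map φ h2).eq_bot_or_eq_top with h | h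
    · exact (Subgroup.map_eq_bot_iff _).1 h
    · refine absurd ?_ h3
      have h6 := map_commutator_eq G φ
      rw [h1, MonoidHom.range_eq_top.2 h2, ← h, ← map_commutator,
        commutator_eq_bot_iff_le_centralizer.2 (center_le_centralizer _), Subgroup.map_bot] at h6
      exact h6.le (mem_map_of_mem _ (mem_top _)))
    (hG.le_center_of_lt hχ hf hd _ fun h => h3 (S.x_mem_of_normal _ h))
  exact ⟨(QuotientGroup.quotientMulEquivOfEq h4).trans
    (QuotientGroup.quotientKerEquivOfSurjective φ h2)⟩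

theorem comm_C (hV : S.Vr ≤ center G) (a b : S.C) : a * b = b * a := by
  obtain ⟨i, v, hv, rfl⟩ := S.exists_decomp a
  have h1 : v * b = b * v := Subtype.ext (mem_center_iff.1 (hV (S.mem_V.2 ⟨v.2, by simpa⟩)) b).symm
  rw [mul_assoc, h1, ← mul_assoc, ((S.commute_xc b).zpow_left i).eq, mul_assoc]

theorem St_eq_top (hV : S.Vr ≤ center G) {θ : IrrCharacter S.C} (h : S.Triv θ) : S.St θ = ⊤ :=
  eq_top_iff.2 fun n _ => S.mem_St.2 (Subtype.ext (funext fun c => by
    obtain ⟨i, v, hv, rfl⟩ := S.exists_decomp c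
    have h1 : S.cj n v = v := Subtype.ext (by
      rw [S.coe_cj, mem_center_iff.1 (hV (S.mem_V.2 ⟨v.2, by simpa⟩)) n, mul_inv_cancel_right])
    have h2 : ((S.xc ^ i : S.C) : G) ∈ zpowers S.x := zpow_mem_zpowers _ i
    rw [cjI_apply, map_mul, h1, h.apply_mul h2, h.apply_mul (S.conj_mem_zpowers n.2 h2)]))

theorem modEq_of_central (hV : S.Vr ≤ center G) (hχ : IsIrrCharacter G χ)
    (hd : ¬ p ∣ charDegree χ) : ∃ s : ℤ, (s = 1 ∨ s = -1) ∧ ((charDegree χ : ℤ) ≡ s [ZMOD p] ∨
      (charDegree χ : ℤ) ≡ s * (S.C.relIndex S.N : ℕ) [ZMOD p]) := by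
  obtain ⟨M, hM⟩ := exists_isPModular hp.out
  haveI := hM.isMaximal
  obtain ⟨θ, h1, h2⟩ := S.exists_triv_of_not_dvd hM (χ := ⟨χ, hχ⟩) hd
  obtain ⟨D, -⟩ := h1.exists_data' hM h2
  have h3 : charDegree (θ : S.C → ℂ) = 1 := θ.2.isCharacter.charDegree_eq_one_iff.2
    (θ.2.apply_one_eq_one_of_comm (S.comm_C hV))
  rcases (D.mem_iff ⟨χ, hχ⟩).1 (mem_blockOf_self _) with h | ⟨i, h⟩
  · exact ⟨_, D.δ_sign _ h, .inl (by simpa [h3, S.St_eq_top hV h1] using D.X_modEq h)⟩
  · exact ⟨_, D.ε_sign, .inr (by simpa [h3, h] using D.Y_modEq i)⟩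

theorem relIndex_of_half (hV : S.Vr ≤ center G) (hχ : IsIrrCharacter G χ) (h5 : 5 ≤ p)
    (hd : 2 * charDegree χ + 1 = p) : S.C.relIndex S.N = charDegree χ := by
  obtain ⟨s, hs, h⟩ := S.modEq_of_central hV hχ (Nat.not_dvd_of_pos_of_lt (by omega) (by omega))
  obtain ⟨t, ht⟩ := S.relIndex_dvd
  have h0 := S.relIndex_pos
  have h1 := Nat.le_of_dvd (by omega) S.relIndex_dvd
  rcases hs with rfl | rfl <;> rcases h with h | h
  · have := Int.le_of_dvd (by omega) h.symm.dvd
    omega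
  · have := Int.eq_zero_of_abs_lt_dvd h.dvd (abs_lt.2 ⟨by omega, by omega⟩)
    omega
  · have := Int.le_of_dvd (by omega) h.symm.dvd
    omega
  · have h2 : p ∣ charDegree χ + S.C.relIndex S.N := by
      have := h.symm.dvd
      rw [neg_one_mul, sub_neg_eq_add] at this
      exact_mod_cast this
    obtain ⟨c, hc⟩ := h2
    obtain rfl : c = 1 := by
      rcases c with _ | _ | c
      · omega
      · rfl
      · rw [mul_add, mul_add] at hc
        omega
    rcases t with _ | _ | t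
    · omega
    · omega
    · rw [mul_add, mul_add] at ht
      omega

theorem irr_restrict_H (hN : S.N ≠ ⊤) (hχ : IsCharacter G χ) (hf : charKer χ = ⊥)
    (hd : 2 * charDegree χ + 1 = p) : IsIrrCharacter S.H fun h : S.H => χ h := by
  haveI := Fintype.ofFinite S.H
  have h1 := hχ.restrict S.H
  have h2 : charKer (fun h : S.H => χ h) = ⊥ := by rw [hχ.charKer_restrict, hf, bot_subgroupOf]
  obtain ⟨ψ, hψ, h3, h4⟩ := Setup.Gen.exists_irr (S.sub_N_ne_top hN) h1 h2
  have h5 := h1.charDegree_irr_le hψ h3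
  have := S.gen_H.le_of_irr (S.sub_N_ne_top hN) (fun v hv => S.gen_H.mem_center
    (Setup.commute_of_degree _ (S.sub_N_ne_top hN) h1 h2 (by rw [charDegree_restrict]; omega) hv))
    hψ h4
  rw [(h1.sub_irr hψ h3).eq_of_sub_of_apply_one (by
    rw [← h1.coe_charDegree, ← hψ.coe_charDegree]
    rw [charDegree_restrict] at h5 ⊢
    exact congrArg _ (by omega))]
  exact hψ

theorem centralizer_le_center (hχ : IsCharacter G χ) (hf : charKer χ = ⊥) {H : Subgroup G}
    (hH : IsIrrCharacter H fun h : H => χ h) : centralizer (H : Set G) ≤ center G := fun v hv => by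
  have h1 : H ≤ centralizer {v} := fun h hh => mem_centralizer_singleton_iff.2 (hv h hh)
  have h2 := IsIrrCharacter.of_comp (f := inclusion h1) (hχ.restrict _) hH
  refine hχ.charCenter_le_center hf (hχ.mem_charCenter.2 ?_)
  have := h2.norm_apply_of_mem_center (z := ⟨v, mem_centralizer_singleton_iff.2 rfl⟩)
    (mem_center_iff.2 fun g => Subtype.ext (mem_centralizer_singleton_iff.1 g.2))
  rwa [charDegree_restrict] at this

theorem quot_center_of_sup {H : Subgroup G} (h : H ⊔ center G = ⊤) :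
    Nonempty (H ⧸ center H ≃* G ⧸ center G) := by
  have h1 : ∀ g : G, ∃ a ∈ H, ∃ z ∈ center G, a * z = g := fun g =>
    mem_sup_of_normal_right.1 (h ▸ mem_top g)
  let φ := (QuotientGroup.mk' (center G)).comp H.subtype
  have h2 : center H = φ.ker := Subgroup.ext fun a => by
    rw [MonoidHom.mem_ker]
    refine Iff.trans (b := (a : G) ∈ center G) ⟨fun ha => mem_center_iff.2 fun g => ?_, fun ha =>
      mem_center_iff.2 fun g => Subtype.ext (mem_center_iff.1 ha g)⟩
      (QuotientGroup.eq_one_iff (a : G)).symm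
    obtain ⟨b, hb, z, hz, rfl⟩ := h1 g
    rw [mul_assoc, ← mem_center_iff.1 hz, ← mul_assoc, ← mul_assoc]
    exact congrArg (· * z) (congrArg Subtype.val (mem_center_iff.1 ha ⟨b, hb⟩))
  refine ⟨(QuotientGroup.quotientMulEquivOfEq h2).trans
    (QuotientGroup.quotientKerEquivOfSurjective φ fun g => ?_)⟩
  obtain ⟨g, rfl⟩ := QuotientGroup.mk_surjective g
  obtain ⟨b, hb, z, hz, rfl⟩ := h1 g
  exact ⟨⟨b, hb⟩, (QuotientGroup.mk_mul_of_mem b hz).symm⟩

theorem eq_top_of_relIndex (K : Subgroup G) [K.Normal] (hx : S.x ∈ K) (hC : S.C ≤ K)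
    (h : (S.sub K hx).C.relIndex (S.sub K hx).N = S.C.relIndex S.N) : K = ⊤ := by
  have h1 := relIndex_mul_relIndex S.C (S.N ⊓ K) S.N (le_inf S.C_le_N hC) inf_le_left
  change (S.C.comap _).relIndex (S.N.subgroupOf K) = _ at h
  rw [relIndex_comap, subgroupOf_map_subtype] at h
  rw [h, mul_eq_left₀ S.relIndex_pos.ne', relIndex_eq_one] at h1
  refine eq_top_iff.2 fun g _ => ?_
  obtain ⟨c, hc, n, hn, rfl⟩ := S.exists_mul_of_normal K hx g
  exact mul_mem hc (h1 hn).2

/-- The theorem of Brauer and Tuan on linear groups of degree `(p - 1) / 2`. -/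
theorem psl_of_half (hN : S.N ≠ ⊤) (hχ : IsCharacter G χ) (hf : charKer χ = ⊥)
    (hd : 2 * charDegree χ + 1 = p) : Nonempty (G ⧸ center G ≃* PSL(2, ZMod p)) := by
  haveI := Fintype.ofFinite S.H
  have h1 := S.irr_restrict_H hN hχ hf hd
  have h2 : charKer (fun h : S.H => χ h) = ⊥ := by rw [hχ.charKer_restrict, hf, bot_subgroupOf]
  obtain ⟨ψ, hψ, h3, h4⟩ := Setup.Gen.exists_irr hN hχ hf
  have h5 : 5 ≤ p := by
    have := hχ.charDegree_irr_le hψ h3
    have := hψ.charDegree_pos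
    omega
  have hV : S.Vr ≤ center G := fun v hv => centralizer_le_center hχ hf h1
    (S.centralizer_H (S.commute_of_degree hN hχ hf (by omega) hv))
  have h6 : S.H ⊔ center G = ⊤ := by
    haveI := Fintype.ofFinite (S.H ⊔ center G : Subgroup G)
    refine S.eq_top_of_relIndex _ (mem_sup_left S.x_mem_H) (fun c hc => ?_) ?_
    · obtain ⟨i, v, hv, h⟩ := S.exists_decomp ⟨c, hc⟩
      rw [show c = S.x ^ i * v from congrArg Subtype.val h]
      exact mul_mem_sup (zpow_mem S.x_mem_H i) (hV (S.mem_V.2 ⟨v.2, by simpa⟩))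
    have h7 : IsIrrCharacter (S.H ⊔ center G : Subgroup G)
        fun h : (S.H ⊔ center G : Subgroup G) => χ h :=
      .of_comp (f := inclusion le_sup_left) (hχ.restrict _) h1
    refine (relIndex_of_half _ (fun v hv => ?_) h7 h5 (by rwa [charDegree_restrict])).trans
      ((charDegree_restrict _ _).trans (S.relIndex_of_half hV (.of_restrict _ hχ h1) h5 hd).symm)
    rw [mem_V] at hv
    exact mem_center_iff.2 fun g => Subtype.ext (mem_center_iff.1 (hV (S.mem_V.2
      ⟨hv.1, by simpa using hv.2⟩)) g)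
  obtain ⟨e⟩ := quot_center_of_sup h6
  have hN' := S.sub_N_ne_top hN
  have h7 : charDegree (fun h : S.H => χ h) + 1 < p := by rw [charDegree_restrict]; omega
  have h8 : 2 * charDegree (fun h : S.H => χ h) + 1 = p := by rwa [charDegree_restrict]
  have hG := S.gen_H
  generalize S.sub S.H S.x_mem_H = T at hN' hG
  obtain ⟨A, F, _, _, _, f, σ, -, h⟩ := T.exists_red hN' h1.isCharacter h2
  have h9 : redRep f σ T.x ≠ 1 := fun e => T.x_ne_one (h (e.trans (map_one _).symm))
  obtain ⟨φ, hφ⟩ : ∃ φ : S.H →* PGL(2, F), φ T.x ≠ 1 := by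
    have h10 := pow_finrank_eq_zero (p := p) (n := 1) (redRep f σ) (x := T.x)
      (by rw [pow_one, ← orderOf_dvd_iff_pow_eq_one, T.hx])
    by_cases h11 : 7 ≤ p
    · exact T.exists_pgl (hG.perfect (T.relIndex_ne_one_of_lt h1.isCharacter h2 h7 hN')) h11 _ h10
        (by simp; omega) h9
    obtain ⟨φ, hφ⟩ := exists_pgl_of_two (redRep f σ) (by simp; omega)
    exact ⟨φ, fun e => h9 (eq_one_of_smul (hφ _ e) h10)⟩
  exact (hG.quot_center_psl hN' h5 h1.isCharacter h2 h7 φ hφ).map e.symm.trans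

end Setup

end Cfsg.Agent.Blk.One
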