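import Mathlib
import Cfsg.Agent.Blk.LowA
import Cfsg.Agent.Blk.LowPGL
import Cfsg.Agent.Blk.OneTuan

/-!
# Linear groups of degree `(p + 1) / 2`
-/

set_option autoImplicit false
set_option linter.unusedSectionVars false
set_option linter.style.haveILetI false

namespace Cfsg.Agent.Blk.One

open Cfsg Cfsg.Agent.Ch Subgroup Module Cfsg.Agent.GT Polynomial
open scoped MatrixGroups

variable {G : Type*} [Group G] {p : ℕ} [hp : Fact p.Prime] [Fintype G]

namespace Setup

variable (S : Setup p G) {χ : G → ℂ}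

theorem x_pow_val_add (i j : ZMod p) : S.x ^ (i + j).val = S.x ^ i.val * S.x ^ j.val := by
  rw [← pow_add, ZMod.val_add, ← pow_mod_orderOf _ (_ + _), S.hx]

theorem aeval_redRep {A F ι : Type*} [CommRing A] [Field F] [Fintype ι] [DecidableEq ι]
    (f : A →+* F) (σ : G →* Matrix ι ι A) (Q : A[X]) (g : G) : aeval (redRep f σ g) (Q.map f) =
      Matrix.toLinAlgEquiv' (f.mapMatrix (aeval (σ g) Q)) := by
  rw [map_aeval_eq_aeval_map (φ := f) (RingHom.ext fun a => by
    ext i j; simp [Matrix.algebraMap_matrix_apply, apply_ite f]), ← aeval_algHom_apply]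
  rfl

/-- The number of eigenvalues of `x` bounds the size of the Jordan blocks of its reduction. -/
theorem pow_eq_zero_of_four {A : ValuationSubring ℂ} {F ι : Type*} [Field F] [CharP F p]
    [Fintype ι] [DecidableEq ι] (f : A →+* F) (σ : G →* Matrix ι ι A)
    (hσ : ∀ g, ((σ g).trace : ℂ) = χ g) (I : Finset (ZMod p))
    (h : ∀ j ∉ I, ∑ k : ZMod p, χ (S.x ^ k.val) * ps (j * k) = 0) :
    (redRep f σ S.x - 1) ^ I.card = 0 := by
  classical
  have hp0 : (p : ℂ) ≠ 0 := Nat.cast_ne_zero.2 hp.out.ne_zero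
  let z : ZMod p → A := fun j => ⟨ps j, by
    refine (A.mem_or_inv_mem _).elim id fun h => ?_
    have := pow_mem h (p - 1)
    rwa [inv_pow, ← eq_inv_of_mul_eq_one_left (a := ps j) (by
      rw [← pow_succ', Nat.sub_add_cancel hp.out.pos, ps_pow_p])] at this⟩
  let τ := redRep A.subtype σ
  let E : ZMod p → End ℂ (ι → ℂ) := fun j => ∑ k : ZMod p, ps (j * k) • τ (S.x ^ k.val)
  have h1 : ∀ j i, τ (S.x ^ ZMod.val i) * E j = ps (-(j * i)) • E j := fun j i => by
    rw [Finset.mul_sum, Finset.smul_sum, ← Equiv.sum_comp (Equiv.addLeft i)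
      fun k => ps (-(j * i)) • ps (j * k) • τ (S.x ^ k.val)]
    refine Finset.sum_congr rfl fun k _ => ?_
    rw [mul_smul_comm, ← map_mul, smul_smul, ← ps_add, Equiv.coe_addLeft, x_pow_val_add]
    congr 2
    ring
  have h2 : ∀ j ∉ I, E j = 0 := fun j hj => by
    have : IsIdempotentElem ((p : ℂ)⁻¹ • E j) := by
      rw [IsIdempotentElem, smul_mul_smul_comm, mul_smul]
      congr 1
      rw [inv_smul_eq_iff₀ hp0]
      nth_rewrite 1 [show E j = ∑ k : ZMod p, ps (j * k) • τ (S.x ^ k.val) from rfl]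
      simp only [Finset.sum_mul, smul_mul_assoc, h1, smul_smul, ← ps_add, add_neg_cancel, ps_zero,
        one_smul, Finset.sum_const, Finset.card_univ, ZMod.card, Nat.cast_smul_eq_nsmul]
    refine (smul_eq_zero_iff_right (inv_ne_zero hp0)).1
      (LinearMap.IsIdempotentElem.eq_zero_of_trace_eq_zero this ?_)
    rw [map_smul, map_sum, smul_eq_zero_iff_right (inv_ne_zero hp0), ← h j hj]
    refine Finset.sum_congr rfl fun k _ => ?_
    rw [map_smul, smul_eq_mul, mul_comm, ← hσ]
    congr 1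
    exact (Matrix.trace_toLin'_eq _).trans (AddMonoidHom.map_trace A.subtype _).symm
  have h3 : ∑ j, E j = (p : ℂ) • 1 := by
    rw [Finset.sum_comm]
    simp only [← Finset.sum_smul, sum_ps_mul, ite_smul, zero_smul, Finset.sum_ite_eq',
      Finset.mem_univ, if_true, ZMod.val_zero, pow_zero, map_one]
  let Q : A[X] := ∏ j ∈ I, (X - Polynomial.C (z (-j)))
  have h5 : aeval (τ S.x) (Q.map A.subtype) = 0 := by
    rw [← smul_eq_zero_iff_right hp0, ← mul_one (aeval _ _), ← mul_smul_comm, ← h3, Finset.mul_sum]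
    refine Finset.sum_eq_zero fun j _ => ?_
    by_cases hj : j ∈ I
    · have := h1 j 1
      rw [ZMod.val_one, pow_one, mul_one] at this
      rw [show Q = _ from (Finset.prod_erase_mul I _ hj).symm, Polynomial.map_mul, map_mul, mul_assoc]
      simp [sub_mul, this, z, Algebra.algebraMap_eq_smul_one]
    · rw [h2 j hj, mul_zero]
  rw [aeval_redRep, map_eq_zero_iff _ Matrix.toLinAlgEquiv'.injective,
    map_eq_zero_iff _ (Matrix.map_injective Subtype.val_injective)] at h5
  have h6 := aeval_redRep f σ Q S.x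
  rw [h5, map_zero, map_zero, Polynomial.map_prod, Finset.prod_congr rfl (g := fun _ => X - 1)
    fun j _ => ?_, Finset.prod_const] at h6
  · simpa using h6
  have h7 : f (z (-j)) ^ p = 1 := by
    rw [← map_pow, show z (-j) ^ p = 1 from Subtype.ext (ps_pow_p _), map_one]
  rw [← sub_eq_zero, ← one_pow p, ← sub_pow_char, pow_eq_zero_iff hp.out.ne_zero, sub_eq_zero] at h7
  simp [h7]

theorem ee_sub (H : Subgroup G) [Fintype H] (hx : S.x ∈ H) :
    (S.sub H hx).ee = S.C.relIndex (S.N ⊓ H) := by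
  change (S.C.comap _).relIndex (S.N.subgroupOf H) = _
  rw [relIndex_comap, subgroupOf_map_subtype]

theorem ee_sub_le_ee (H : Subgroup G) [Fintype H] (hx : S.x ∈ H) : (S.sub H hx).ee ≤ S.ee := by
  rw [ee_sub]
  exact relIndex_le_of_le_right inf_le_left S.ee_pos.ne'

theorem sum_units_gp (i : (ZMod p)ˣ) : ∑ k : (ZMod p)ˣ, S.gp ((i : ZMod p) * k) = -S.ee := by
  have := S.sum_gp_ps i 0
  rw [Finset.sum_eq_zero (s := S.Af) fun a _ => if_neg (by rw [add_zero]; exact (i * a).ne_zero),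
    sum_zmod_eq] at this
  simp only [zero_mul, mul_zero, ps_zero, mul_one, gp_zero] at this
  linear_combination this

variable {S} in
theorem Gen.low_cases (hG : S.Gen) (hN : S.N ≠ ⊤) (hV : S.Vr ≤ center G) (hχ : IsIrrCharacter G χ)
    (h1 : charDegree χ ≠ 1) (hd : charDegree χ + 2 ≤ p) :
    (∃ i, S.Low χ i) ∨ charDegree χ = S.ee ∧ 2 * S.ee + 1 = p := by
  obtain ⟨h2, i, h | ⟨m, hm, -⟩⟩ := S.low_cases hχ hd fun h => h1 (by
    rw [show χ = _ from congrArg Subtype.val (hG.eq_irrOne (χ := ⟨χ, hχ⟩) h)]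
    exact (irrOne G).2.isCharacter.charDegree_eq_one_iff.2 rfl)
  · exact .inl ⟨i, h⟩
  have h3 := hG.le_of_irr hN hV hχ h1
  have h0 := S.ee_pos
  have h4 := hχ.charDegree_pos
  obtain ⟨s, hs, h⟩ := S.modEq_of_central hV hχ (Nat.not_dvd_of_pos_of_lt (by omega) (by omega))
  change _ ∨ _ ≡ s * (S.ee : ℕ) [ZMOD p] at h
  rcases hs with rfl | rfl <;> rcases h with h | h
  · have := Int.le_of_dvd (by omega) h.symm.dvd
    omega
  · have := Int.eq_zero_of_abs_lt_dvd h.dvd (abs_lt.2 ⟨by omega, by omega⟩)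
    omega
  · have := Int.le_of_dvd (by omega) h.symm.dvd
    omega
  · have h5 : p ∣ S.ee * (m + 1) := by
      have := h.symm.dvd
      rw [neg_one_mul, sub_neg_eq_add, hm] at this
      rw [mul_add_one]
      exact_mod_cast this
    have h6 := Nat.le_of_dvd m.succ_pos ((hp.out.dvd_mul.1 h5).resolve_left
      (Nat.not_dvd_of_pos_of_lt h0 (by omega)))
    have := Nat.mul_le_mul_right m h0
    omega

theorem plus_half (hN : S.N ≠ ⊤) (hχ : IsCharacter G χ) (hf : charKer χ = ⊥)
    (hd : charDegree χ + 2 ≤ p) (he : 2 * S.ee + 1 ≤ p) {m : ℕ} {i : (ZMod p)ˣ}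
    (hm : charDegree χ = S.ee * m)
    (h : ∀ k : (ZMod p)ˣ, χ (S.x ^ (k : ZMod p).val) = m * S.gp ((i : ZMod p) * (k : ZMod p))) :
    2 * charDegree χ + 1 = p := by
  classical
  haveI := Fintype.ofFinite S.H
  have h1 := hχ.restrict S.H
  have h2 : charKer (fun h : S.H => χ h) = ⊥ := by rw [hχ.charKer_restrict, hf, bot_subgroupOf]
  have hN' := S.sub_N_ne_top hN
  obtain ⟨ψ, hψ, h3, h4⟩ := Setup.Gen.exists_irr hN' h1 h2
  have h5 := h1.charDegree_irr_le hψ h3
  rw [charDegree_restrict] at h5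
  have h6 : ∀ k : ZMod p, χ (S.x ^ k.val) = m * S.gp (i * k) := fun k => by
    by_cases hk : k = 0
    · rw [hk, ZMod.val_zero, pow_zero, mul_zero, gp_zero, ← hχ.coe_charDegree, hm, mul_comm,
        Nat.cast_mul]
    · exact h (Units.mk0 k hk)
  obtain ⟨A, F, _, _, _, f, σ, hσ, h7⟩ := S.exists_red hN hχ hf
  have h8 := S.pow_eq_zero_of_four f σ hσ (S.Af.image fun a : (ZMod p)ˣ => -((i : ZMod p) * a))
    fun j hj => by
      simp only [h6, mul_assoc, ← Finset.mul_sum]
      rw [sum_gp_ps, Finset.sum_eq_zero fun a ha => if_neg fun e => hj (Finset.mem_image.2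
        ⟨a, ha, neg_eq_of_add_eq_zero_right e⟩), mul_zero, mul_zero]
  have h9 := (Finset.card_image_le (f := fun a : (ZMod p)ˣ => -((i : ZMod p) * a))).trans_eq S.card_Af
  rcases S.gen_H.low_cases hN' (fun v hv => S.gen_H.mem_center fun g => by
    rw [mem_V] at hv
    have := S.commute_of_small (redRep f σ) (by simp; omega) h8 (by omega)
      (S.mem_V.2 ⟨hv.1, by simpa using hv.2⟩) g
    exact Subtype.ext (h7 ((map_mul _ _ _).trans (this.eq.trans (map_mul _ _ _).symm))))
    hψ h4 (by omega) with ⟨j, hj⟩ | ⟨e1, e2⟩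
  · obtain ⟨θ, hθ, -, hθ'⟩ := (S.sub S.H S.x_mem_H).exists_four (h1.sub_irr hψ h3) 0
    have e1 := hθ' 1 (by simpa using hp.out.ne_one)
    have e2 := hj.deg
    simp only [Subgroup.coe_one, mul_one, zero_mul, ps_zero, Pi.sub_apply, hj.val, Finset.sum_sub_distrib,
      Finset.sum_neg_distrib, sum_units_gp, SubmonoidClass.coe_pow, show
        ((S.sub S.H S.x_mem_H).x : G) = S.x from rfl, h, ← Finset.mul_sum, ← hχ.coe_charDegree, hm,
      ← hψ.coe_charDegree, ← hθ.coe_charDegree] at e1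
    have e3 : ((p * charDegree θ + (charDegree ψ + (S.sub S.H S.x_mem_H).ee) : ℕ) : ℂ) = (0 : ℕ) := by
      push_cast at e1 ⊢
      linear_combination e1
    have := Nat.cast_injective e3
    have := hp.out.pos
    omega
  have := S.ee_sub_le_ee S.H S.x_mem_H
  have := hψ.charDegree_pos
  rcases m with _ | _ | m
  · omega
  · omega
  · rw [mul_add, mul_add] at hm
    omega

/-- Linear groups of degree `(p + 1) / 2`. -/
theorem psl_of_half_succ (hN : S.N ≠ ⊤) (h7 : 7 < p) (hχ : IsIrrCharacter G χ)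
    (hf : charKer χ = ⊥) (hd : 2 * charDegree χ = p + 1) :
    Nonempty (G ⧸ center G ≃* PSL(2, ZMod p)) := by
  classical
  haveI := Fintype.ofFinite S.H
  have h11 : 11 ≤ p := by
    by_contra h
    have := hp.out
    interval_cases p <;> norm_num at this
  obtain ⟨he, i, h | ⟨m, hm, h⟩⟩ := S.low_cases hχ (by omega) fun h =>
    S.x_ne_one (hf.le (hχ.mem_charKer.2 h))
  swap
  · have := S.plus_half hN hχ.isCharacter hf (by omega) he hm h
    omega
  have hV : S.Vr ≤ center G := fun v hv => hχ.isCharacter.charCenter_le_center hf (h.cen v hv)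
  have h1 := hχ.isCharacter.restrict S.H
  have h2 : charKer (fun h : S.H => χ h) = ⊥ := by
    rw [hχ.isCharacter.charKer_restrict, hf, bot_subgroupOf]
  have hN' := S.sub_N_ne_top hN
  obtain ⟨ψ, hψ, h3, h4⟩ := Setup.Gen.exists_irr hN' h1 h2
  have h5 := h1.charDegree_irr_le hψ h3
  rw [charDegree_restrict] at h5
  have h6 : p ≤ 2 * (S.sub S.H S.x_mem_H).ee + 1 := by
    rcases S.gen_H.low_cases hN' (fun v hv => by
      rw [mem_V] at hv
      exact mem_center_iff.2 fun g => Subtype.ext (mem_center_iff.1 (hV (S.mem_V.2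
        ⟨hv.1, by simpa using hv.2⟩)) g)) hψ h4 (by omega) with ⟨j, hj⟩ | ⟨-, e2⟩
    · have := hj.deg
      omega
    · omega
  have h8 : S.H ⊔ center G = ⊤ := by
    haveI := Fintype.ofFinite (S.H ⊔ center G : Subgroup G)
    refine S.eq_top_of_relIndex _ (mem_sup_left S.x_mem_H) (fun c hc => ?_) ?_
    · obtain ⟨i, v, hv, h⟩ := S.exists_decomp ⟨c, hc⟩
      rw [show c = S.x ^ i * v from congrArg Subtype.val h]
      exact mul_mem_sup (zpow_mem S.x_mem_H i) (hV (S.mem_V.2 ⟨v.2, by simpa⟩))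
    have e1 := S.ee_sub_le_ee (S.H ⊔ center G) (mem_sup_left S.x_mem_H)
    have e2 := (S.sub (S.H ⊔ center G) (mem_sup_left S.x_mem_H)).ee_pos
    have e3 := relIndex_le_of_le_right (H := S.C) (inf_le_inf_left S.N (le_sup_left (b := center G)))
      (S.ee_sub (S.H ⊔ center G) (mem_sup_left S.x_mem_H) ▸ e2.ne')
    rw [← S.ee_sub _ S.x_mem_H, ← S.ee_sub (S.H ⊔ center G) (mem_sup_left S.x_mem_H)] at e3
    change (S.sub _ _).ee = S.ee
    omega
  obtain ⟨e⟩ := quot_center_of_sup h8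
  have h9 : charDegree (fun h : S.H => χ h) + 1 < p := by rw [charDegree_restrict]; omega
  have h10 : 2 * charDegree (fun h : S.H => χ h) = p + 1 := by rwa [charDegree_restrict]
  have hG := S.gen_H
  generalize S.sub S.H S.x_mem_H = T at hN' hG h6
  obtain ⟨A, F, _, _, _, f, σ, -, h⟩ := T.exists_red hN' h1 h2
  obtain ⟨t, ht⟩ : ∃ t : T.N, T.al t ^ 2 ≠ 1 := by
    by_contra e1
    push Not at e1
    have := Finset.card_le_card (show T.Af ⊆ {1, -1} from fun a ha => by
      obtain ⟨t, rfl⟩ := T.mem_Af'.1 ha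
      simpa using (Units.inv_eq_self_iff _).1 (inv_eq_of_mul_eq_one_right ((pow_two _).symm.trans (e1 t))))
    have := Finset.card_le_two (a := (1 : (ZMod p)ˣ)) (b := -1)
    have := T.card_Af
    omega
  obtain ⟨φ, hφ⟩ := T.exists_pgl_succ (hG.perfect (T.relIndex_ne_one_of_lt h1 h2 h9 hN')) h11
    (redRep f σ) (by simpa using h10) (fun e => T.x_ne_one (h (e.trans (map_one _).symm))) ht
  exact (hG.quot_center_psl hN' (by omega) h1 h2 h9 φ hφ).map e.symm.trans

end Setup

end Cfsg.Agent.Blk.One
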