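import Mathlib
import Cfsg.Agent.Blk.LowB
import Cfsg.Agent.Blk.LowPSL
import Cfsg.Agent.Blk.LowMod

/-!
# Inner products over the normalizer of a Sylow subgroup of prime order
-/

set_option autoImplicit false
set_option linter.unusedSectionVars false
set_option linter.style.haveILetI false

namespace Cfsg.Agent.Blk.One

open Cfsg Cfsg.Agent.Ch Subgroup Cfsg.Agent.Blk.Om Cfsg.Agent.GT
open scoped ComplexConjugate

theorem sum_le_of_fiber {ι κ : Type*} [Fintype ι] [Fintype κ] [DecidableEq ι] (Y : κ → ι)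
    (m c : ι → ℕ) {e : ℕ} (hc : ∀ k, c (Y k) ≠ 0)
    (hf : ∀ k, (Finset.univ.filter fun k' => Y k' = Y k).card ≤ e) :
    ∑ k, m (Y k) ≤ e * ∑ i, m i * c i := by
  rw [Finset.sum_comp, Finset.mul_sum]
  refine le_trans (Finset.sum_le_sum fun i hi => ?_) (Finset.sum_le_sum_of_subset
    (Finset.subset_univ (Finset.univ.image Y)))
  obtain ⟨k, -, rfl⟩ := Finset.mem_image.1 hi
  exact Nat.mul_le_mul (hf k) (Nat.le_mul_of_pos_right _ (Nat.pos_of_ne_zero (hc k)))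

variable {G : Type*} [Group G] {p : ℕ} [hp : Fact p.Prime] [Fintype G]

theorem sum_units_const' (c : ℂ) : ∑ _k : (ZMod p)ˣ, c = (p - 1) * c := by
  rw [Finset.sum_const, Finset.card_univ, nsmul_eq_mul, card_units_cast]

namespace Setup

variable (S : Setup p G)

/-- The generator of the Sylow subgroup as an element of the normalizer. -/
abbrev xn : S.N := ⟨S.x, S.x_mem_N⟩

theorem exists_gen_al : ∃ n₀ : S.N, orderOf (S.al n₀) = S.ee := by
  obtain ⟨⟨_, n, rfl⟩, h⟩ := IsCyclic.exists_ofOrder_eq_natCard (α := S.al.range)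
  exact ⟨n, by rw [ee, ← S.card_range_al, ← h, ← orderOf_coe]⟩

theorem conj_eq_x_pow_mul {n : S.N} (hn : (n : G) ∉ S.C) (l : ZMod p) :
    ∃ k : ℕ, S.x ^ k * n * (S.x ^ k)⁻¹ = S.x ^ l.val * n := by
  have h : (1 : ZMod p) - S.al n ≠ 0 := sub_ne_zero.2 fun e =>
    hn ((S.al_eq_one_iff n).1 (Units.ext e.symm))
  refine ⟨(l / (1 - S.al n)).val, ?_⟩
  rw [mul_inv_eq_iff_eq_mul, mul_assoc, mul_inv_eq_iff_eq_mul.1 (S.conj_x_pow n _), ← mul_assoc,
    ← x_pow_val_add]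
  congr 3
  field_simp
  ring

variable {S} {n₀ : S.N} (hn₀ : orderOf (S.al n₀) = S.ee)
include hn₀

theorem pow_mem_C_iff (j : ℕ) : (n₀ : G) ^ j ∈ S.C ↔ S.ee ∣ j := by
  rw [← hn₀, orderOf_dvd_iff_pow_eq_one, ← map_pow, al_eq_one_iff]; rfl

theorem pow_notMem_C {j : ℕ} (hj : j ∈ Finset.Ico 1 S.ee) : (n₀ : G) ^ j ∉ S.C := by
  rw [pow_mem_C_iff hn₀]
  exact Nat.not_dvd_of_pos_of_lt (Finset.mem_Ico.1 hj).1 (Finset.mem_Ico.1 hj).2

theorem bijective_N : Function.Bijective fun q : Fin S.ee × S.Vr × ZMod p =>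
    (⟨q.2.1, S.C_le_N (S.mem_V.1 q.2.1.2).1⟩ : S.N) * (S.xn ^ q.2.2.val * n₀ ^ (q.1 : ℕ)) := by
  have h1 : ∀ (v : S.Vr) (l : ZMod p), S.al ⟨v, S.C_le_N (S.mem_V.1 v.2).1⟩ = 1 ∧
      S.al (S.xn ^ l.val) = 1 := fun v l => ⟨(S.al_eq_one_iff _).2 (S.mem_V.1 v.2).1,
    (S.al_eq_one_iff _).2 (pow_mem S.x_mem_C _)⟩
  constructor
  · rintro ⟨j, v, l⟩ ⟨j', v', l'⟩ h
    have h2 := congrArg S.al h
    simp only [map_mul, (h1 _ 0).1, (h1 v _).2, one_mul, map_pow S.al n₀] at h2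
    obtain rfl : j = j' := Fin.ext (pow_injOn_Iio_orderOf (j.2.trans_eq hn₀.symm)
      (j'.2.trans_eq hn₀.symm) h2)
    simp only [← mul_assoc, mul_left_inj] at h
    have h3 : ∀ (v : S.Vr) (l : ZMod p), S.pr (⟨v, (S.mem_V.1 v.2).1⟩ * S.xc ^ l.val) = l :=
      fun v l => by rw [pr_mul, pr_xc_pow, S.pr_of_regular
        (by rw [← orderOf_coe]; exact (S.mem_V.1 v.2).2), zero_add]
    obtain rfl : l = l' := by
      rw [← h3 v l, ← h3 v' l']
      exact congrArg _ (Subtype.ext (congrArg Subtype.val h :))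
    obtain rfl : v = v' := Subtype.ext (congrArg Subtype.val (mul_right_cancel h) :)
    rfl
  · intro n
    have h2 : zpowers (S.al n₀) = S.al.range := eq_of_le_of_card_ge
      (zpowers_le.2 ⟨n₀, rfl⟩) (by rw [Nat.card_zpowers, hn₀, card_range_al])
    obtain ⟨j, hj, h3⟩ := Finset.mem_image.1 ((mem_zpowers_iff_mem_range_orderOf).1
      (h2.ge ⟨n, rfl⟩))
    obtain ⟨v, hv, h4⟩ := S.exists_Vr_mul ⟨(n * (n₀ ^ j)⁻¹ : S.N), (S.al_eq_one_iff _).1 (by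
      rw [map_mul, map_inv, map_pow, h3, mul_inv_cancel])⟩
    exact ⟨⟨⟨j, hn₀ ▸ Finset.mem_range.1 hj⟩, ⟨v, hv⟩, _⟩, Subtype.ext
      ((mul_assoc _ _ _).symm.trans (mul_inv_eq_iff_eq_mul.1 h4).symm)⟩

theorem inner_N [Fintype S.N] {φ ψ : S.N → ℂ} (hφ : IsClassFunction S.N φ)
    (hψ : IsClassFunction S.N ψ)
    (hv : ∀ v : S.N, (v : G) ∈ S.Vr → ∀ n, φ (v * n) * conj (ψ (v * n)) = φ n * conj (ψ n)) :
    (S.ee * p : ℂ) * classInner φ ψ = φ 1 * conj (ψ 1) + ∑ k : (ZMod p)ˣ,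
      φ (S.xn ^ (k : ZMod p).val) * conj (ψ (S.xn ^ (k : ZMod p).val)) +
        p * ∑ j ∈ Finset.Ico 1 S.ee, φ (n₀ ^ j) * conj (ψ (n₀ ^ j)) := by
  haveI := Fintype.ofFinite S.Vr
  have h1 := Nat.card_eq_of_bijective _ (bijective_N hn₀)
  have h2 := Fintype.sum_bijective _ (bijective_N hn₀) _ (fun n => φ n * conj (ψ n)) fun _ => rfl
  have h3 : ∀ j ∈ Finset.Ico 1 S.ee, ∀ l : ZMod p, φ (S.xn ^ l.val * n₀ ^ j) *
      conj (ψ (S.xn ^ l.val * n₀ ^ j)) = φ (n₀ ^ j) * conj (ψ (n₀ ^ j)) := fun j hj l => by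
    obtain ⟨k, hk⟩ := S.conj_eq_x_pow_mul (n := n₀ ^ j) (pow_notMem_C hn₀ hj) l
    rw [show S.xn ^ l.val * n₀ ^ j = S.xn ^ k * n₀ ^ j * (S.xn ^ k)⁻¹ from Subtype.ext hk.symm,
      hφ, hψ]
  have h7 := fun v : S.Vr => hv ⟨v, S.C_le_N (S.mem_V.1 v.2).1⟩ v.2
  simp only [h7, Fintype.sum_prod_type, Finset.sum_const, Finset.card_univ,
    ← Nat.card_eq_fintype_card, nsmul_eq_mul, ← Finset.mul_sum] at h2
  rw [Fin.sum_univ_eq_sum_range (fun j => ∑ l : ZMod p, φ (S.xn ^ l.val * n₀ ^ j) *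
    conj (ψ (S.xn ^ l.val * n₀ ^ j))), Finset.range_eq_Ico,
    Finset.sum_eq_sum_Ico_succ_bot S.ee_pos, sum_zmod_eq,
    Finset.sum_congr rfl fun j hj => Finset.sum_congr rfl fun l _ => h3 j hj l] at h2
  simp only [Nat.card_prod, Nat.card_fin, Nat.card_zmod] at h1
  simp only [ZMod.val_zero, pow_zero, mul_one, Finset.sum_const, Finset.card_univ, ZMod.card,
    nsmul_eq_mul, ← Finset.mul_sum] at h2
  have h4 := natCard_ne_zero S.Vr
  have h5 : (S.ee : ℂ) ≠ 0 := Nat.cast_ne_zero.2 S.ee_pos.ne'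
  have h6 : (p : ℂ) ≠ 0 := Nat.cast_ne_zero.2 hp.out.ne_zero
  rw [classInner_def, ← h2, ← h1]
  push_cast
  field_simp

omit hn₀

open Classical in
theorem sum_gp_gp (i j : ZMod p) : ∑ k : (ZMod p)ˣ, S.gp (i * k) * S.gp (j * k) =
    p * ∑ a ∈ S.Af, ∑ b ∈ S.Af, (if i * (b : ZMod p) + j * (a : ZMod p) = 0 then 1 else 0) -
      (S.ee : ℂ) ^ 2 := by
  rw [sum_units_eq fun k => S.gp (i * k) * S.gp (j * k), mul_zero, mul_zero, gp_zero, sq,
    Finset.mul_sum]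
  congr 1
  simp only [← sum_gp_ps]
  rw [Finset.sum_comm]
  refine Finset.sum_congr rfl fun k _ => ?_
  rw [← Finset.mul_sum]
  simp only [mul_right_comm j]
  rfl

theorem sum_gp_conj (i : (ZMod p)ˣ) :
    ∑ k : (ZMod p)ˣ, S.gp ((i : ZMod p) * k) * conj (S.gp ((i : ZMod p) * k)) =
      p * S.ee - (S.ee : ℂ) ^ 2 := by
  classical
  simp only [conj_gp, ← neg_mul]
  rw [sum_gp_gp, Finset.sum_congr rfl fun a ha => show _ = (1 : ℂ) from ?_]
  · simp [card_Af]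
  rw [Finset.sum_eq_single_of_mem a ha fun b _ h => if_neg fun e => h (Units.ext
    (mul_left_cancel₀ i.ne_zero (by linear_combination e))), if_pos (by ring)]

open Classical in
theorem sum_gp_sq (i : (ZMod p)ˣ) : ∑ k : (ZMod p)ˣ, S.gp ((i : ZMod p) * k) ^ 2 =
    p * S.ee * (if -1 ∈ S.Af then 1 else 0) - (S.ee : ℂ) ^ 2 := by
  simp only [sq]
  rw [sum_gp_gp, Finset.sum_congr rfl fun a ha =>
    show _ = (if -1 ∈ S.Af then (1 : ℂ) else 0) from ?_]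
  · simp [card_Af, mul_assoc, sq]
  have h : ∀ b : (ZMod p)ˣ, (i : ZMod p) * b + i * a = 0 ↔ b = -1 * a := fun b => by
    rw [← mul_add, mul_eq_zero, or_iff_right i.ne_zero, add_eq_zero_iff_eq_neg, neg_one_mul,
      ← Units.val_neg, Units.val_inj]
  simp only [h, Finset.sum_ite_eq']
  refine if_congr ⟨fun h => ?_, fun h => S.mul_mem_Af h ha⟩ rfl rfl
  simpa using S.mul_mem_Af h (S.inv_mem_Af ha)

theorem exists_mul_of_gp_eq {i j : (ZMod p)ˣ}
    (h : ∀ k : (ZMod p)ˣ, S.gp ((i : ZMod p) * k) = S.gp ((j : ZMod p) * k)) :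
    ∃ a ∈ S.Af, i * a = j := by
  classical
  by_contra! e
  have h1 := S.sum_gp_conj j
  simp only [conj_gp, ← neg_mul] at h1
  rw [Finset.sum_congr rfl fun k _ => by rw [← h k], sum_gp_gp, Finset.sum_eq_zero fun a ha =>
    Finset.sum_eq_zero fun b hb => if_neg fun e' => e _ (S.mul_mem_Af hb (S.inv_mem_Af ha)) (by
      rw [← mul_assoc, mul_inv_eq_iff_eq_mul]
      exact Units.ext (by push_cast; linear_combination e'))] at h1
  exact mul_ne_zero (Nat.cast_ne_zero.2 hp.out.ne_zero) (Nat.cast_ne_zero.2 S.ee_pos.ne')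
    (show (p : ℂ) * S.ee = 0 by linear_combination -h1)

theorem sum_mul_gp {Φ : G → ℂ} (hΦ : IsClassFunction G Φ) (i : ZMod p) :
    ∑ k : (ZMod p)ˣ, Φ (S.x ^ (k : ZMod p).val) * S.gp (i * k) =
      S.ee * ∑ k : (ZMod p)ˣ, Φ (S.x ^ (k : ZMod p).val) * ps (i * (k : ZMod p)) := by
  simp only [gp, Finset.mul_sum]
  rw [Finset.sum_comm, ← Finset.mul_sum, ← card_Af, ← nsmul_eq_mul, ← Finset.sum_const]
  refine Finset.sum_congr rfl fun a ha => ?_
  obtain ⟨n, rfl⟩ := S.mem_Af'.1 ha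
  rw [← Equiv.sum_comp (Equiv.mulLeft (S.al n)) fun k : (ZMod p)ˣ =>
    Φ (S.x ^ (k : ZMod p).val) * ps (i * (k : ZMod p))]
  refine Finset.sum_congr rfl fun k _ => ?_
  rw [Equiv.coe_mulLeft, Units.val_mul, ← conj_x_pow, hΦ, mul_assoc, mul_comm (k : ZMod p)]

variable {ζ : G → ℂ} {i : (ZMod p)ˣ}

theorem Low.exists_gamma (h : S.Low ζ i) : ∃ γ : S.N →* ℂˣ,
    (∀ n : S.N, (n : G) ∉ S.C → ζ n = γ n) ∧ γ S.xn = 1 ∧
      ∀ v : S.N, (v : G) ∈ S.Vr → (γ v : ℂ) = ζ v / ζ 1 := by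
  haveI := Fintype.ofFinite S.N
  set T := S.sub S.N S.x_mem_N
  haveI := Fintype.ofFinite (zpowers T.x)
  haveI : (zpowers T.x).Normal := ⟨fun y hy g => T.conj_mem_zpowers g.2 hy⟩
  have h0 : (p : ℂ) ≠ 0 := Nat.cast_ne_zero.2 hp.out.ne_zero
  have h1 : ∀ n : S.N, p * cosetAvg (zpowers T.x) (fun n : S.N => ζ n) n =
      ζ n + ∑ k : (ZMod p)ˣ, ζ (S.x ^ (k : ZMod p).val * n) := fun n => by
    rw [cosetAvg_apply, T.card_zpowers, mul_inv_cancel_left₀ h0]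
    refine (T.sum_zpowers_x fun y : S.N => ζ (y * n : S.N)).trans ?_
    rw [one_mul]
    rfl
  have h2 : ∀ v : S.N, (v : G) ∈ S.Vr → cosetAvg (zpowers T.x) (fun n : S.N => ζ n) v =
      ζ v / ζ 1 := fun v hv => by
    refine mul_left_cancel₀ h0 ((h1 v).trans ?_)
    simp only [h.irr.isClassFunction.mul_comm _ v, apply_mul_cen h.irr (h.cen _ hv), h.val,
      ← Finset.mul_sum, Finset.sum_neg_distrib, sum_units_gp]
    have := h.irr.apply_one_ne_zero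
    field_simp
    rw [h.cast_deg]
    ring
  obtain ⟨γ, hγ⟩ := (isCharacter_cosetAvg (zpowers T.x)
    (h.irr.isCharacter.restrict S.N)).exists_monoidHom_of_apply_one
    ((h2 1 (one_mem _)).trans (div_self h.irr.apply_one_ne_zero))
  refine ⟨γ, fun n hn => mul_left_cancel₀ h0 ?_, Units.ext ?_, fun v hv =>
    (congrFun hγ v).symm.trans (h2 v hv)⟩
  · rw [← show _ = (γ n : ℂ) from congrFun hγ n, h1, Finset.sum_congr rfl fun k _ =>
      show _ = ζ n from ?_, sum_units_const']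
    · ring
    obtain ⟨j, hj⟩ := S.conj_eq_x_pow_mul hn k
    rw [← hj, h.irr.isClassFunction]
  · have := cosetAvg_mul_left (zpowers T.x) (fun n : S.N => ζ n) (mem_zpowers T.x) 1
    rw [hγ, mul_one] at this
    exact this.trans (congrArg _ γ.map_one)

theorem Low.one_lt_inner [Fintype S.N] (h : S.Low ζ i) (he : 2 * S.ee + 1 ≤ p) :
    1 < (classInner (fun n : S.N => ζ n) fun n : S.N => ζ n).re := by
  obtain ⟨n₀, hn₀⟩ := S.exists_gen_al
  obtain ⟨γ, h1, -⟩ := h.exists_gamma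
  have h2 := inner_N hn₀ (h.irr.isClassFunction.restrict S.N) (h.irr.isClassFunction.restrict S.N)
    fun v hv n => by
      simp only [coe_mul, apply_mul_cen h.irr (h.cen _ hv), map_mul]
      linear_combination ζ n * conj (ζ n) * mul_conj_cen h.irr (h.cen _ hv)
  rw [Finset.sum_congr (s₁ := Finset.Ico 1 S.ee) rfl fun j hj => show _ = (1 : ℂ) by
    rw [h1 _ (pow_notMem_C hn₀ hj), monoidHom_units_mul_conj]] at h2
  simp only [SubmonoidClass.coe_pow, h.val, map_neg, neg_mul_neg, sum_gp_conj, coe_one,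
    h.cast_deg, map_sub, Complex.conj_natCast, Finset.sum_const, Nat.card_Ico, nsmul_eq_mul,
    Nat.cast_sub S.ee_pos] at h2
  have h3 : (S.ee : ℂ) * classInner (fun n : S.N => ζ n) (fun n : S.N => ζ n) = (p - 1 : ℝ) :=
    mul_left_cancel₀ (Nat.cast_ne_zero.2 hp.out.ne_zero : (p : ℂ) ≠ 0) (by
      push_cast at h2 ⊢; linear_combination h2)
  have h4 := congrArg Complex.re h3
  rw [← Complex.ofReal_natCast, Complex.re_ofReal_mul, Complex.ofReal_re] at h4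
  have h5 : (2 * S.ee + 1 : ℝ) ≤ p := by exact_mod_cast he
  have h6 : (0 : ℝ) < S.ee := Nat.cast_pos.2 S.ee_pos
  nlinarith

end Setup

end Cfsg.Agent.Blk.One
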