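import Mathlib
import Cfsg.Agent.Blk.LowB
import Cfsg.Agent.Blk.OneAlt
import Cfsg.Agent.Blk.OneBR4
import Cfsg.Agent.Blk.OneTuan
import Cfsg.Agent.Ch.MultSL2
import Cfsg.Agent.GT.NearField

/-!
# Faithful characters of degree `p - 2`
-/

set_option autoImplicit false
set_option linter.unusedSectionVars false
set_option linter.style.haveILetI false

namespace Cfsg.Agent.Blk.One

open Cfsg Cfsg.Agent.Ch Subgroup Cfsg.Agent.Blk.Om Cfsg.Agent.GT
open scoped ComplexConjugate MatrixGroups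

variable {G : Type*} [Group G] {p : ℕ} [hp : Fact p.Prime] [Fintype G]

theorem seq_sq_cases {a : ℕ → ℝ} {c : ℝ} (hc : 0 < c) (h0 : 0 ≤ a 0)
    (h : ∀ n, a n ^ 2 = c * a (n + 1)) {N : ℕ} (hN : 0 < N) (hp : a N = a 0) :
    a 0 = 0 ∨ a 0 = c := by
  have h1 : ∀ n, a n = c * (a 0 / c) ^ 2 ^ n := fun n => by
    induction n with
    | zero => rw [pow_zero, pow_one, mul_div_cancel₀ _ hc.ne']
    | succ n ih =>
      refine mul_left_cancel₀ hc.ne' ?_
      rw [← h, ih, pow_succ 2, pow_mul]; ring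
  have h2 := (h1 N).symm.trans (hp.trans (h1 0))
  obtain ⟨m, hm⟩ : ∃ m, 2 ^ N = m + 2 := ⟨2 ^ N - 2, by
    have := Nat.pow_le_pow_right two_pos hN; omega⟩
  rw [mul_right_inj' hc.ne', hm, pow_zero, pow_one, pow_succ] at h2
  rcases eq_or_ne (a 0 / c) 0 with h3 | h3
  · exact Or.inl ((div_eq_zero_iff.1 h3).resolve_right hc.ne')
  · exact Or.inr ((div_eq_one_iff_eq hc.ne').1 ((pow_eq_one_iff_of_nonneg (div_nonneg h0 hc.le)
      m.succ_ne_zero).1 (mul_left_eq_self₀.1 h2 |>.resolve_right h3)))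

theorem degree_le_four {χ : G → ℂ} (hχ : IsCharacter G χ) {g : G}
    (h1 : ‖χ g‖ = charDegree χ - 1) (h2 : χ (g * g) = 0) : charDegree χ ≤ 4 := by
  obtain ⟨μ, hμ, h⟩ := hχ.exists_roots_nat g
  obtain ⟨c, hc, hc'⟩ := Complex.exists_norm_eq_mul_self (χ g)
  have h3 : ∀ i, 1 - ((c * μ i) ^ 2).re ≤ 4 * (1 - (c * μ i).re) := fun i => by
    have : ‖c * μ i‖ = 1 := by
      rw [norm_mul, hc, norm_eq_one_of_pow_eq_one' (orderOf_pos g).ne' (hμ i), one_mul]
    rw [← sq_eq_sq₀ (norm_nonneg _) zero_le_one, ← Complex.normSq_eq_norm_sq,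
      Complex.normSq_apply] at this
    rw [sq, Complex.mul_re (c * μ i)]
    nlinarith [sq_nonneg (1 - (c * μ i).re)]
  have h4 := Finset.sum_le_sum fun i (_ : i ∈ Finset.univ) => h3 i
  have h5 := h 1
  have h6 := h 2
  rw [sq, h2] at h6
  simp only [pow_one] at h5
  simp only [Finset.sum_sub_distrib, ← Finset.mul_sum, ← Complex.re_sum, mul_pow, ← h5, ← h6,
    ← hc', h1] at h4
  have : (charDegree χ : ℝ) ≤ 4 := by simpa using h4
  exact_mod_cast this

/-- The relation satisfied by a character of degree `p - 2` on the `p`-regular elements. -/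
structure SqRel (χ : G → ℂ) (a b w : ℕ) : Prop where
  irr : IsIrrCharacter G χ
  deg : 4 < charDegree χ
  odd : Odd b
  w2 : w ≡ 1 [MOD 2 ^ a]
  wb : w ≡ 2 [MOD b]
  rel : ∀ g, g ^ (2 ^ a * b) = 1 → χ g ^ 2 - χ (g * g) = (χ 1 - 1) * χ (g ^ w)
  ker : ∀ s ∈ charCenter χ, s ^ 2 ^ a = 1 → χ s = χ 1

namespace SqRel

variable {χ : G → ℂ} {a b w : ℕ} (h : SqRel χ a b w)
include h

theorem pow_w {s u : G} (hc : Commute s u) (hs : s ^ 2 ^ a = 1) (hu : u ^ b = 1) :
    (s * u) ^ w = s * (u * u) := by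
  rw [hc.mul_pow, pow_eq_pow_iff_modEq.2 (h.w2.of_dvd (orderOf_dvd_of_pow_eq_one hs)),
    pow_eq_pow_iff_modEq.2 (h.wb.of_dvd (orderOf_dvd_of_pow_eq_one hu)), pow_one, sq]

theorem rel' {s u : G} (hc : Commute s u) (hs : s ^ 2 ^ a = 1) (hu : u ^ b = 1) :
    χ (s * u) ^ 2 - χ (s * s * (u * u)) = (χ 1 - 1) * χ (s * (u * u)) := by
  rw [← h.pow_w hc hs hu, ← hc.symm.mul_mul_mul_comm, h.rel]
  rw [hc.mul_pow, pow_mul, hs, pow_mul', hu, one_pow, one_pow, one_mul]

theorem seq {u : G} (hu : u ^ b = 1) {f : G → ℝ} {c : ℝ} (hc : 0 < c) (h0 : 0 ≤ f u)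
    (hf : ∀ n, f (u ^ 2 ^ n) ^ 2 = c * f (u ^ 2 ^ n * u ^ 2 ^ n)) : f u = 0 ∨ f u = c := by
  simpa using seq_sq_cases (a := fun n => f (u ^ 2 ^ n)) hc (by simpa using h0)
    (fun n => by rw [hf, ← sq, ← pow_mul, pow_succ]) (Nat.totient_pos.2 h.odd.pos)
    (congrArg f (pow_eq_pow_iff_modEq.2 ((Nat.ModEq.pow_totient
      (Nat.coprime_two_left.2 h.odd)).of_dvd (orderOf_dvd_of_pow_eq_one hu))))

theorem mem_of_pow {u : G} (hu : u ^ b = 1) {H : Subgroup G} {n : ℕ} (hn : u ^ 2 ^ n ∈ H) :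
    u ∈ H :=
  zpowers_le.2 hn (mem_zpowers_pow_iff.2 (Nat.Coprime.coprime_dvd_right
    (orderOf_dvd_of_pow_eq_one hu) ((Nat.coprime_two_left.2 h.odd).pow_left n)))

theorem odd_zero {u : G} (hu : u ^ b = 1) (hZ : u ∉ charCenter χ) : χ u = 0 := by
  refine norm_eq_zero.1 ((h.seq hu (f := fun g => ‖χ g‖) (c := ‖χ 1‖)
    (norm_pos_iff.2 h.irr.apply_one_ne_zero) (norm_nonneg _) fun n => ?_).resolve_right
      fun e => hZ (h.irr.isCharacter.mem_charCenter_iff_norm.2 e))
  have := h.rel' (Commute.one_left (u ^ 2 ^ n)) (one_pow _) (by rw [pow_right_comm, hu, one_pow])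
  simp only [one_mul] at this
  rw [← norm_pow, ← norm_mul]
  exact congrArg _ (by linear_combination this)

theorem two_of_sq {s : G} (hs : s ^ 2 ^ a = 1) (hZ : s ∉ charCenter χ)
    (h2 : s * s ∈ charCenter χ) : χ s = -1 := by
  have := h.rel' (Commute.one_right s) hs (one_pow _)
  simp only [mul_one] at this
  rw [h.ker _ h2 (by rw [← sq, pow_right_comm, hs, one_pow])] at this
  refine (mul_eq_zero.1 (show (χ s - χ 1) * (χ s + 1) = 0 by linear_combination this)).elim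
    (fun e => absurd (charKer_le_charCenter χ (h.irr.mem_charKer.2 (sub_eq_zero.1 e))) hZ)
    eq_neg_of_add_eq_zero_left

theorem sq_mem {s : G} (hs : s ^ 2 ^ a = 1) : s * s ∈ charCenter χ := by
  suffices H : ∀ n (s : G), s ^ 2 ^ a = 1 → s ^ 2 ^ n = 1 → s * s ∈ charCenter χ from H a s hs hs
  intro n
  induction n with
  | zero => intro s _ h1; rw [pow_zero, pow_one] at h1; rw [h1, one_mul]; exact one_mem _
  | succ n ih =>
    intro s hs h1
    by_contra h2
    have h3 : (s * s) ^ 2 ^ a = 1 := by rw [← sq, pow_right_comm, hs, one_pow]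
    have h4 := ih (s * s) h3 (by rw [← sq, ← pow_mul, ← pow_succ', h1])
    have h5 := h.two_of_sq h3 h2 h4
    have h6 := h.ker _ h4 (by rw [← sq, pow_right_comm, h3, one_pow])
    have h7 := h.rel' (Commute.one_right s) hs (one_pow _)
    simp only [mul_one, h5, ← h.irr.coe_charDegree] at h7
    have hd : (4 : ℝ) < charDegree χ := by exact_mod_cast h.deg
    have h8 : (χ s).im = 0 := by
      have e1 := congrArg Complex.re h7
      have e2 := congrArg Complex.im h7
      simp [sq] at e1 e2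
      by_contra e3
      have e4 : 2 * (χ s).re = charDegree χ - 1 := mul_right_cancel₀ e3 (by linarith)
      nlinarith [sq_nonneg (χ s).im]
    have h9 : ∀ j : ℕ, χ (s ^ (2 * j + 1)) = χ s := fun j => by
      induction j using Nat.twoStepInduction with
      | zero => simp
      | one =>
        rw [show s ^ (2 * 1 + 1) = s * s * (s * s) * s⁻¹ by simp [pow_succ, mul_assoc],
          h.irr.isCharacter.apply_mul_of_eq h6, h.irr.isCharacter.apply_inv,
          Complex.conj_eq_iff_im.2 h8]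
      | more j ih _ =>
        rw [show s ^ (2 * (j + 2) + 1) = s * s * (s * s) * s ^ (2 * j + 1) by group,
          h.irr.isCharacter.apply_mul_of_eq h6, ih]
    obtain ⟨z, hz⟩ := h.irr.isGeneralizedCharacter.exists_int_of_apply_pow_eq (g := s)
      fun k hk => by
        rcases Nat.even_or_odd' k with ⟨j, rfl | rfl⟩
        · have : orderOf s ∣ 1 := by
            rw [← (hk.coprime_dvd_left (dvd_mul_right 2 j)).pow_left a |>.gcd_eq_one]
            exact Nat.dvd_gcd (orderOf_dvd_of_pow_eq_one hs) (orderOf_dvd_natCard s)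
          rw [orderOf_eq_one_iff.1 (Nat.dvd_one.1 this), one_pow]
        · exact h9 j
    rw [← hz] at h7
    have h10 : z * ((charDegree χ : ℤ) - 1 - z) = 1 := by
      have : ((z * ((charDegree χ : ℤ) - 1 - z) : ℤ) : ℂ) = 1 := by
        push_cast; linear_combination -h7
      exact_mod_cast this
    have := h.deg
    rcases Int.eq_one_or_neg_one_of_mul_eq_one' h10 with ⟨e1, e2⟩ | ⟨e1, e2⟩ <;> omega

theorem mixed_zero {s u : G} (hc : Commute s u) (hs : s ^ 2 ^ a = 1) (hu : u ^ b = 1)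
    (hZ : u ∉ charCenter χ) : χ (s * u) = 0 := by
  have h1 := h.ker _ (h.sq_mem hs) (by rw [← sq, pow_right_comm, hs, one_pow])
  have hd : (4 : ℝ) < charDegree χ := by exact_mod_cast h.deg
  have h2 : ∀ n, χ (s * s * (u ^ 2 ^ n * u ^ 2 ^ n)) = 0 := fun n => by
    rw [h.irr.isCharacter.apply_mul_of_eq h1, ← sq, ← pow_mul, ← pow_succ]
    exact h.odd_zero (by rw [pow_right_comm, hu, one_pow]) fun e => hZ (h.mem_of_pow hu e)
  refine norm_eq_zero.1 ((h.seq hu (f := fun g => ‖χ (s * g)‖) (c := charDegree χ - 1)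
    (by linarith) (norm_nonneg _) fun n => ?_).resolve_right fun e => ?_)
  · have := h.rel' (hc.pow_right (2 ^ n)) hs (by rw [pow_right_comm, hu, one_pow])
    rw [h2, sub_zero] at this
    rw [← norm_pow, this, norm_mul, ← h.irr.coe_charDegree]
    congr 1
    rw [← Complex.ofReal_natCast, ← Complex.ofReal_one, ← Complex.ofReal_sub, Complex.norm_real]
    exact abs_of_nonneg (by linarith)
  · refine absurd (degree_le_four h.irr.isCharacter e ?_) (not_le.2 h.deg)
    rw [hc.symm.mul_mul_mul_comm]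
    simpa using h2 0

theorem parts {g : G} (hg : g ^ (2 ^ a * b) = 1) :
    ∃ s u : G, g = s * u ∧ Commute s u ∧ s ^ 2 ^ a = 1 ∧ u ^ b = 1 := by
  obtain ⟨s, u, -, -, H⟩ := exists_coprime_parts g ((Nat.coprime_two_left.2 h.odd).pow_left a) hg
  exact ⟨s, u, H⟩

theorem val_off {g : G} (hg : g ^ (2 ^ a * b) = 1) (hZ : g ∉ charCenter χ) :
    χ g * conj (χ g) + χ g ^ 2 * conj (χ (g ^ w)) = 0 := by
  obtain ⟨s, u, rfl, hc, hs, hu⟩ := h.parts hg
  by_cases hu' : u ∈ charCenter χ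
  · have h1 := h.two_of_sq hs (fun e => hZ (mul_mem e hu')) (h.sq_mem hs)
    have h2 := mul_conj_cen h.irr hu'
    rw [h.pow_w hc hs hu, (hc.mul_right hc).eq, mul_assoc, hc.eq, apply_mul_cen h.irr hu',
      apply_mul_cen h.irr hu', apply_mul_cen h.irr hu', h1]
    simp only [map_mul, map_neg, map_one]
    linear_combination (- (χ u / χ 1 * conj (χ u / χ 1))) * h2
  · simp [h.mixed_zero hc hs hu hu']

end SqRel

theorem val_cen_aux {χ : G → ℂ} (h : IsIrrCharacter G χ) {a b w : ℕ} (hb : Odd b)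
    (w1 : w ≡ 1 [MOD 2 ^ a]) (w2 : w ≡ 2 [MOD b])
    (hk : ∀ s ∈ charCenter χ, s ^ 2 ^ a = 1 → χ s = χ 1) {z : G} (hg : z ^ (2 ^ a * b) = 1)
    (hZ : z ∈ charCenter χ) : χ (z ^ w) / χ 1 = (χ z / χ 1) ^ 2 := by
  obtain ⟨s, u, hs', hu', rfl, hc, hs, hu⟩ :=
    exists_coprime_parts z ((Nat.coprime_two_left.2 hb).pow_left a) hg
  have h1 := hk s (zpowers_le.2 hZ hs') hs
  rw [hc.mul_pow, pow_eq_pow_iff_modEq.2 (w1.of_dvd (orderOf_dvd_of_pow_eq_one hs)),
    pow_eq_pow_iff_modEq.2 (w2.of_dvd (orderOf_dvd_of_pow_eq_one hu)), pow_one, sq,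
    h.isCharacter.apply_mul_of_eq h1, h.isCharacter.apply_mul_of_eq h1,
    apply_mul_cen h (zpowers_le.2 hZ hu')]
  ring

/-- `ω ^ j + ω ^ (-j)`. -/
noncomputable def eta (j : ZMod p) : ℂ := ps j + ps (-j)

theorem eta_mul (a b : ZMod p) : eta a * eta b = eta (a + b) + eta (a - b) := by
  simp only [eta, sub_eq_add_neg, neg_add, neg_neg, ps_add]; ring

theorem eta_zero : eta (0 : ZMod p) = 2 := by simp [eta, ps_zero, one_add_one_eq_two]

theorem eta_neg (a : ZMod p) : eta (-a) = eta a := by rw [eta, eta, neg_neg, add_comm]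

theorem conj_eta (a : ZMod p) : conj (eta a) = eta a := by simp [eta, conj_ps, add_comm]

theorem sum_eta {c : ZMod p} (hc : c ≠ 0) : ∑ k : (ZMod p)ˣ, eta (c * (k : ZMod p)) = -2 := by
  have h1 := sum_units_ps c
  have h2 := sum_units_ps (-c)
  rw [if_neg hc] at h1
  rw [if_neg (neg_ne_zero.2 hc)] at h2
  simp only [eta, Finset.sum_add_distrib, mul_comm c, ← mul_neg, h1, h2]
  ring

theorem eq_of_eta {a b : ZMod p} (h : eta a = eta b) : a = b ∨ a = -b := by
  have h1 := ps_neg_mul a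
  have h2 := ps_neg_mul b
  have : (ps a - ps b) * (ps a - ps (-b)) = 0 := by
    rw [eta, eta] at h; linear_combination ps a * h - h1 + h2
  exact (mul_eq_zero.1 this).imp (fun e => ps_injective (sub_eq_zero.1 e))
    fun e => ps_injective (sub_eq_zero.1 e)

theorem sum_units_const (c : ℂ) : ∑ _k : (ZMod p)ˣ, c = (p - 1) * c := by
  rw [Finset.sum_const, Finset.card_univ, ZMod.card_units, nsmul_eq_mul,
    Nat.cast_sub hp.out.one_le, Nat.cast_one]

namespace Setup

variable {S : Setup p G} {χ : G → ℂ} {i : (ZMod p)ˣ}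

theorem gp_two (he : S.ee = 2) (j : ZMod p) : S.gp j = eta j := by
  classical
  have h1 : ∀ a ∈ S.Af, a = 1 ∨ a = -1 := fun a ha => by
    have := pow_card_eq_one' (x := (⟨a, S.mem_Af.1 ha⟩ : S.A (irrOne S.C)))
    rw [card_A_one, show S.C.relIndex S.N = 2 from he, Subtype.ext_iff, Units.ext_iff] at this
    exact (sq_eq_one_iff.1 (show (a : ZMod p) ^ 2 = 1 from this)).imp Units.ext Units.ext
  have h2 : ({1, -1} : Finset (ZMod p)ˣ).card ≤ 2 := Finset.card_le_two
  have h3 : S.Af = {1, -1} := Finset.eq_of_subset_of_card_le (fun a ha => by simpa using h1 a ha)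
    (by rwa [card_Af, he])
  have h4 : (1 : (ZMod p)ˣ) ≠ -1 := fun e => by
    have := S.card_Af
    rw [h3, ← e, he] at this
    simp at this
  simp [gp, h3, Finset.sum_pair h4, eta]

theorem Low.sq_rel (h : S.Low χ i) (he : S.ee = 2) {w : ℕ} (hw : w.Coprime (zpowers S.x).index)
    (hv : ∀ v ∈ S.Vr, χ (v ^ w) / χ 1 = (χ v / χ 1) ^ 2) (h5 : 5 < p) {g : G}
    (hg : ¬ p ∣ orderOf g) : χ g ^ 2 - χ (g * g) = (χ 1 - 1) * χ (g ^ w) := by
  classical
  choose ξ hξ hξ' using fun κ => h.exists_conj κ hw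
  have r1 : ¬ p ∣ orderOf (1 : G) := by simpa using hp.out.ne_one
  have h2 : (2 : ZMod p) ≠ 0 := fun e => by
    have := Nat.le_of_dvd two_pos ((ZMod.natCast_eq_zero_iff 2 p).1 e); omega
  set t : (ZMod p)ˣ := Units.mk0 2 h2 with ht
  have ht' : (t : ZMod p) = 2 := rfl
  set Φ : G → ℂ := fun g => (χ g ^ 2 - χ (g * g)) / 2 with hΦ
  have hΦ' : IsCharacter G Φ := isCharacter_altSq h.irr.isCharacter
  have hx : ∀ k : (ZMod p)ˣ, Φ (S.x ^ (k : ZMod p).val) = eta (2 * (i : ZMod p) * (k : ZMod p)) + 1 :=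
    fun k => by
    have := h.val (k * t)
    rw [Units.val_mul, ht', ← Nat.cast_ofNat, ← x_pow_mul, sq] at this
    simp only [hΦ, this, h.val, gp_two he, sq, neg_mul_neg, eta_mul]
    push_cast
    ring_nf
    rw [eta_zero]
    ring
  have h3 : ∀ κ, κ ≠ t → κ ≠ -t → classInner Φ (ξ κ) ≠ 0 := fun κ e1 e2 => by
    have h4 := (hξ κ).inner_sub (hξ t) (fun g hg => by rw [hξ' _ g hg, hξ' _ g hg])
      hΦ'.isClassFunction fun v hv' g => by
        rw [hξ' _ v (S.mem_V.1 hv').2, hξ' _ 1 r1, one_pow, hv v hv']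
        simp only [hΦ, apply_mul_cen h.irr (h.cen v hv'), apply_sq_cen h.irr (h.cen v hv')]
        ring
    have a1 := sum_eta (mul_ne_zero (mul_ne_zero h2 h2) i.ne_zero)
    have a2 := sum_eta (mul_ne_zero h2 i.ne_zero)
    have a3 := sum_eta (i * κ).ne_zero
    have a4 := sum_eta (mul_ne_zero (sub_ne_zero.2 fun e : (2 : ZMod p) = κ =>
      e1 (Units.ext e.symm)) i.ne_zero)
    have a5 := sum_eta (mul_ne_zero (fun e : (2 : ZMod p) + κ = 0 =>
      e2 (Units.ext (eq_neg_of_add_eq_zero_right e))) i.ne_zero)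
    rw [Finset.sum_congr rfl fun (k : (ZMod p)ˣ) _ => show _ = 2 + eta (2 * 2 * (i : ZMod p) * (k : ZMod p)) +
      eta (2 * (i : ZMod p) * (k : ZMod p)) - eta (((i * κ : (ZMod p)ˣ) : ZMod p) * (k : ZMod p)) -
      eta ((2 - (κ : ZMod p)) * (i : ZMod p) * (k : ZMod p)) -
      eta ((2 + (κ : ZMod p)) * (i : ZMod p) * (k : ZMod p)) from ?_] at h4
    · simp only [Finset.sum_sub_distrib, Finset.sum_add_distrib, a1, a2, a3, a4, a5,
        sum_units_const, he] at h4
      obtain ⟨n, hn⟩ := hΦ'.exists_nat_classInner (hξ t).irr.isCharacter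
      intro e
      have hp0 : (p : ℂ) ≠ 0 := Nat.cast_ne_zero.2 hp.out.ne_zero
      rw [e, hn] at h4
      refine Nat.cast_add_one_ne_zero (R := ℂ) n (mul_left_cancel₀ hp0 ?_)
      push_cast at h4
      linear_combination (-1 / 2) * h4
    · simp only [hx, gp_two he, eta_neg, mul_sub, add_mul, eta_mul, Units.val_mul, ht',
        one_mul]
      ring_nf
      rw [eta_zero]
      ring
  set U := Finset.univ \ {t, -t} with hU
  have h6 : IsCharacter G (2 • Φ - ∑ κ ∈ U, ξ κ) := by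
    refine ((hΦ'.nsmul 2).isGeneralizedCharacter.sub (IsGeneralizedCharacter.sum fun κ _ =>
      (hξ κ).irr.isGeneralizedCharacter)).isCharacter_of_nonneg fun φ => ?_
    simp only [classInner_sub_left, classInner_nsmul_left, classInner_sum_left,
      (hξ _).irr.classInner_eq_ite φ.2, Finset.sum_boole]
    rcases (U.filter fun κ => ξ κ = φ).eq_empty_or_nonempty with e | ⟨κ, hκ⟩
    · simpa [e] using hΦ'.re_classInner_nonneg φ.isCharacter
    obtain ⟨a1, a2⟩ := Finset.mem_filter.1 hκ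
    simp only [hU, Finset.mem_sdiff, Finset.mem_univ, Finset.mem_insert, Finset.mem_singleton,
      true_and, not_or] at a1
    have a3 := hΦ'.one_le_re_classInner φ.isCharacter (a2 ▸ h3 κ a1.1 a1.2)
    have a4 : (U.filter fun κ => ξ κ = φ).card ≤ 2 := by
      refine (Finset.card_le_card fun κ' hκ' => ?_).trans (Finset.card_le_two (a := κ) (b := -κ))
      have b1 := (hξ κ').val 1
      rw [(Finset.mem_filter.1 hκ').2, ← a2, (hξ κ).val, neg_inj, gp_two he, gp_two he] at b1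
      simp only [Units.val_one, mul_one, Units.val_mul] at b1
      simpa [Units.ext_iff, ← mul_neg, i.ne_zero, eq_comm] using eq_of_eta b1.symm
    have a5 : ((U.filter fun κ => ξ κ = φ).card : ℝ) ≤ 2 := by exact_mod_cast a4
    simp only [Complex.sub_re, Complex.natCast_re, Complex.re_ofNat, Nat.cast_ofNat, Complex.mul_re,
      Complex.im_ofNat]
    linarith
  have h7 : (U.card : ℂ) = χ 1 - 1 := by
    have : t ≠ -t := fun e => mul_ne_zero h2 h2 (by
      rw [two_mul, ← ht']; nth_rewrite 1 [e]; simp)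
    rw [hU, Finset.card_univ_sdiff, ZMod.card_units, Finset.card_pair this, h.cast_deg, he,
      Nat.cast_sub (by omega), Nat.cast_sub hp.out.one_le]
    push_cast; ring
  have h8 : ∀ g, ¬ p ∣ orderOf g → (2 • Φ - ∑ κ ∈ U, ξ κ) g =
      χ g ^ 2 - χ (g * g) - (χ 1 - 1) * χ (g ^ w) := fun g hg => by
    simp only [Pi.sub_apply, Finset.sum_apply, hξ' _ g hg, Finset.sum_const, nsmul_eq_mul, h7,
      Pi.mul_apply, hΦ, Pi.natCast_apply]
    ring
  rw [← sub_eq_zero, ← h8 g hg, h6.eq_zero_of_apply_one (by rw [h8 1 r1]; simp; ring)]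
  rfl

theorem Low.card_le (h : S.Low χ i) (he : S.ee = 2) (h5 : 5 < p) (hZ : charCenter χ ≤ S.Vr) :
    Nat.card G ≤ Nat.card S.Vr * (p * (p - 1) * (p - 2)) := by
  classical
  obtain ⟨a, b, hb, hab⟩ := Nat.exists_eq_two_pow_mul_odd (zpowers S.x).index_ne_zero_of_finite
  have hd := h.deg
  have hp2 := hp.out.odd_of_ne_two (by omega)
  obtain ⟨μ, hμ⟩ := exists_twist h.irr (n := 2 ^ a) (by positivity) (Nat.Coprime.pow_right a
    (Nat.coprime_two_right.2 (by rw [Nat.odd_iff] at hp2 ⊢; omega)))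
  obtain ⟨w, w1, w2⟩ := Nat.chineseRemainder ((Nat.coprime_two_left.2 hb).pow_left a) 1 2
  have hw : w.Coprime (zpowers S.x).index := by
    rw [hab]
    exact Nat.Coprime.mul_right (w1.gcd_eq.trans (Nat.gcd_one_left _))
      (w2.gcd_eq.trans (Nat.coprime_two_left.2 hb))
  rw [← charCenter_mul_hom h.irr μ] at hZ hμ
  replace h := h.mul_hom (by omega) μ
  set ζ : G → ℂ := fun g => χ g * μ g with hζ
  clear hd
  have hd := h.deg
  have hr : ∀ {g : G}, ¬ p ∣ orderOf g → g ^ (2 ^ a * b) = 1 := fun hg =>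
    hab ▸ S.pow_index_of_regular hg
  have hk : ∀ s ∈ charCenter ζ, s ^ 2 ^ a = 1 → ζ s = ζ 1 := fun s hs e => by
    simpa [hζ] using hμ s hs e
  have hc : ∀ v ∈ S.Vr, ζ (v ^ w) / ζ 1 = (ζ v / ζ 1) ^ 2 := fun v hv =>
    val_cen_aux h.irr hb w1 w2 hk (hr (S.mem_V.1 hv).2) (h.cen v hv)
  have R : SqRel ζ a b w := ⟨h.irr, by rw [Nat.odd_iff] at hp2; omega, hb, w1, w2, fun g hg =>
    h.sq_rel he hw hc h5 fun e => S.hidx (hab ▸ e.trans (orderOf_dvd_of_pow_eq_one hg)), hk⟩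
  have h2 : (2 : ZMod p) ≠ 0 := fun e => by
    have := Nat.le_of_dvd two_pos ((ZMod.natCast_eq_zero_iff 2 p).1 e); omega
  obtain ⟨ξ, hξ, hξ'⟩ := h.exists_conj (Units.mk0 2 h2) hw
  have r1 : ¬ p ∣ orderOf (1 : G) := by simpa using hp.out.ne_one
  have hcov : ∀ v ∈ S.Vr, ∀ g, ξ (v * g) = (ζ v / ζ 1) ^ 2 * ξ g := fun v hv g => by
    rw [apply_mul_cen hξ.irr (hξ.cen v hv), hξ' v (S.mem_V.1 hv).2, hξ' 1 r1, one_pow, hc v hv]
  set F : G → ℂ := fun g => ζ g * conj (ζ g) + ζ g ^ 2 * conj (ξ g) with hF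
  have hFv : ∀ v ∈ S.Vr, ∀ g, F (v * g) = F g := fun v hv g => by
    have := mul_conj_cen h.irr (h.cen v hv)
    simp only [hF, hcov v hv, apply_mul_cen h.irr (h.cen v hv), map_mul, map_pow]
    linear_combination (ζ g * conj (ζ g) + ζ g ^ 2 * conj (ξ g) *
      (ζ v / ζ 1 * conj (ζ v / ζ 1) + 1)) * this
  have h3 := S.sum_sing (F := F) ((h.irr.isClassFunction.mul h.irr.isClassFunction.complexConj).add
    ((h.irr.isClassFunction.pow 2).mul hξ.irr.isClassFunction.complexConj)) hFv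
  have a1 := sum_eta (mul_ne_zero (mul_ne_zero h2 h2) i.ne_zero)
  have a2 := sum_eta (mul_ne_zero h2 i.ne_zero)
  rw [Finset.sum_congr rfl fun (k : (ZMod p)ˣ) _ => show F _ = -eta (2 * 2 * (i : ZMod p) *
    (k : ZMod p)) - eta (2 * (i : ZMod p) * (k : ZMod p)) from ?_, Finset.sum_sub_distrib,
    Finset.sum_neg_distrib, a1, a2, he] at h3
  swap
  · simp only [hF, h.val, hξ.val, gp_two he, map_neg, conj_eta, sq, mul_neg, neg_mul, neg_neg,
      eta_mul, Units.val_mul, Units.val_mk0, add_mul]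
    ring_nf
    rw [eta_neg]
    ring
  obtain ⟨n, hn⟩ := (h.irr.isCharacter.pow 2).exists_nat_classInner hξ.irr.isCharacter
  have h4 : ∑ g, F g = Nat.card G * (1 + n) := by
    rw [mul_add, ← hn, ← h.irr.classInner_self, card_mul_classInner, card_mul_classInner,
      ← Finset.sum_add_distrib]
    rfl
  have h6 : ∀ g, F g = (if p ∣ orderOf g then F g else 0) + if g ∈ S.Vr then F 1 else 0 :=
    fun g => by
    by_cases hv : g ∈ S.Vr
    · rw [if_neg (S.mem_V.1 hv).2, if_pos hv, zero_add, ← hFv g hv 1, mul_one]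
    rw [if_neg hv, add_zero]
    split_ifs with hg
    · rfl
    · rw [← R.val_off (hr hg) fun e => hv (hZ e), ← hξ' g hg]
  rw [Finset.sum_congr rfl fun g _ => h6 g, Finset.sum_add_distrib, ← Finset.sum_filter
    (· ∈ S.Vr), Finset.sum_const, ← Nat.subtype_card _ (p := (· ∈ S.Vr)) (by simp),
    nsmul_eq_mul] at h4
  simp only [hF, hξ' 1 r1, one_pow, ← h.irr.coe_charDegree, map_natCast] at h4
  obtain ⟨d, hd'⟩ : ∃ d, charDegree ζ = d := ⟨_, rfl⟩
  rw [hd', he] at hd
  rw [hd'] at h4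
  have h7 : Nat.card G * (p * (1 + n)) = 2 * Nat.card G + p * Nat.card S.Vr * (d * d + d ^ 2 * d) := by
    have : ((Nat.card G * (p * (1 + n)) : ℕ) : ℂ) =
        (2 * Nat.card G + p * Nat.card S.Vr * (d * d + d ^ 2 * d) : ℕ) := by
      push_cast at h3 ⊢
      linear_combination (-p) * h4 + (1 / 2) * h3
    exact_mod_cast this
  rw [show p - 1 = d + 1 by omega, show p - 2 = d by omega]
  refine Nat.le_of_mul_le_mul_right (c := d) ?_ (by omega)
  generalize Nat.card S.Vr = z at h7 ⊢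
  generalize Nat.card G = y at h7 ⊢
  clear * - h7 hd
  subst hd
  nlinarith [Nat.zero_le (y * ((d + 2) * n))]

theorem C_le (hV : S.Vr ≤ center G) {K : Subgroup G} (hx : S.x ∈ K) : S.C ≤ K ⊔ center G :=
  fun c hc => by
    obtain ⟨v, hv, e⟩ := S.exists_Vr_mul ⟨c, hc⟩
    rw [show c = _ from e]
    exact mul_mem (mem_sup_right (hV hv)) (mem_sup_left (pow_mem hx _))

theorem ee_sub_le (K : Subgroup G) (hx : S.x ∈ K) [Fintype K] : (S.sub K hx).ee ≤ S.ee := by
  change (S.C.subgroupOf K).relIndex (S.N.subgroupOf K) ≤ _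
  rw [← inf_subgroupOf_right S.N, relIndex_subgroupOf inf_le_right]
  exact relIndex_le_of_le_right inf_le_left S.ee_pos.ne'

theorem sub_N_ne (hN : S.N ≠ ⊤) (K : Subgroup G) [K.Normal] (hx : S.x ∈ K) : (S.sub K hx).N ≠ ⊤ :=
  fun h => hN (eq_top_iff.2 fun g _ => by
    obtain ⟨c, hc, n, hn, rfl⟩ := S.exists_mul_of_normal K hx g
    exact mul_mem (subgroupOf_eq_top.1 h hc) hn)

theorem low_of_sub_two (hN : S.N ≠ ⊤) (hχ : IsIrrCharacter G χ) (hf : charKer χ = ⊥)
    (hd : charDegree χ + 2 = p) : S.ee = 2 ∧ ∃ i, S.Low χ i := by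
  obtain ⟨-, i, h | ⟨m, h, -⟩⟩ := S.low_cases hχ hd.le fun e =>
    S.x_ne_one (mem_bot.1 (hf ▸ hχ.mem_charKer.2 e))
  · exact ⟨by have := h.deg; omega, i, h⟩
  refine absurd (Nat.dvd_one.1 ?_) (S.relIndex_ne_one_of_lt hχ.isCharacter hf (by omega) hN)
  rw [show 1 = p - 1 - charDegree χ by omega]
  exact Nat.dvd_sub S.relIndex_dvd ⟨m, h⟩

theorem sl_of_sub_two (hN : S.N ≠ ⊤) (h5 : 5 < p) (hχ : IsIrrCharacter G χ) (hf : charKer χ = ⊥)
    (hd : charDegree χ + 2 = p) : ∃ (a : ℕ) (F : Type) (_ : Field F) (_ : Fintype F),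
      p = 2 ^ a + 1 ∧ Fintype.card F = 2 ^ a ∧ Nonempty (G ≃* SL(2, F) × center G) := by
  obtain ⟨he, i, h⟩ := low_of_sub_two hN hχ hf hd
  have hV := Vr_eq_center hN h hf
  have hx := S.x_mem_commutator (show S.ee ≠ 1 by omega)
  have hK : commutator G ⊔ center G = ⊤ := by
    haveI := Fintype.ofFinite (commutator G ⊔ center G : Subgroup G)
    refine S.eq_top_of_relIndex _ (mem_sup_left hx) (C_le hV.le hx) ?_
    have h1 := ee_sub_le (commutator G ⊔ center G) (mem_sup_left hx)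
    have h2 := (S.sub _ (mem_sup_left hx)).relIndex_ne_one_of_lt
      (hχ.isCharacter.restrict (commutator G ⊔ center G))
      (by rw [hχ.isCharacter.charKer_restrict, hf, bot_subgroupOf])
      (by rw [charDegree_restrict]; omega) (sub_N_ne hN _ _)
    have h3 := (S.sub (commutator G ⊔ center G) (mem_sup_left hx)).ee_pos
    change ee _ ≠ 1 at h2
    change ee _ = ee _
    omega
  haveI := Fintype.ofFinite (G ⧸ center G)
  haveI := Fintype.ofFinite ((G ⧸ center G) ⧸ pPrimeCore p (G ⧸ center G))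
  have hZ := S.not_dvd_card_center hN
  have hP : commutator (G ⧸ center G) = ⊤ := by
    have := congrArg (map (QuotientGroup.mk' (center G))) hK
    rwa [Subgroup.map_sup, QuotientGroup.map_mk'_self, sup_bot_eq, commutator_def, map_commutator,
      map_top_of_surjective _ (QuotientGroup.mk'_surjective _)] at this
  have h1 := h.card_le he h5 (by rw [charCenter_eq_center hχ hf, hV])
  rw [hV, card_eq_card_quotient_mul_card_subgroup (center G), mul_comm] at h1
  have h2 : Nat.card (G ⧸ center G) < p ^ 3 := by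
    refine (Nat.le_of_mul_le_mul_left h1 Nat.card_pos).trans_lt ?_
    obtain ⟨d, rfl⟩ : ∃ d, p = d + 2 := ⟨p - 2, by omega⟩
    simp only [show d + 2 - 1 = d + 1 from rfl, Nat.add_sub_cancel]
    nlinarith [Nat.zero_le (d * d)]
  obtain ⟨n, hn⟩ := (S.quot _ hZ).exists_index_N
  have hR := (S.quot _ hZ).not_rep_of_card hP h2 hn
  have h3 := index_N_quot (S.quot_self_of_le hZ hV.le) (not_dvd_card_pPrimeCore (G := G ⧸ center G)
    hp.out)
  rw [((S.quot _ hZ).br hP hn hR).1, hn] at h3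
  obtain ⟨-, -, ⟨-, h4, -⟩ | ⟨-, -, m, F, _, _, hF, hm, e⟩⟩ := (S.quot _ hZ).br_core hP
    (eq_bot_of_card_eq _ ((Nat.mul_eq_right (by omega)).1 h3.symm)) hn hR
  · rw [relIndex_quot] at h4
    change 2 * S.ee = _ at h4
    omega
  obtain ⟨e⟩ := nonempty_sl_of_psl hF e
  set ξ := e.toMonoidHom.comp (QuotientGroup.mk' (center G)) with hξ
  have hs : Function.Surjective ξ := e.surjective.comp (QuotientGroup.mk'_surjective _)
  have hk : ξ.ker = center G := by
    rw [hξ, ← MonoidHom.comap_ker, (MonoidHom.ker_eq_bot_iff _).2 e.injective, MonoidHom.comap_bot,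
      QuotientGroup.ker_mk']
  obtain ⟨θ, hθ⟩ := mult_exists_surjective ξ hs hk.le
  have h6 := Nat.card_le_card_of_surjective θ hθ
  rw [card_mult_sl2 (by rw [Nat.card_eq_fintype_card]; omega) (by
    rw [Nat.card_eq_fintype_card]; have := hp.out.odd_of_ne_two (by omega)
    rw [Nat.odd_iff] at this; omega), hk, card_le_one_iff_eq_bot, inf_comm] at h6
  obtain ⟨e1⟩ := Frob.nonempty_sup_equiv_prod (M := commutator G) (L := center G)
    (center_le_centralizer _) h6
  have h7 : Function.Bijective (ξ.comp (commutator G).subtype) := by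
    refine ⟨(MonoidHom.ker_eq_bot_iff _).1 ?_, fun y => ?_⟩
    · rw [← MonoidHom.comap_ker, hk, comap_subtype, ← inf_subgroupOf_right, inf_comm, h6,
        bot_subgroupOf]
    · obtain ⟨g, rfl⟩ := hs y
      obtain ⟨c, hc, z, hz, rfl⟩ := mem_sup_of_normal_right.1 (hK ▸ mem_top g)
      exact ⟨⟨c, hc⟩, by rw [map_mul, show ξ z = 1 from hk.ge hz, mul_one]; rfl⟩
  exact ⟨m, F, _, _, hm, hF, ⟨(topEquiv.symm.trans (MulEquiv.subgroupCongr hK.symm)).trans
    (e1.trans ((MulEquiv.ofBijective _ h7).prodCongr (MulEquiv.refl _)))⟩⟩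

end Setup

theorem exists_setup_of_sylow (P : Sylow p G) (hP : Nat.card P = p)
    (hn : ¬ (P : Subgroup G).Normal) : ∃ S : Setup p G, S.N ≠ ⊤ := by
  obtain ⟨S, -, -, h⟩ := exists_setup P hP
  exact ⟨S, fun e => hn (normalizer_eq_top_iff.1 (h ▸ e))⟩

end Cfsg.Agent.Blk.One
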