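import Mathlib
import Cfsg.Agent.Blk.LowN
import Cfsg.Agent.Blk.LowTwo

/-!
# Faithful characters of degree `p - e`: the squares and their exceptional constituents
-/

set_option autoImplicit false
set_option linter.unusedSectionVars false
set_option linter.style.haveILetI false

namespace Cfsg.Agent.Blk.One

open Cfsg Cfsg.Agent.Ch Subgroup Cfsg.Agent.Blk.Om Cfsg.Agent.GT
open scoped ComplexConjugate

theorem low_arith {t e a b δ s τ ε : ℤ} (ht : 3 ≤ t) (he : 3 ≤ e) (hε : ε = 1 ∨ ε = -1)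
    (hδ : δ = 0 ∨ δ = 1) (hs : s = 0 ∧ τ = 0 ∧ e % 2 = 1 ∨ s = 1 ∧ (τ = 1 ∨ τ = -1 ∧ δ = 0))
    (a1 : 0 ≤ 2 * t * a + ε * (e + 1 - s))
    (a2 : 2 * t * a + ε * (e + 1 - s) ≤ t - 2 + s - τ * (t - 1))
    (b1 : 0 ≤ 2 * t * b + ε * (e - 1 - s))
    (b2 : 2 * t * b + ε * (e - 1 - s) ≤ 2 * δ + t - 2 + s + τ * (t - 1))
    (h : (1 - ε) * e ≤ 4 * (a + b)) : ε = 1 ∧ e + 3 ≤ t := by
  have h0 : δ ≤ 1 := by omega
  rcases hε with rfl | rfl
  · refine ⟨rfl, ?_⟩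
    rcases hs with ⟨rfl, rfl, -⟩ | ⟨rfl, rfl | ⟨rfl, rfl⟩⟩
    · rcases le_or_gt 0 a with h1 | h1
      · nlinarith
      · nlinarith [mul_le_mul_of_nonneg_left (show 1 ≤ b by omega) (show 0 ≤ t by omega)]
    · have h1 : a < 0 := by nlinarith
      nlinarith [mul_le_mul_of_nonneg_left (show 1 ≤ b by omega) (show 0 ≤ t by omega)]
    · have h1 : b < 0 := by nlinarith
      nlinarith [mul_le_mul_of_nonneg_left (show 1 ≤ a by omega) (show 0 ≤ t by omega)]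
  · exfalso
    have h1 : (t - 2) * (e - 2) ≤ 2 * δ := by
      nlinarith [mul_le_mul_of_nonneg_left h (show 0 ≤ t by omega)]
    have h2 : t ≤ 4 := by nlinarith
    have h3 : e ≤ 4 := by nlinarith
    interval_cases t <;> interval_cases e <;> omega

theorem low_arith' {p e m r N ε : ℤ} (hε : ε = 1 ∨ ε = -1) (he : 0 ≤ e) (hp : 3 * e ≤ p)
    (h1 : r ≤ 2 * e * N) (h2 : r + N * (p - 2 * e) ≤ p * m + ε * e) :
    2 * r + (1 - ε) * e ≤ 4 * e * m := by
  rcases lt_trichotomy N m with h | rfl | h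
  · have := mul_le_mul_of_nonneg_left (show N + 1 ≤ m by omega) he
    rcases hε with rfl | rfl <;> linarith
  · rcases hε with rfl | rfl <;> linarith
  · have := mul_le_mul_of_nonneg_right (show m + 1 ≤ N by omega) (show 0 ≤ p - 2 * e by omega)
    rcases hε with rfl | rfl <;> linarith

theorem sum_half {ι : Type*} (s : Finset ι) (a b c : ι → ℂ) (z : ℂ) :
    ∑ k ∈ s, (a k + z * b k) / 2 * c k = (∑ k ∈ s, a k * c k + z * ∑ k ∈ s, b k * c k) / 2 := by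
  rw [Finset.mul_sum, ← Finset.sum_add_distrib, Finset.sum_div]
  exact Finset.sum_congr rfl fun k _ => by ring

variable {G : Type*} [Group G] {p : ℕ} [hp : Fact p.Prime] [Fintype G]

namespace Setup

variable (S : Setup p G)

/-- A family of exceptional characters lying over the central character `ω`. -/
structure Fam (ω : G → ℂ) (ε : ℤ) (ψ : (ZMod p)ˣ → G → ℂ) : Prop where
  sign : ε = 1 ∨ ε = -1
  unit : ∀ v ∈ S.Vr, ω v * conj (ω v) = 1
  irr : ∀ κ, IsIrrCharacter G (ψ κ)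
  reg : ∀ κ g, ¬ p ∣ orderOf g → ψ κ g = ψ 1 g
  val : ∀ κ j : (ZMod p)ˣ, ψ κ (S.x ^ (j : ZMod p).val) = ε * S.gp ((κ : ZMod p) * j)
  cov : ∀ κ, ∀ v ∈ S.Vr, ∀ g, ψ κ (v * g) = ω v * ψ κ g

variable {S} {ω : G → ℂ} {ε : ℤ} {ψ : (ZMod p)ˣ → G → ℂ}

theorem Fam.ne_zero (F : S.Fam ω ε ψ) : (ε : ℂ) ≠ 0 := by
  rcases F.sign with h | h <;> simp [h]

theorem Fam.exists_nu (F : S.Fam ω ε ψ) {Φ : G → ℂ} (hΦ : IsCharacter G Φ)
    (hc : ∀ v ∈ S.Vr, ∀ g, Φ (v * g) = ω v * Φ g) [Fintype S.N] {lam : S.N → ℂ}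
    (hl : IsCharacter S.N lam) (hl' : ∀ κ, classInner (fun n : S.N => ψ κ n) lam ≠ 0) :
    ∃ (ν : ℤ) (B L : ℕ), B ≤ S.ee * L ∧ classInner (fun n : S.N => Φ n) lam = L ∧
      (p * S.ee : ℂ) * ν = p * S.ee * classInner Φ (ψ 1) - ε * (S.ee * Φ 1 +
        ∑ k : (ZMod p)ˣ, Φ (S.x ^ (k : ZMod p).val) * S.gp (-1 * (k : ZMod p))) ∧
      (p : ℂ) * B = p * (p - 1) * ν +
        ε * ((p - 1) * Φ 1 - ∑ k : (ZMod p)ˣ, Φ (S.x ^ (k : ZMod p).val)) := by
  classical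
  obtain ⟨m, hm, h1⟩ := hΦ.exists_mult
  choose c hc' using fun φ : IrrCharacter G =>
    (φ.isCharacter.restrict S.N).exists_nat_classInner hl
  obtain ⟨θ, hθ, -, h2⟩ := S.exists_four hΦ (-1)
  replace h2 := h2 1 (by simpa using hp.out.ne_one)
  simp only [coe_one, mul_one, ← hθ.coe_charDegree] at h2
  have h3 := S.sum_mul_gp hΦ.isClassFunction (-1)
  have h4 := hm ⟨ψ 1, F.irr 1⟩
  refine ⟨m ⟨ψ 1, F.irr 1⟩ - ε * charDegree θ, ∑ κ, m ⟨ψ κ, F.irr κ⟩, ∑ φ, m φ * c φ,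
    sum_le_of_fiber (fun κ => (⟨ψ κ, F.irr κ⟩ : IrrCharacter G)) m c (fun κ e => hl' κ
      ((hc' ⟨ψ κ, F.irr κ⟩).trans (by rw [e, Nat.cast_zero]))) fun κ => ?_, ?_, ?_, ?_⟩
  · refine (Finset.card_le_card (t := S.Af.image (κ * ·)) fun κ' h => Finset.mem_image.2
      (exists_mul_of_gp_eq fun k => mul_left_cancel₀ F.ne_zero ?_)).trans
      (Finset.card_image_le.trans_eq S.card_Af)
    rw [← F.val, ← F.val, show ψ κ' = ψ κ from congrArg Subtype.val (Finset.mem_filter.1 h).2]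
  · rw [show (fun n : S.N => Φ n) = ∑ φ : IrrCharacter G, m φ • fun n : S.N => (φ : G → ℂ) n from
      funext fun n => by rw [h1]; simp, classInner_sum_left]
    simp only [classInner_nsmul_left, hc', Nat.cast_sum, Nat.cast_mul]
  · push_cast
    linear_combination -ε * S.ee * h2 + ε * h3 - p * S.ee * h4
  have h5 := Finset.sum_congr rfl fun κ (_ : κ ∈ Finset.univ) => S.inner_sing hΦ.isClassFunction
    ((F.irr κ).isClassFunction.sub (F.irr 1).isClassFunction)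
    (fun g hg => sub_eq_zero.2 (F.reg κ g hg)) fun v hv g => by
      simp only [Pi.sub_apply, hc v hv, F.cov _ v hv, map_sub, map_mul]
      linear_combination Φ g * (conj (ψ κ g) - conj (ψ 1 g)) * F.unit v hv
  have h6 : ∀ k : (ZMod p)ˣ, ∑ κ : (ZMod p)ˣ, S.gp (-((κ : ZMod p) * k)) = -S.ee := fun k => by
    rw [← S.sum_units_gp (-k)]
    simp only [Units.val_neg, neg_mul, mul_comm (k : ZMod p)]
  rw [Finset.sum_comm] at h5
  simp only [classInner_sub_right, show ∀ κ, classInner Φ (ψ κ) = m ⟨ψ κ, F.irr κ⟩ from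
    fun κ => hm ⟨ψ κ, F.irr κ⟩, Pi.sub_apply, F.val, map_sub, map_mul, map_intCast, conj_gp,
    ← Finset.mul_sum, Finset.sum_sub_distrib, h6, sum_units_const', Units.val_one,
    ← neg_mul (1 : ZMod p)] at h5
  simp only [mul_sub, Finset.sum_sub_distrib, mul_left_comm (Φ _), ← Finset.mul_sum,
    ← Finset.sum_mul] at h5
  refine mul_left_cancel₀ (Nat.cast_ne_zero.2 S.ee_pos.ne' : (S.ee : ℂ) ≠ 0) ?_
  push_cast
  linear_combination h5 - (p - 1) * ε * h3 + (p - 1) * ε * S.ee * h2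

theorem Fam.apply_one_ne (F : S.Fam ω ε ψ) (hN : S.N ≠ ⊤) {ζ : G → ℂ} (hζ : IsCharacter G ζ)
    (hf : charKer ζ = ⊥) (hd : charDegree ζ + 1 < p) (he : 2 * S.ee + 1 < p) :
    ψ 1 1 ≠ ε * S.ee := fun h => by
  haveI := (F.irr 1).isClassFunction.charKer_normal
  haveI := Fintype.ofFinite (G ⧸ charKer (ψ 1))
  have hK : ¬ p ∣ Nat.card (charKer (ψ 1)) := fun e => by
    have h1 := S.sum_units_gp 1
    rw [Finset.sum_congr rfl fun k _ => show _ = (S.ee : ℂ) from mul_left_cancel₀ F.ne_zero (by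
      rw [← F.val, ← h]
      exact (F.irr 1).mem_charKer.1 (pow_mem (S.x_mem_of_normal _ e) _)), sum_units_const'] at h1
    exact mul_ne_zero (Nat.cast_ne_zero.2 hp.out.ne_zero) (Nat.cast_ne_zero.2 S.ee_pos.ne')
      (show (p : ℂ) * S.ee = 0 by linear_combination h1)
  obtain ⟨φ, h1, h2, h3⟩ := (F.irr 1).exists_faithful_quotient _ rfl
  have h4 := (S.quot _ hK).le_of_faithful (fun e => hN (by
    have := congrArg (comap (QuotientGroup.mk' (charKer (ψ 1)))) e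
    rwa [show (S.quot _ hK).N = S.N.map _ from rfl, comap_map_eq, QuotientGroup.ker_mk',
      sup_eq_left.2 ((S.le_C_of_lt hζ hf hd _ hK).trans S.C_le_N)] at this)) h1.isCharacter h2
  have h5 := congrArg norm ((congrFun h3 1).symm.trans h)
  rw [QuotientGroup.mk_one, h1.isCharacter.norm_apply_one, norm_mul, Complex.norm_natCast,
    show ‖(ε : ℂ)‖ = 1 by rcases F.sign with h | h <;> simp [h], one_mul, Nat.cast_inj] at h5
  omega

variable {n₀ : S.N} (hn₀ : orderOf (S.al n₀) = S.ee)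
include hn₀

theorem Fam.exists_lam (F : S.Fam ω ε ψ) [Fintype S.N] (μ : S.N →* ℂˣ) (h1 : μ S.xn = 1)
    (h2 : ∀ v : S.N, (v : G) ∈ S.Vr → (μ v : ℂ) = ω v) (h0 : ψ 1 1 ≠ ε * S.ee) :
    ∃ lam : S.N →* ℂˣ, lam S.xn = 1 ∧ (∀ v : S.N, (v : G) ∈ S.Vr → (lam v : ℂ) = ω v) ∧
      ∀ κ, classInner (fun n : S.N => ψ κ n) (fun n => lam n) ≠ 0 := by
  haveI : NeZero (p - 1) := ⟨by have := hp.out.two_le; omega⟩
  let τ : (ZMod p)ˣ →* ℂˣ := (rootsOfUnity (p - 1) ℂ).subtype.comp (mulEquivOfCyclicCardEq (by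
    rw [Nat.card_eq_fintype_card, ZMod.card_units, Complex.card_rootsOfUnity])).toMonoidHom
  have hτ : Function.Injective τ := Subtype.val_injective.comp (MulEquiv.injective _)
  have h3 : ∀ (k : ℕ) (n : S.N), (n : G) ∈ S.C → (μ * τ.comp S.al ^ k) n = μ n := fun k n hn => by
    simp [(S.al_eq_one_iff n).2 hn]
  have h4 : ∀ (k : ℕ) (κ : (ZMod p)ˣ), (S.ee * p : ℂ) * classInner (fun n : S.N => ψ κ n)
      (fun n => (μ * τ.comp S.al ^ k) n) = ψ 1 1 - ε * S.ee + p * ∑ j ∈ Finset.Ico 1 S.ee,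
        ψ 1 (n₀ ^ j) * conj (μ (n₀ ^ j) : ℂ) * conj (τ (S.al n₀ ^ j) : ℂ) ^ k := fun k κ => by
    rw [inner_N hn₀ ((F.irr κ).isClassFunction.restrict S.N)
      (isCharacter_monoidHom_units _).isClassFunction fun v hv n => by
        simp only [coe_mul, F.cov κ v hv, map_mul, Units.val_mul, h3 k v (S.mem_V.1 hv).1, h2 v hv]
        linear_combination ψ κ n * conj ((μ * τ.comp S.al ^ k) n : ℂ) * F.unit v hv]
    simp only [fun l : ℕ => h3 k (S.xn ^ l) (pow_mem S.x_mem_C l), map_pow μ S.xn, h1,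
      map_one, one_pow, Units.val_one, mul_one, SubmonoidClass.coe_pow, F.val, ← Finset.mul_sum,
      sum_units_gp, coe_one, F.reg κ 1 (by simpa using hp.out.ne_one)]
    rw [mul_neg, ← sub_eq_add_neg]
    refine congrArg _ (congrArg _ (Finset.sum_congr rfl fun j hj => ?_))
    rw [F.reg κ _ (S.not_dvd_of_notMem_C (pow_mem n₀.2 j) (pow_notMem_C hn₀ hj))]
    simp [mul_assoc]
  have h5 := Finset.sum_congr rfl fun k (_ : k ∈ Finset.range S.ee) => h4 k 1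
  rw [Finset.sum_add_distrib, ← Finset.mul_sum, ← Finset.mul_sum, Finset.sum_comm,
    Finset.sum_eq_zero (s := Finset.Ico 1 S.ee) fun j hj => ?_] at h5
  · obtain ⟨k, -, hk⟩ := Finset.exists_ne_zero_of_sum_ne_zero fun e => h0 (by
      rw [e, Finset.sum_const, Finset.card_range, nsmul_eq_mul] at h5
      exact sub_eq_zero.1 (mul_left_cancel₀ (Nat.cast_ne_zero.2 S.ee_pos.ne' : (S.ee : ℂ) ≠ 0)
        (by linear_combination -h5)))
    refine ⟨μ * τ.comp S.al ^ k, (h3 k _ S.x_mem_C).trans h1, fun v hv => by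
      rw [h3 k v (S.mem_V.1 hv).1, h2 v hv], fun κ e => hk (mul_left_cancel₀ (mul_ne_zero
        (Nat.cast_ne_zero.2 S.ee_pos.ne') (Nat.cast_ne_zero.2 hp.out.ne_zero)) ?_)⟩
    rw [h4, ← h4 k κ, e]
  rw [← Finset.mul_sum, geom_sum_eq fun e => pow_notMem_C hn₀ hj ((S.al_eq_one_iff (n₀ ^ j)).1
    (hτ (Units.ext ?_))), ← map_pow, ← Units.val_pow_eq_pow_val, ← map_pow, ← pow_mul', pow_mul,
    ← hn₀, pow_orderOf_eq_one]
  · simp
  · simpa using congrArg conj e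

theorem pow_ee_mem (he : 1 < S.ee) : (n₀ : G) ^ S.ee ∈ S.Vr :=
  S.mem_V.2 ⟨(pow_mem_C_iff hn₀ _).2 dvd_rfl, fun h => S.not_dvd_of_notMem_C n₀.2
    (pow_one (n₀ : G) ▸ pow_notMem_C hn₀ (Finset.mem_Ico.2 ⟨le_rfl, he⟩))
    (h.trans (orderOf_pow_dvd _))⟩

open Classical in
theorem exists_signs (he : 1 < S.ee) (h2 : p ≠ 2) {u : ℂ} (hu : u ^ S.ee = 1) :
    ∃ δ s τ : ℤ, (δ = 0 ∨ δ = 1) ∧ (s = 0 ∧ τ = 0 ∧ (S.ee : ℤ) % 2 = 1 ∨
      s = 1 ∧ (τ = 1 ∨ τ = -1 ∧ δ = 0)) ∧ ∑ j ∈ Finset.Ico 1 S.ee, u ^ j = δ * S.ee - 1 ∧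
      (if -1 ∈ S.Af then 1 else 0 : ℂ) = s ∧
      ∑ j ∈ Finset.Ico 1 S.ee, (if j + j = S.ee then u ^ j else 0) = τ := by
  obtain ⟨δ, h1, h3⟩ : ∃ δ : ℤ, (δ = 0 ∨ δ = 1 ∧ u = 1) ∧
      ∑ j ∈ Finset.Ico 1 S.ee, u ^ j = δ * S.ee - 1 := by
    rcases eq_or_ne u 1 with rfl | h
    · exact ⟨1, Or.inr ⟨rfl, rfl⟩, by simp [Nat.cast_sub he.le]⟩
    · have := geom_sum_eq h S.ee
      rw [Finset.range_eq_Ico, Finset.sum_eq_sum_Ico_succ_bot S.ee_pos, hu] at this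
      exact ⟨0, Or.inl rfl, by simp only [zero_add] at this; push_cast; linear_combination this⟩
  haveI : Fact (2 < p) := ⟨lt_of_le_of_ne hp.out.two_le h2.symm⟩
  rcases Nat.even_or_odd' S.ee with ⟨m, hm | hm⟩
  · have h4 : -1 ∈ S.Af := by
      refine S.mem_Af'.2 ⟨n₀ ^ m, Units.ext ((sq_eq_one_iff.1 ?_).resolve_left
        fun e => pow_notMem_C hn₀ (j := m) (Finset.mem_Ico.2 ⟨by omega, by omega⟩)
          ((S.al_eq_one_iff (n₀ ^ m)).1 (Units.ext e)))⟩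
      rw [← Units.val_pow_eq_pow_val, map_pow, ← pow_mul', ← hm, ← hn₀, pow_orderOf_eq_one,
        Units.val_one]
    have h5 : ∑ j ∈ Finset.Ico 1 S.ee, (if j + j = S.ee then u ^ j else 0) = u ^ m := by
      rw [Finset.sum_eq_single_of_mem m (Finset.mem_Ico.2 ⟨by omega, by omega⟩)
        fun j _ h => if_neg (by omega), if_pos (by omega)]
    rw [hm, pow_mul', sq_eq_one_iff] at hu
    rcases hu with h | h
    · exact ⟨δ, 1, 1, by omega, by omega, h3, by simp [h4], by simp [h5, h]⟩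
    · refine ⟨δ, 1, -1, by omega, Or.inr ⟨rfl, Or.inr ⟨rfl, h1.resolve_right fun e => ?_⟩⟩, h3,
        by simp [h4], by simp [h5, h]⟩
      rw [e.2, one_pow] at h
      norm_num at h
  · refine ⟨δ, 0, 0, by omega, by omega, h3, ?_, ?_⟩
    · rw [if_neg fun e => ?_, Int.cast_zero]
      have := pow_card_eq_one' (x := (⟨-1, S.mem_Af.1 e⟩ : S.A (irrOne S.C)))
      rw [card_A_one, Subtype.ext_iff, Units.ext_iff] at this
      exact ZMod.neg_one_ne_one (n := p) (by simpa [show S.C.relIndex S.N = _ from hm, pow_succ]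
        using this)
    · rw [Finset.sum_eq_zero fun j _ => if_neg (by omega), Int.cast_zero]

omit hn₀

variable {ζ : G → ℂ} {i : (ZMod p)ˣ}

theorem Fam.main (h : S.Low ζ i) (hN : S.N ≠ ⊤) (hf : charKer ζ = ⊥)
    (F : S.Fam (fun v => (ζ v / ζ 1) ^ 2) ε ψ) {t : ℕ} (ht : t * S.ee + 1 = p) (h3 : 3 ≤ t)
    (he : 3 ≤ S.ee) : ε = 1 ∧ S.ee + 3 ≤ t := by
  classical
  haveI := Fintype.ofFinite S.N
  obtain ⟨u, rfl⟩ : ∃ u, t = u + 1 := ⟨t - 1, by omega⟩
  have hd := h.deg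
  have h4 := Nat.mul_le_mul_right S.ee h3
  rw [add_mul, one_mul] at ht h4
  obtain ⟨n₀, hn₀⟩ := S.exists_gen_al
  obtain ⟨γ, g1, g2, g3⟩ := h.exists_gamma
  obtain ⟨lam, l1, l2, l3⟩ := F.exists_lam hn₀ (γ ^ 2) (by simp [g2])
    (fun v hv => by simp [g3 v hv])
    (F.apply_one_ne hN h.irr.isCharacter hf (by omega) (by omega))
  have g4 : ∀ j ∈ Finset.Ico 1 S.ee, ζ (n₀ ^ j) = γ n₀ ^ j := fun j hj => by
    simpa using g1 (n₀ ^ j) (pow_notMem_C hn₀ hj)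
  have g5 := g4 1 (Finset.mem_Ico.2 ⟨le_rfl, by omega⟩)
  have g6 := pow_ee_mem hn₀ (by omega)
  have g7 := g3 (n₀ ^ S.ee) g6
  have l4 := l2 (n₀ ^ S.ee) g6
  simp only [pow_one, map_pow, Units.val_pow_eq_pow_val, SubmonoidClass.coe_pow] at g5 g7 l4
  have hp0 : (p : ℂ) ≠ 0 := Nat.cast_ne_zero.2 hp.out.ne_zero
  have he0 : (S.ee : ℂ) ≠ 0 := Nat.cast_ne_zero.2 S.ee_pos.ne'
  have hp1 : (p : ℂ) = u * S.ee + S.ee + 1 := by exact_mod_cast ht.symm
  obtain ⟨δ, s, τ, s1, s2, s3, s4, s5⟩ := exists_signs hn₀ (by omega) (by omega)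
    (u := (γ n₀ : ℂ) ^ 2 * conj (lam n₀ : ℂ)) (by
      rw [mul_pow, ← map_pow, l4, pow_right_comm, g7]; exact F.unit _ g6)
  have e1 : ∑ j ∈ Finset.Ico 1 S.ee, ζ (n₀ ^ j) ^ 2 * conj (lam n₀ : ℂ) ^ j = δ * S.ee - 1 := by
    rw [← s3]
    exact Finset.sum_congr rfl fun j hj => by rw [g4 j hj]; ring
  have e2 : ∑ j ∈ Finset.Ico 1 S.ee, ζ (n₀ ^ j * n₀ ^ j) * conj (lam n₀ : ℂ) ^ j =
      δ * S.ee - 1 + τ * (ζ 1 - 1) := by
    rw [← s3, ← s5, Finset.sum_mul, ← Finset.sum_add_distrib]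
    refine Finset.sum_congr rfl fun j hj => ?_
    rw [← pow_add]
    split_ifs with e
    · rw [e, show ζ (n₀ ^ S.ee) = _ from (div_eq_iff h.irr.apply_one_ne_zero).1 g7.symm, ← e]
      ring
    · have := g1 (n₀ ^ (j + j)) fun e' => by
        rw [Finset.mem_Ico] at hj
        exact e (Nat.eq_of_dvd_of_lt_two_mul (by omega) ((pow_mem_C_iff hn₀ _).1 e') (by omega))
      simp only [map_pow, Units.val_pow_eq_pow_val, SubmonoidClass.coe_pow] at this
      rw [this]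
      ring
  have e3 : ∑ k : (ZMod p)ˣ, ζ (S.x ^ (k : ZMod p).val) ^ 2 = p * S.ee * s - (S.ee : ℂ) ^ 2 := by
    simp only [h.val, neg_sq, sum_gp_sq, s4]
  have e4 : ∑ k : (ZMod p)ˣ, ζ (S.x ^ (k : ZMod p).val * S.x ^ (k : ZMod p).val) = S.ee := by
    have h2 : ((2 : ℕ) : ZMod p) ≠ 0 := by
      rw [Ne, ZMod.natCast_eq_zero_iff]
      exact Nat.not_dvd_of_pos_of_lt two_pos (by omega)
    rw [← neg_neg (S.ee : ℂ), ← S.sum_units_gp (i * Units.mk0 _ h2), ← Finset.sum_neg_distrib]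
    refine Finset.sum_congr rfl fun k _ => ?_
    rw [← x_pow_val_add, Units.val_mul, mul_assoc, ← Units.val_mul, ← h.val]
    simp [two_mul]
  have key : ∀ z : ℤ, z * z = 1 → ∃ ν : ℤ,
      0 ≤ (u + 1) * (2 * ν + ε * (p - 2 * S.ee + z)) + ε * (S.ee - s - z) ∧
      (u + 1) * (2 * ν + ε * (p - 2 * S.ee + z)) + ε * (S.ee - s - z) ≤
        u - 1 + s + δ * (1 + z) + z * τ * u ∧
      2 * (p * S.ee : ℂ) * ν = p * S.ee * (classInner (fun g => ζ g ^ 2) (ψ 1) +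
        z * classInner (fun g => ζ (g * g)) (ψ 1)) - ε * (S.ee * (ζ 1 ^ 2 + z * ζ 1) +
          ∑ k : (ZMod p)ˣ, ζ (S.x ^ (k : ZMod p).val) ^ 2 * S.gp (-1 * (k : ZMod p)) +
          z * ∑ k : (ZMod p)ˣ, ζ (S.x ^ (k : ZMod p).val * S.x ^ (k : ZMod p).val) *
            S.gp (-1 * (k : ZMod p))) := fun z hz => by
    have a0 := isCharacter_sq_add (z : ℂ) (by exact_mod_cast hz) h.irr.isCharacter
    have a1 : ∀ v ∈ S.Vr, ∀ g, (ζ (v * g) ^ 2 + z * ζ (v * g * (v * g))) / 2 =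
        (ζ v / ζ 1) ^ 2 * ((ζ g ^ 2 + z * ζ (g * g)) / 2) := fun v hv g => by
      rw [apply_mul_cen h.irr (h.cen v hv), apply_sq_cen h.irr (h.cen v hv)]
      ring
    obtain ⟨ν, B, L, a2, a3, a4, a5⟩ := F.exists_nu a0 a1 (isCharacter_monoidHom_units lam) l3
    have a6 := inner_N hn₀ (a0.isClassFunction.restrict S.N)
      (isCharacter_monoidHom_units lam).isClassFunction fun v hv n => by
        simp only [coe_mul, a1 v hv, map_mul, Units.val_mul, l2 v hv]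
        linear_combination (ζ n ^ 2 + z * ζ (n * n)) / 2 * conj (lam n : ℂ) * F.unit v hv
    have a7 := sum_half Finset.univ (fun k : (ZMod p)ˣ => ζ (S.x ^ (k : ZMod p).val) ^ 2)
      (fun k => ζ (S.x ^ (k : ZMod p).val * S.x ^ (k : ZMod p).val)) (fun _ => 1) z
    simp only [mul_one, e3, e4] at a7
    rw [a3] at a6
    simp only [map_pow, l1, map_one, one_pow, Units.val_one, mul_one, SubmonoidClass.coe_pow,
      coe_one, Units.val_pow_eq_pow_val, sum_half, a7, e1, e2, h.cast_deg] at a6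
    simp only [mul_one, a7, h.cast_deg] at a5
    have a8 : ((2 * L : ℤ) : ℂ) = (u - 1 + s + δ * (1 + z) + z * τ * u : ℤ) :=
      mul_left_cancel₀ (mul_ne_zero he0 hp0) (by
        push_cast
        linear_combination 2 * a6 + (p * (1 + z * τ)) * hp1)
    have a9 : ((2 * B : ℤ) : ℂ) = (S.ee * ((u + 1) * (2 * ν + ε * (p - 2 * S.ee + z)) +
        ε * (S.ee - s - z)) : ℤ) := mul_left_cancel₀ hp0 (by
      push_cast
      linear_combination 2 * a5 + (p * (2 * ν + ε * (p - 2 * S.ee + z))) * hp1)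
    rw [Int.cast_inj] at a8 a9
    have a10 : (0 : ℤ) < S.ee := by omega
    refine ⟨ν, nonneg_of_mul_nonneg_right (by omega) a10, le_of_mul_le_mul_left ?_ a10, ?_⟩
    · rw [← a8, ← a9]
      linarith [(Nat.cast_le (α := ℤ)).2 a2, Nat.cast_mul (α := ℤ) S.ee L]
    · simp only [classInner_def, sum_half, mul_one] at a4 ⊢
      linear_combination 2 * a4
  obtain ⟨ν₁, a1, a2, a3⟩ := key (-1) (by norm_num)
  obtain ⟨ν₂, b1, b2, b3⟩ := key 1 (by norm_num)
  obtain ⟨θ, hθ, -, c1⟩ := S.exists_four (F.irr 1).isCharacter 0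
  replace c1 := c1 1 (by simpa using hp.out.ne_one)
  simp only [coe_one, mul_one, ← hθ.coe_charDegree, zero_mul, ps_zero, F.val, ← Finset.mul_sum,
    sum_units_gp, ← (F.irr 1).coe_charDegree] at c1
  obtain ⟨N, r, c2, c3, c4⟩ := S.exists_lower h.irr (F.irr 1).complexConj (u := u) (by omega)
    (by omega) (by omega) (by omega) (h.one_lt_inner (by omega)) hn₀
    (by rw [g5, monoidHom_units_mul_conj]) fun g => by
      rw [F.cov 1 _ g6, g5, pow_right_comm, g7, map_mul, ← mul_assoc, F.unit _ g6, one_mul]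
  have c5 := inner_N hn₀ (φ := fun n : S.N => conj (ψ 1 n) * ζ n) (ψ := fun n : S.N => conj (ζ n))
    (((F.irr 1).isClassFunction.complexConj.mul h.irr.isClassFunction).restrict S.N)
    (h.irr.isClassFunction.complexConj.restrict S.N) fun v hv n => by
      simp only [coe_mul, F.cov 1 v hv, apply_mul_cen h.irr (h.cen v hv), map_mul, Complex.conj_conj]
      linear_combination conj (ψ 1 n) * ζ n ^ 2 * F.unit v hv
  have c6 : classInner (fun g => conj (ψ 1 g) * ζ g) (fun g => conj (ζ g)) =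
      classInner (fun g => ζ g ^ 2) (ψ 1) := by
    simp only [classInner_def, Complex.conj_conj]
    exact congrArg _ (Finset.sum_congr rfl fun g _ => by ring)
  have c7 : ∑ j ∈ Finset.range S.ee, (ζ n₀ ^ 2) ^ j * conj (ψ 1 (n₀ ^ j)) = charDegree (ψ 1) +
      ∑ j ∈ Finset.Ico 1 S.ee, conj (ψ 1 (n₀ ^ j)) * ζ (n₀ ^ j) * ζ (n₀ ^ j) := by
    rw [Finset.range_eq_Ico, Finset.sum_eq_sum_Ico_succ_bot S.ee_pos, pow_zero, pow_zero, one_mul,
      (F.irr 1).isCharacter.conj_apply_one, (F.irr 1).coe_charDegree]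
    exact congrArg _ (Finset.sum_congr rfl fun j hj => by rw [g4 j hj, g5]; ring)
  have c8 : ∑ k : (ZMod p)ˣ, conj (ψ 1 (S.x ^ (k : ZMod p).val)) * ζ (S.x ^ (k : ZMod p).val) *
      ζ (S.x ^ (k : ZMod p).val) =
      ε * ∑ k : (ZMod p)ˣ, ζ (S.x ^ (k : ZMod p).val) ^ 2 * S.gp (-1 * (k : ZMod p)) := by
    rw [Finset.mul_sum]
    refine Finset.sum_congr rfl fun k _ => ?_
    rw [F.val, map_mul, conj_gp, map_intCast, Units.val_one, neg_mul]
    ring
  simp only [Complex.conj_conj, SubmonoidClass.coe_pow, coe_one, c8,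
    ← (F.irr 1).coe_charDegree, Complex.conj_natCast] at c5
  rw [charDegree_congr (χ := fun g => conj (ψ 1 g)) (F.irr 1).isCharacter.conj_apply_one] at c3 c4
  have c9 : classInner (fun n : S.N => conj (ψ 1 n) * ζ n) (fun n : S.N => conj (ζ n)) =
      classInner (fun g => conj (ψ 1 g) * ζ g) (fun g => conj (ζ g)) + (S.ee : ℂ)⁻¹ *
        ∑ j ∈ Finset.range S.ee, (ζ n₀ ^ 2) ^ j * conj (ψ 1 (n₀ ^ j)) +
      ((charDegree θ * (u ^ 2 * S.ee + u - 1) - ε - (ν₁ + ν₂) : ℤ) : ℝ) := by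
    refine mul_left_cancel₀ (mul_ne_zero he0 hp0) ?_
    rw [c5, c6, c7, mul_add, mul_add,
      show ∀ y : ℂ, S.ee * p * ((S.ee : ℂ)⁻¹ * y) = p * y from fun y => by field_simp]
    rw [h.cast_deg] at a3 b3 ⊢
    push_cast at a3 b3 ⊢
    linear_combination (a3 + b3) / 2 - ((p - S.ee) ^ 2 - p) * c1 +
      charDegree θ * p * (p + u * S.ee - S.ee) * hp1
  rw [c9, Complex.add_re, Complex.add_re, Complex.ofReal_re] at c4
  have d1 : 2 * (charDegree θ * (u ^ 2 * S.ee + u - 1) - ε - (ν₁ + ν₂) : ℤ) +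
      2 * charDegree (ψ 1) ≤ 2 * u * charDegree (ψ 1) + r := by
    have : (2 * (charDegree θ * (u ^ 2 * S.ee + u - 1) - ε - (ν₁ + ν₂) : ℤ) +
      2 * charDegree (ψ 1) : ℝ) ≤ 2 * u * charDegree (ψ 1) + r := by linarith
    exact_mod_cast this
  have d2 : (charDegree (ψ 1) : ℤ) = p * charDegree θ + ε * S.ee := by
    rw [← Int.cast_inj (α := ℂ)]
    push_cast
    linear_combination -c1
  obtain ⟨q, hq⟩ := hp.out.odd_of_ne_two (by omega)
  have d3 : (p : ℤ) = u * S.ee + S.ee + 1 := by exact_mod_cast ht.symm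
  have d4 : (p : ℤ) = 2 * q + 1 := by exact_mod_cast hq
  have d5 : (r : ℤ) + N * (p - 2 * S.ee) ≤ charDegree (ψ 1) := by
    rw [← Nat.cast_le (α := ℤ)] at c3
    push_cast [Nat.cast_sub (show 2 * S.ee ≤ p by omega)] at c3
    exact c3
  have d6 : (r : ℤ) ≤ 2 * S.ee * N := by exact_mod_cast c2
  have d7 := low_arith' F.sign (by omega) (by omega) d6 (d2 ▸ d5)
  have := low_arith (t := u + 1) (e := S.ee) (a := ν₁ + ε * (q - S.ee))
    (b := ν₂ + ε * (q - S.ee + 1)) (by omega) (by omega) F.sign s1 s2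
    (by rw [d4] at a1; linarith) (by rw [d4] at a2; linarith) (by rw [d4] at b1; linarith)
    (by rw [d4] at b2; linarith) (by
      rw [d2, d3] at d1
      linear_combination 2 * d1 + d7 + 4 * ε * (d4 - d3))
  omega

theorem Low.exists_fam_odd (h : S.Low ζ i) (hZ : Odd (Nat.card S.Vr)) :
    ∃ ψ, S.Fam (fun v => (ζ v / ζ 1) ^ 2) (-1) ψ := by
  obtain ⟨w, h1, h2, h3⟩ := Nat.forall_exists_prime_gt_and_modEq (zpowers S.x).index
    Nat.card_pos.ne' hZ.coprime_two_left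
  choose ξ h4 h5 using fun κ => h.exists_conj (i⁻¹ * κ) (Nat.coprime_of_lt_prime
    index_ne_zero_of_finite h1 h2)
  simp only [mul_inv_cancel_left] at h4
  refine ⟨ξ, Or.inr rfl, fun v hv => by
    rw [map_pow, ← mul_pow, mul_conj_cen h.irr (h.cen v hv), one_pow], fun κ => (h4 κ).irr,
    fun κ g hg => by rw [h5 κ g hg, h5 1 g hg], fun κ j => by simp [(h4 κ).val], fun κ v hv g => ?_⟩
  have := apply_sq_cen h.irr (h.cen v hv) 1
  rw [apply_mul_cen (h4 κ).irr ((h4 κ).cen v hv), h5 κ v (S.mem_V.1 hv).2,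
    h5 κ 1 (by simpa using hp.out.ne_one), pow_eq_pow_iff_modEq.2
      (h3.of_dvd (orderOf_dvd_natCard _ hv)), sq v, one_pow]
  simp only [mul_one] at this
  rw [this, mul_div_cancel_right₀ _ h.irr.apply_one_ne_zero]

theorem Low.exists_fam (h : S.Low ζ i) (hV : S.Vr ≤ center G) :
    ∃ ε ψ, S.Fam (fun v => (ζ v / ζ 1) ^ 2) ε ψ := by
  haveI := Fintype.ofFinite S.N
  obtain ⟨γ, -, g2, g3⟩ := h.exists_gamma
  obtain ⟨M, hM⟩ := exists_isPModular hp.out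
  haveI := hM.isMaximal
  set θ := linIrr ((γ ^ 2).comp (inclusion S.C_le_N)) with hθ
  have h1 : S.Triv θ := by
    simp only [Triv, hθ, linIrr_apply, map_one, MonoidHom.comp_apply, MonoidHom.pow_apply]
    rw [show inclusion S.C_le_N S.xc = S.xn from rfl, g2, one_pow]
  obtain ⟨B, hB⟩ := S.exists_induced hM θ
  obtain ⟨D, -⟩ := h1.exists_data' hM hB
  have h2 : ∀ (κ k : (ZMod p)ˣ), ∀ v ∈ S.Vr, (D.Y κ : G → ℂ) (v * S.x ^ (k : ZMod p).val) =
      (ζ v / ζ 1) ^ 2 * (D.ε * S.gp ((κ : ZMod p) * k)) := fun κ k v hv => by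
    obtain ⟨hC, hv'⟩ := S.mem_V.1 hv
    have a1 : S.pr (⟨v, hC⟩ * S.xc ^ (k : ZMod p).val) = k := by
      rw [S.pr_mul, S.pr_xc_pow, S.pr_of_regular (by rwa [← orderOf_coe]), zero_add]
    have a2 := (S.pr_ne_zero_iff _).1 (a1 ▸ k.ne_zero)
    have a3 := D.singY κ (⟨v, hC⟩ * S.xc ^ (k : ZMod p).val : S.C) (by rwa [orderOf_coe])
    rw [indFun_singular_St a2, a1] at a3
    simp only [fun n => S.mem_St.1 (S.St_eq_top hV h1 ▸ mem_top n), ← Finset.sum_mul] at a3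
    rw [S.sum_N fun a => ps ((κ : ZMod p) * (a : ZMod p) * (k : ZMod p)), mul_assoc,
      inv_mul_cancel_left₀ (natCard_ne_zero _)] at a3
    refine a3.trans ?_
    simp only [hθ, linIrr_apply, map_mul, map_pow, MonoidHom.comp_apply, MonoidHom.pow_apply,
      show inclusion S.C_le_N S.xc = S.xn from rfl, g2, one_pow, mul_one, Units.val_pow_eq_pow_val,
      g3 (inclusion S.C_le_N ⟨v, hC⟩) hv, gp, mul_right_comm (κ : ZMod p), coe_inclusion]
    ring
  have h3 : ∀ κ k : (ZMod p)ˣ, (D.Y κ : G → ℂ) (S.x ^ (k : ZMod p).val) =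
      D.ε * S.gp ((κ : ZMod p) * k) := fun κ k => by
    simpa [h.irr.apply_one_ne_zero] using h2 κ k 1 (one_mem _)
  refine ⟨D.ε, fun κ => D.Y κ, D.ε_sign, fun v hv => by
    rw [map_pow, ← mul_pow, mul_conj_cen h.irr (h.cen v hv), one_pow], fun κ => (D.Y κ).2,
    fun κ g hg => D.Y_regular κ 1 hg, h3, fun κ v hv g => ?_⟩
  have a1 := apply_mul_cen (D.Y κ).2 ((D.Y κ).2.center_le_charCenter (hV hv))
  have a2 := Finset.sum_congr rfl fun k (_ : k ∈ Finset.univ) => (a1 _).symm.trans (h2 κ k v hv)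
  simp only [h3, ← Finset.mul_sum, sum_units_gp] at a2
  rw [a1, mul_right_cancel₀ (mul_ne_zero (left_ne_zero_of_mul_eq_one D.ε_sq')
    (neg_ne_zero.2 (Nat.cast_ne_zero.2 S.ee_pos.ne'))) a2]

variable (S) in
/-- Faithful irreducible characters of degree at most `p - 2`. -/
theorem faithful_cases (hN : S.N ≠ ⊤) (h7 : 7 < p) (hζ : IsIrrCharacter G ζ) (hf : charKer ζ = ⊥)
    (hd : charDegree ζ + 2 ≤ p) {t : ℕ} (ht : t * S.ee = p - 1) :
    (Nonempty (G ⧸ center G ≃* Matrix.ProjectiveSpecialLinearGroup (Fin 2) (ZMod p)) ∧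
      (2 * charDegree ζ = p + 1 ∨ 2 * charDegree ζ = p - 1) ∧ t = 2) ∨
      charDegree ζ + S.ee = p ∧ S.ee + 3 ≤ t ∧ (Odd (Nat.card (center G)) → S.ee = 2) := by
  obtain ⟨he, i, h | ⟨m, h1, h2⟩⟩ := S.low_cases hζ hd fun e =>
    S.x_ne_one (mem_bot.1 (hf ▸ hζ.mem_charKer.2 e))
  · have h1 := h.deg
    have hV := Vr_eq_center hN h hf
    rcases lt_trichotomy t 2 with h2 | rfl | h2
    · have := Nat.mul_le_mul_right S.ee (Nat.le_of_lt_succ h2)
      omega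
    · exact Or.inl ⟨S.psl_of_half_succ hN h7 hζ hf (by omega), by omega, rfl⟩
    refine Or.inr ⟨h1, ?_, fun hZ => ?_⟩
    · rcases le_or_gt 3 S.ee with h3 | h3
      · obtain ⟨ε, ψ, F⟩ := h.exists_fam hV.le
        exact (F.main h hN hf (by omega) h2 h3).2
      · rw [show S.ee = 2 by omega] at ht ⊢
        have : p ≠ 9 := fun e => absurd hp.out (by rw [e]; decide)
        omega
    · by_contra h3
      obtain ⟨ψ, F⟩ := h.exists_fam_odd (hV ▸ hZ)
      exact absurd (F.main h hN hf (by omega) h2 (by omega)).1 (by decide)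
  have h3 := S.plus_half hN hζ.isCharacter hf hd he h1 h2
  refine Or.inl ⟨S.psl_of_half hN hζ.isCharacter hf h3, by omega, ?_⟩
  rw [show S.ee = _ from S.relIndex_of_half (fun v hv => centralizer_le_center hζ.isCharacter hf
    (S.irr_restrict_H hN hζ.isCharacter hf h3) (S.centralizer_H
      (S.commute_of_degree hN hζ.isCharacter hf (by omega) hv))) hζ (by omega) h3] at ht
  exact Nat.eq_of_mul_eq_mul_right hζ.charDegree_pos (by omega)

end Setup

end Cfsg.Agent.Blk.One
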