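import Mathlib
import Cfsg.Agent.Blk.LinEig
import Cfsg.Agent.Blk.LowChar
import Cfsg.Agent.Ch.LinIto

/-!
# Groups generated by `p`-elements with a faithful character of degree at most `p - 2`
-/

set_option autoImplicit false
set_option linter.unusedSectionVars false
set_option linter.style.haveILetI false

namespace Cfsg.Agent.Blk.Lin

open Cfsg Cfsg.Agent.Ch Subgroup Cfsg.Agent.GT Cfsg.Agent.Blk.One

variable {G : Type*} [Group G] {p : ℕ} {χ : G → ℂ}

/-- `y` is a `p`-element. -/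
def PE (p : ℕ) (y : G) : Prop := ∃ k, y ^ p ^ k = 1

/-- `G` is generated by its `p`-elements. -/
def PGen (p : ℕ) (G : Type*) [Group G] : Prop :=
  ∀ M : Subgroup G, M.Normal → (∀ y, PE p y → y ∈ M) → M = ⊤

theorem PE.isPGroup {y : G} (h : PE p y) : IsPGroup p (zpowers y) := by
  obtain ⟨k, hk⟩ := h
  rintro ⟨_, i, rfl⟩
  exact ⟨k, Subtype.ext (by
    change (y ^ i) ^ p ^ k = 1
    rw [← zpow_natCast, ← zpow_mul, mul_comm, zpow_mul, zpow_natCast, hk, one_zpow])⟩

theorem pe_of_mem {P : Subgroup G} (hP : IsPGroup p P) {y : G} (hy : y ∈ P) : PE p y :=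
  (hP ⟨y, hy⟩).imp fun _ h => congrArg Subtype.val h

theorem PE.map {H : Type*} [Group H] {y : G} (h : PE p y) (f : G →* H) : PE p (f y) :=
  h.imp fun k hk => by rw [← map_pow, hk, map_one]

theorem pe_coe {K : Subgroup G} {y : K} : PE p (y : G) ↔ PE p y :=
  exists_congr fun _ => by rw [Subtype.ext_iff]; rfl

theorem PE.conj {y : G} (h : PE p y) (g : G) : PE p (g * y * g⁻¹) := h.map (MulAut.conj g).toMonoidHom

theorem PE.inv {y : G} (h : PE p y) : PE p y⁻¹ := pe_of_mem h.isPGroup (inv_mem (mem_zpowers y))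

theorem PE.pow {y : G} (h : PE p y) (n : ℕ) : PE p (y ^ n) :=
  pe_of_mem h.isPGroup (pow_mem (mem_zpowers y) n)

theorem PE.mul {x y : G} (hx : PE p x) (hy : PE p y) (h : Commute x y) : PE p (x * y) := by
  obtain ⟨k, hk⟩ := hx
  obtain ⟨l, hl⟩ := hy
  exact ⟨k + l, by rw [h.mul_pow, pow_add, pow_mul, hk, one_pow, pow_mul', hl, one_pow, mul_one]⟩

theorem pGen_closure {T : Set G} (hT : ∀ y ∈ T, PE p y) : PGen p (closure T) := fun M _ h => by
  rw [← subgroupOf_map_subtype_self _ M, subgroupOf_eq_top, closure_le]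
  exact fun y hy => ⟨⟨y, subset_closure hy⟩, h _ (pe_coe.1 (hT y hy)), rfl⟩

theorem PGen.quotient (h : PGen p G) (K : Subgroup G) [K.Normal] : PGen p (G ⧸ K) :=
  fun _ hM h1 => comap_injective (QuotientGroup.mk'_surjective K)
    (h _ (hM.comap _) fun _ hy => h1 _ (hy.map (QuotientGroup.mk' K)))

variable [hp : Fact p.Prime] [Finite G]

theorem PE.mem_sylow {y : G} (h : PE p y) (P : Sylow p G) (hy : y ∈ normalizer (P : Set G)) :
    y ∈ (P : Subgroup G) :=
  P.is_maximal' (P.isPGroup'.to_sup_of_normal_left' h.isPGroup (zpowers_le.2 hy)) le_sup_left ▸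
    mem_sup_right (mem_zpowers y)

theorem PGen.isPGroup (h : PGen p G) {P : Sylow p G} (hP : (P : Subgroup G).Normal) :
    IsPGroup p G := fun g => pe_of_mem P.isPGroup'
  ((h _ hP fun _ hy => hy.mem_sylow P (normalizer_eq_top P.1 ▸ mem_top _)) ▸ mem_top g)

theorem PGen.pe_of_comm (h : PGen p G) (hc : ∀ a b : G, a * b = b * a) : IsPGroup p G :=
  h.isPGroup (P := Classical.arbitrary _) ⟨fun n hn g => by rwa [hc g, mul_inv_cancel_right]⟩

theorem comm_of_top (hχ : IsCharacter G χ) (hf : charKer χ = ⊥) (hd : charDegree χ < p)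
    (h : IsPGroup p G) (a b : G) : a * b = b * a :=
  hχ.comm_of_isPGroup hf hp.out hd (h.to_subgroup ⊤) a trivial b trivial

theorem comm_pCore (hχ : IsCharacter G χ) (hf : charKer χ = ⊥) (hd : charDegree χ < p) {r y : G}
    (hr : r ∈ pCore p G) (hy : PE p y) : r * y = y * r :=
  hχ.comm_of_isPGroup hf hp.out hd ((isPGroup_pCore p).to_sup_of_normal_left hy.isPGroup) r
    (mem_sup_left hr) y (mem_sup_right (mem_zpowers y))

theorem PGen.pCore_le (h : PGen p G) (hχ : IsCharacter G χ) (hf : charKer χ = ⊥)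
    (hd : charDegree χ < p) : pCore p G ≤ center G :=
  centralizer_eq_top_iff_subset.1 (h _ inferInstance fun _ hy _ hr => comm_pCore hχ hf hd hr hy)

/-- The theorem of Feit and Thompson on linear groups of degree less than `(p - 1) / 2`. -/
theorem normal_of_lt (hχ : IsCharacter G χ) (hf : charKer χ = ⊥) (hd : 2 * charDegree χ + 1 < p)
    (P : Sylow p G) : (P : Subgroup G).Normal := by
  refine linI_normal hχ hf (by omega) (fun K S hS => by_contra fun hn => ?_) P
  haveI := Fintype.ofFinite K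
  obtain ⟨k, hk⟩ := S.isPGroup'.exists_card_eq
  rcases k with _ | _ | k
  · exact hn (card_eq_one.1 hk ▸ inferInstance)
  · obtain ⟨T, hT⟩ := exists_setup_of_sylow S (by simpa using hk) hn
    have := T.le_of_faithful hT (hχ.restrict K) (by rw [hχ.charKer_restrict, hf, bot_subgroupOf])
    rw [charDegree_restrict] at this
    omega
  · have h1 : p ^ 2 ≤ p ^ (k + 1 + 1) := Nat.pow_le_pow_right hp.out.pos (by omega)
    have h2 : (charDegree χ + 1) ^ 2 ≤ p ^ 2 := Nat.pow_le_pow_left (by omega) 2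
    omega

theorem PGen.le_of_ne_one (h : PGen p G) (hχ : IsIrrCharacter G χ) (h1 : charDegree χ ≠ 1) :
    p ≤ 2 * charDegree χ + 1 := by
  by_contra hd
  haveI := hχ.isClassFunction.charKer_normal
  obtain ⟨φ, h2, h3, h4⟩ := hχ.exists_faithful_quotient _ rfl
  have h5 : charDegree φ = charDegree χ := charDegree_congr (congrFun h4 1).symm
  refine h1 (hχ.isCharacter.charDegree_eq_one_iff.2 ((congrFun h4 1).trans
    (h2.apply_one_eq_one_of_comm (comm_of_top h2.isCharacter h3 (p := p) (by omega)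
      ((h.quotient _).isPGroup (normal_of_lt h2.isCharacter h3 (by omega)
        (Classical.arbitrary _)))))))

theorem eq_one_of_twist {θ ψ : G → ℂ} (hθ : IsCharacter G θ) (hf : charKer (θ + ψ) = ⊥)
    (hψ : commutator G ≤ charKer ψ) (μ : G →* ℂˣ) {s : G} (hs : s ∈ commutator G)
    (h : θ s * μ s = θ 1) : s = 1 := by
  rw [show μ s = 1 from Abelianization.commutator_subset_ker μ hs, Units.val_one, mul_one] at h
  exact mem_bot.1 (hf ▸ inf_charKer_le_add θ ψ ⟨hθ.mem_charKer.2 h, hψ hs⟩)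

omit hp in
theorem le_center_of_inf {K : Subgroup G} [K.Normal] (h : K ⊓ commutator G = ⊥) : K ≤ center G :=
  fun s hs => mem_center_iff.2 fun g => (commutatorElement_eq_one_iff_mul_comm.1 (mem_bot.1 (h ▸
    ⟨commutator_le_right ⊤ K (commutator_mem_commutator (mem_top g) hs),
      commutator_mem_commutator (mem_top g) (mem_top s)⟩)))

theorem PGen.split (h : PGen p G) (hχ : IsCharacter G χ) (hf : charKer χ = ⊥)
    (hd : charDegree χ + 2 ≤ p) (hc : ¬ ∀ a b : G, a * b = b * a) :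
    ∃ (θ ψ : G → ℂ) (μ : G →* ℂˣ), IsIrrCharacter G θ ∧ IsCharacter G ψ ∧ χ = θ + ψ ∧
      commutator G ≤ charKer ψ ∧ charDegree θ ≠ 1 ∧ p ≤ 2 * charDegree θ + 1 ∧
      charKer (fun g => θ g * μ g) = pCore p G ∧ pCore p G ⊓ commutator G = ⊥ := by
  haveI := Fintype.ofFinite G
  have h0 : ∀ {φ : G → ℂ}, IsCharacter G φ → (∀ θ, IsIrrCharacter G θ → classInner φ θ ≠ 0 →
      charDegree θ = 1) → commutator G ≤ charKer φ := fun hφ h1 x hx =>
    hφ.mem_charKer_iff_forall_constituent.2 fun θ hθ hne => hθ.apply_one_eq_one_iff_commutator_le.1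
      (hθ.isCharacter.charDegree_eq_one_iff.1 (h1 θ hθ hne)) hx
  obtain ⟨θ, hθ, hne, h1⟩ : ∃ θ, IsIrrCharacter G θ ∧ classInner χ θ ≠ 0 ∧ charDegree θ ≠ 1 := by
    by_contra h1
    push Not at h1
    exact hc fun a b => commutatorElement_eq_one_iff_mul_comm.1 (mem_bot.1
      (hf ▸ h0 hχ h1 (commutator_mem_commutator (mem_top a) (mem_top b))))
  obtain ⟨ψ, hψ, rfl⟩ := hχ.exists_eq_irr_add hθ hne
  have h2 := h.le_of_ne_one hθ h1
  have h3 := hθ.isCharacter.charDegree_add hψ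
  have h4 := h0 hψ fun φ hφ hne => by_contra fun e => by
    have := h.le_of_ne_one hφ e
    have := hψ.charDegree_irr_le hφ hne
    omega
  obtain ⟨n, hn⟩ := (isPGroup_pCore (G := G) p).exists_card_eq
  obtain ⟨μ, hμ⟩ := One.exists_twist hθ (n := p ^ n) (pow_pos hp.out.pos n) (Nat.Coprime.pow_right n
    (Nat.coprime_of_lt_prime hθ.charDegree_pos.ne' (by omega) hp.out).symm)
  have h5 := hθ.mul_monoidHom μ
  have h6 : pCore p G ≤ charKer fun g => θ g * μ g := fun s hs => h5.mem_charKer.2 (by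
    rw [hμ s (hθ.center_le_charCenter (h.pCore_le hχ hf (by omega) hs))
      (hn ▸ congrArg Subtype.val (pow_card_eq_one' (x := (⟨s, hs⟩ : pCore p G))))]
    simp)
  have h7 : ∀ s ∈ charKer fun g => θ g * μ g, s ∈ commutator G → s = 1 := fun s hs hs' =>
    eq_one_of_twist hθ.isCharacter hf h4 μ hs' (by simpa using apply_eq_of_mem_charKer hs)
  haveI := h5.isClassFunction.charKer_normal
  refine ⟨θ, ψ, μ, hθ, hψ, rfl, h4, h1, h2, le_antisymm (le_pCore fun s => ?_) h6,
    eq_bot_iff.2 fun s hs => h7 s (h6 hs.1) hs.2⟩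
  obtain ⟨k, hk⟩ := (h.quotient (commutator G)).pe_of_comm (fun a b =>
    mul_comm (G := Abelianization G) a b) (s : G)
  exact ⟨k, Subtype.ext (h7 _ (pow_mem s.2 _) ((QuotientGroup.eq_one_iff _).1 hk))⟩

theorem setup_nodup {G : Type*} [Group G] [Fintype G] {χ : G → ℂ} (S : Setup p G) (hN : S.N ≠ ⊤)
    (h5 : 5 ≤ p) (hχ : IsIrrCharacter G χ) (hf : charKer χ = ⊥) (hd : charDegree χ + 2 ≤ p) {y : G}
    (hy : PE p y) (h1 : y ≠ 1) :
    (eig χ y).Nodup ∧ (2 * charDegree χ + 1 = p → 1 ∉ eig χ y) := by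
  classical
  obtain ⟨c, -, hc⟩ := S.exists_conj_mem ⊤ trivial (z := y) trivial
    (hy.elim fun k hk => ((Nat.dvd_prime_pow hp.out).1 (orderOf_dvd_of_pow_eq_one hk)).imp
      fun _ h => h.2)
  have h2 := congrArg Subtype.val (S.eq_xc_pow_of_mem (y := ⟨_, S.zpowers_le_C hc⟩) hc)
  set j := S.pr ⟨_, S.zpowers_le_C hc⟩
  replace h2 : c * y * c⁻¹ = S.x ^ j.val := h2
  have h3 : j ≠ 0 := fun e => h1 (by simpa [e] using h2)
  rw [← eig_conj hχ.isClassFunction y c, h2]
  obtain ⟨he, i, h⟩ := S.low_cases hχ hd fun e =>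
    S.x_ne_one (mem_bot.1 (hf ▸ hχ.mem_charKer.2 e))
  set T := S.Af.image fun a : (ZMod p)ˣ => (i : ZMod p) * j * a with hT
  have h4 : ∀ m : ℕ, ∑ l ∈ T, ps l ^ m = S.gp ((i : ZMod p) * (j * m)) := fun m => by
    rw [hT, Finset.sum_image fun a _ b _ e =>
      Units.ext (mul_left_cancel₀ (mul_ne_zero i.ne_zero h3) e), Setup.gp]
    exact Finset.sum_congr rfl fun a _ => by rw [← ps_natCast_mul]; congr 1; ring
  have h6 : ∀ {U : Finset (ZMod p)} {f : ZMod p → ℂ}, χ 1 = f 0 →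
      (∀ k : (ZMod p)ˣ, χ (S.x ^ (k : ZMod p).val) = f k) → (∀ m : ℕ, ∑ l ∈ U, ps l ^ m = f (j * m)) →
      eig χ (S.x ^ j.val) = U.val.map ps := fun {U f} e0 e1 e2 => eig_eq fun m => by
    rw [S.x_pow_mul, Multiset.map_map]
    refine Eq.trans ?_ (e2 m).symm
    rcases eq_or_ne (j * m) 0 with e | e
    · rw [e, ZMod.val_zero, pow_zero, e0]
    · exact e1 (Units.mk0 _ e)
  rcases h with h | ⟨m, h7, h8⟩
  · rw [h6 (U := Tᶜ) (f := fun k => (if k = 0 then (p : ℂ) else 0) - S.gp ((i : ZMod p) * k))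
      (by simp [h.cast_deg, S.gp_zero]) (fun k => by simp [h.val]) fun m => by
        rw [← h4, eq_sub_iff_add_eq, Finset.sum_compl_add_sum]
        simp only [← ps_natCast_mul, mul_comm (m : ZMod p), sum_ps_mul, mul_eq_zero, h3, false_or]]
    exact ⟨Tᶜ.nodup.map ps_injective, fun e => by have := h.deg; omega⟩
  have h9 := S.plus_half hN hχ.isCharacter hf hd he h7 h8
  have h10 : S.ee = _ := S.relIndex_of_half (fun v hv => Setup.centralizer_le_center hχ.isCharacter hf
    (S.irr_restrict_H hN hχ.isCharacter hf h9) (S.centralizer_H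
      (S.commute_of_degree hN hχ.isCharacter hf (by omega) hv))) hχ h5 h9
  obtain rfl : m = 1 := Nat.eq_of_mul_eq_mul_left S.ee_pos (by omega)
  rw [h6 (U := T) (f := fun k => S.gp ((i : ZMod p) * k))
    (by simp [S.gp_zero, h10, hχ.coe_charDegree]) (fun k => by simp [h8]) h4]
  refine ⟨T.nodup.map ps_injective, fun _ e => ?_⟩
  obtain ⟨l, hl, e⟩ := Multiset.mem_map.1 e
  obtain ⟨a, -, rfl⟩ := Finset.mem_image.1 hl
  exact mul_ne_zero (mul_ne_zero i.ne_zero h3) a.ne_zero (ps_eq_one_iff.1 e)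

theorem PGen.gen {G : Type*} [Group G] [Fintype G] (h : PGen p G) (S : Setup p G) : S.Gen :=
  fun K hK hx => h K hK fun y hy => by
    obtain ⟨c, -, hc⟩ := S.exists_conj_mem ⊤ trivial (z := y) trivial
      (hy.elim fun k hk => ((Nat.dvd_prime_pow hp.out).1 (orderOf_dvd_of_pow_eq_one hk)).imp
        fun _ h => h.2)
    simpa [mul_assoc] using hK.conj_mem' _ (zpowers_le.2 hx hc) c

theorem PGen.struct (h : PGen p G) (h5 : 5 ≤ p) (hχ : IsCharacter G χ) (hf : charKer χ = ⊥)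
    (hd : charDegree χ + 2 ≤ p) (hc : ¬ ∀ a b : G, a * b = b * a)
    (hg : ¬ p ^ 2 ∣ (pCore p G).index) :
    ∃ θ ψ : G → ℂ, IsIrrCharacter G θ ∧ IsCharacter G ψ ∧ χ = θ + ψ ∧
      commutator G ≤ charKer ψ ∧ p ≤ 2 * charDegree θ + 1 ∧
      (∀ y, PE p y → ∃ r ∈ center G, PE p r ∧ r⁻¹ * y ∈ commutator G) ∧
      ∀ q ∈ commutator G, PE p q → q ≠ 1 →
        (eig θ q).Nodup ∧ (2 * charDegree θ + 1 = p → 1 ∉ eig θ q) := by
  obtain ⟨θ, ψ, μ, hθ, hψ, rfl, h1, h2, h3, h4, h6⟩ := h.split hχ hf hd hc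
  have h7 := hθ.isCharacter.charDegree_add hψ
  haveI := Fintype.ofFinite (G ⧸ pCore p G)
  obtain ⟨φ, a1, a2, a3⟩ := (hθ.mul_monoidHom μ).exists_faithful_quotient _ h4.symm
  have a4 : charDegree φ = charDegree θ := charDegree_congr (by simpa using (congrFun a3 1).symm)
  obtain ⟨S, hS⟩ := exists_setup_of_not_normal (G := G ⧸ pCore p G) (p := p) (by_contra fun e =>
    hc (comm_of_top (p := p) hχ hf (by omega) (pCore_eq_top_iff.1 (h _ inferInstance fun y hy =>
      (QuotientGroup.eq_one_iff y).1 (by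
        obtain ⟨k, hk⟩ := hy.map (QuotientGroup.mk' (pCore p G))
        exact orderOf_eq_one_iff.1 (Nat.eq_one_of_dvd_coprimes (Nat.Coprime.pow_left k
          ((Nat.Prime.coprime_iff_not_dvd hp.out).2 e)) (orderOf_dvd_of_pow_eq_one hk)
          (orderOf_dvd_natCard _))))))) hg fun H _ e => by
    rw [pCore_eq_bot_iff.1 pCore_quotient_pCore H inferInstance (IsPGroup.of_card (n := 1)
      (by rw [e, pow_one])), card_bot] at e
    exact hp.out.ne_one e.symm
  have a5 := ((h.quotient _).gen S).perfect (S.relIndex_ne_one_of_lt a1.isCharacter a2 (by omega) hS)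
  refine ⟨θ, ψ, hθ, hψ, rfl, h1, h3, fun y _ => ?_, fun q hq hq' h8 => ?_⟩
  · have a6 : (commutator G).map (QuotientGroup.mk' (pCore p G)) = ⊤ := by
      rw [map_commutator_eq, MonoidHom.range_eq_top.2 (QuotientGroup.mk'_surjective _)]
      exact a5
    obtain ⟨q, hq, e⟩ := a6.ge (mem_top (y : G ⧸ pCore p G))
    have a7 := QuotientGroup.eq.1 e
    have a8 := h.pCore_le hχ hf (by omega) a7
    refine ⟨_, a8, pe_of_mem (isPGroup_pCore p) a7, ?_⟩
    rw [← mem_center_iff.1 (inv_mem a8)]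
    simpa using (inferInstance : (commutator G).Normal).conj_mem q hq 1
  have a6 : eig θ q = eig φ (q : G ⧸ pCore p G) := eig_congr fun m => by
    have := congrFun a3 (q ^ m)
    rwa [show μ (q ^ m) = 1 from Abelianization.commutator_subset_ker μ (pow_mem hq m),
      Units.val_one, mul_one] at this
  rw [a6, ← a4]
  exact setup_nodup S hS h5 a1 a2 (by omega) (hq'.map (QuotientGroup.mk' _)) fun e =>
    h8 (mem_bot.1 (h6 ▸ ⟨(QuotientGroup.eq_one_iff q).1 e, hq⟩))

end Cfsg.Agent.Blk.Lin
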