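import Mathlib
import Cfsg.Agent.Blk.LinGen
import Cfsg.Agent.GT.Zipper

/-!
# Feit's theorem: a linear group of degree at most `p - 2` has `|P : O_p(G)| ≤ p`
-/

set_option autoImplicit false
set_option linter.unusedSectionVars false
set_option linter.style.haveILetI false

namespace Cfsg.Agent.Blk.Lin

open Cfsg Cfsg.Agent.Ch Subgroup Cfsg.Agent.GT Cfsg.Agent.Blk.One Multiset

theorem exists_root_five {ε : ℂ} {k : ℕ} (h : ε ^ 5 ^ k = 1) (h1 : ε ≠ 1) :
    ∃ j : ℕ, ‖ε ^ j + 1‖ < 1 ∧ (ε ^ j) ^ 2 ≠ 1 := by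
  obtain ⟨i, h2, h3⟩ : ∃ i : ℕ, ε ^ i ≠ 1 ∧ (ε ^ i) ^ 5 = 1 := by
    induction k generalizing ε with
    | zero => exact absurd (by simpa using h) h1
    | succ k ih =>
      by_cases e : ε ^ 5 = 1
      · exact ⟨1, by simpa using h1, by simpa using e⟩
      · obtain ⟨i, h2, h3⟩ := ih (ε := ε ^ 5) (by rwa [← pow_mul, ← pow_succ']) e
        exact ⟨5 * i, by rwa [pow_mul], by rwa [pow_mul]⟩
  set η := ε ^ i with hη
  have h4 : ∀ z : ℂ, z ^ 5 = 1 → z.re < -1 / 2 → ‖z + 1‖ < 1 ∧ z ^ 2 ≠ 1 := fun z hz hz' => by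
    have a1 := norm_eq_one_of_pow_eq_one' (by norm_num) hz
    have a2 := Complex.sq_norm z
    have a3 := Complex.sq_norm (z + 1)
    rw [Complex.normSq_apply] at a2 a3
    simp only [Complex.add_re, Complex.add_im, Complex.one_re, Complex.one_im, a1] at a2 a3
    refine ⟨by nlinarith [norm_nonneg (z + 1)], fun e => ?_⟩
    rw [show z = 1 by linear_combination hz - (z ^ 3 + z) * e, Complex.one_re] at hz'
    linarith
  have h5 := norm_eq_one_of_pow_eq_one' (by norm_num) h3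
  have h6 := Complex.sq_norm η
  have h7 : η ^ 2 + η + 1 + (starRingEnd ℂ) η + (starRingEnd ℂ) η ^ 2 = 0 := by
    have h0 : η ≠ 0 := fun e => by simp [e] at h5
    rw [conj_eq_inv_of_pow_eq_one (by norm_num) h3]
    have h9 : η ^ 4 + η ^ 3 + η ^ 2 + η + 1 = 0 :=
      mul_left_cancel₀ (sub_ne_zero.2 h2) (by linear_combination h3)
    field_simp
    linear_combination h9
  have h8 := congrArg Complex.re h7
  rw [Complex.normSq_apply, h5] at h6
  simp only [sq, Complex.add_re, Complex.mul_re, Complex.conj_re, Complex.conj_im, Complex.one_re,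
    Complex.zero_re] at h8
  by_cases e : η.re < -1 / 2
  · exact ⟨i, h4 η h3 e⟩
  · refine ⟨i * 2, pow_mul ε i 2 ▸ h4 (η ^ 2) (by rw [pow_right_comm, h3, one_pow]) ?_⟩
    simp only [sq, Complex.mul_re]
    nlinarith

universe u

variable {G : Type*} [Group G] {p : ℕ} {χ : G → ℂ} [hp : Fact p.Prime] [Finite G]

/-- The minimal counterexample. -/
structure Min (p : ℕ) (χ : G → ℂ) : Prop where
  five : 5 ≤ p
  irr : IsIrrCharacter G χ
  faith : charKer χ = ⊥
  ne : charDegree χ ≠ 1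
  deg : charDegree χ + 2 ≤ p
  core : pCore p G = ⊥
  ih : ∀ H : Subgroup G, H ≠ ⊤ → ¬ p ^ 2 ∣ (pCore p H).index

namespace Min

variable (h : Min p χ)
include h

theorem sub {T : Set G} (hT : ∀ y ∈ T, PE p y) (h1 : closure T ≠ ⊤) {a b : G} (ha : a ∈ T)
    (hb : b ∈ T) (hab : a * b ≠ b * a) : ∃ θ ψ : closure T → ℂ, IsIrrCharacter _ θ ∧
      IsCharacter _ ψ ∧ (∀ y : closure T, eig χ y = eig θ y + eig ψ y) ∧
      charDegree θ + charDegree ψ = charDegree χ ∧
      commutator _ ≤ charKer ψ ∧ p ≤ 2 * charDegree θ + 1 ∧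
      (∀ y ∈ commutator _, y ∈ charKer θ → y = 1) ∧ (∀ y, PE p y → ∃ r ∈ center (closure T), ∃ q ∈ commutator (closure T),
        PE p r ∧ PE p q ∧ y = r * q) ∧
      ∀ q ∈ commutator (closure T), PE p q → q ≠ 1 →
        (eig θ q).Nodup ∧ (2 * charDegree θ + 1 = p → 1 ∉ eig θ q) := by
  have h2 := h.irr.isCharacter.restrict (closure T)
  have h3 : charKer (fun y : closure T => χ y) = ⊥ := by
    rw [h.irr.isCharacter.charKer_restrict, h.faith, bot_subgroupOf]
  obtain ⟨θ, ψ, a1, a2, a3, a4, a5, a6, a7⟩ := (pGen_closure hT).struct h.five h2 h3 h.deg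
    (fun e => hab (congrArg Subtype.val (e ⟨a, subset_closure ha⟩ ⟨b, subset_closure hb⟩)))
    (h.ih _ h1)
  refine ⟨θ, ψ, a1, a2, fun y => by rw [← eig_coe, a3, eig_add a1.isCharacter a2], by
    rw [← a1.isCharacter.charDegree_add a2, ← a3, charDegree_restrict], a4, a5,
    fun y hy e => mem_bot.1 (h3 ▸ a3 ▸ inf_charKer_le_add θ ψ ⟨e, a4 hy⟩), fun y hy => ?_, a7⟩
  obtain ⟨r, b1, b2, b3⟩ := a6 y hy
  exact ⟨r, b1, _, b3, b2, b2.inv.mul hy (mem_center_iff.1 (inv_mem b1) y).symm, by simp⟩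

theorem notMem_center {x : G} (hx : PE p x) (h1 : x ≠ 1) : x ∉ center G := fun e => by
  haveI : (zpowers x).Normal := normal_of_le_center (zpowers_le.2 e)
  exact h1 (mem_bot.1 (h.core ▸ le_pCore hx.isPGroup (mem_zpowers x)))

theorem exists_ne {z : G} (h1 : z ≠ 1) (hz : PE p z) :
    ∃ g, z * (g * z * g⁻¹) ≠ g * z * g⁻¹ * z := by
  by_contra e
  push Not at e
  refine h1 (mem_bot.1 (h.core ▸ baer_suzuki_elem fun g => ?_))
  have h2 : ∀ y ∈ ({z, g * z * g⁻¹} : Set G), PE p y := by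
    rintro _ (rfl | rfl)
    exacts [hz, hz.conj g]
  letI := closureCommGroupOfComm (k := {z, g * z * g⁻¹}) (by
    rintro _ (rfl | rfl) _ (rfl | rfl)
    exacts [rfl, e g, (e g).symm, rfl])
  exact (pGen_closure h2).pe_of_comm mul_comm

open Classical in
theorem key {z : G} (hz : PE p z) (h1 : z ≠ 1) {c : ℂ} (hc : p ≤ 2 * (eig χ z).count c + 1) :
    charDegree χ + 2 = p ∧ ∃ (r q a b : G) (c' : ℂ), z = r * q ∧ PE p r ∧ Commute r z ∧
      r ≠ 1 ∧ PE p a ∧ PE p b ∧ Commute a r ∧ Commute b r ∧ a * b ≠ b * a ∧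
      (∀ t ∈ eig χ r, t = c ∨ t = c') ∧ ∀ t, 2 * (eig χ q).count t + 1 < p := by
  obtain ⟨g, hg⟩ := h.exists_ne h1 hz
  have h2 := h.deg
  have h5 := h.five
  have m1 : z ∈ ({z, g * z * g⁻¹} : Set G) := by simp
  have m2 : g * z * g⁻¹ ∈ ({z, g * z * g⁻¹} : Set G) := by simp
  obtain ⟨θ, ψ, a1, a2, a3, a4, a5, a6, -, a7, a8⟩ := h.sub (T := {z, g * z * g⁻¹}) (by
    rintro _ (rfl | rfl)
    exacts [hz, hz.conj g]) (closure_ne_top h.irr h.ne (c := c) (c' := c) (by
      rw [eig_conj h.irr.isClassFunction]; omega)) m1 m2 hg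
  obtain ⟨r, b1, q, b2, b3, b4, b5⟩ := a7 ⟨z, subset_closure m1⟩ (pe_coe.1 hz)
  have b6 : ∀ {t}, t ∈ ({z, g * z * g⁻¹} : Set G) → Commute t r := fun ht =>
    congrArg Subtype.val (mem_center_iff.1 b1 ⟨_, subset_closure ht⟩)
  have b7 : z = r * q := congrArg Subtype.val b5
  obtain ⟨b8, b9⟩ := a8 q b2 b4 fun e => hg (by
    have := b6 m2
    rw [e, coe_one, mul_one] at b7
    rw [← b7] at this
    exact this.symm)
  obtain ⟨c₀, c1, c2⟩ := eig_center_mul a1 b1
  obtain ⟨c', c3⟩ := eig_center a1 b1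
  have c4 : eig ψ (r * q) = eig ψ r := by
    rw [← mem_center_iff.1 b1 q, eig_mul_of_mem_charKer (a5 b2) (mem_center_iff.1 b1 q)]
  have c5 := nodup_iff_count_le_one.1 (b8.map (mul_right_injective₀ c1)) c
  have c6 := count_le_card c (eig ψ r)
  have c7 := card_eig a2 r
  rw [b7, ← coe_mul, a3, count_add, c2, c4] at hc
  obtain ⟨k, hk⟩ := hp.out.odd_of_ne_two (by omega)
  have c8 : ∀ t, 2 * (eig χ q).count t + 1 < p := fun t => by
    rw [a3, count_add, eig_of_mem_charKer a2 (a5 b2), count_replicate]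
    have := nodup_iff_count_le_one.1 b8 t
    split_ifs with e
    · rw [← e, count_eq_zero_of_notMem (b9 (by omega))]
      omega
    · omega
  refine ⟨by omega, r, q, z, _, c', b7, pe_coe.2 b3, (b6 m1).symm, fun e => ?_, hz, hz.conj g, b6 m1,
    b6 m2, hg, fun t ht => ?_, c8⟩
  · have := c8 c
    rw [a3, count_add, ← one_mul q, ← show r = 1 from Subtype.ext e, c2, c4] at this
    omega
  · rw [a3, c3, mem_add] at ht
    exact ht.symm.imp (fun e => (count_eq_card.1 (by omega) t e).symm) eq_of_mem_replicate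

theorem cent {x a b : G} (hx : PE p x) (h1 : x ≠ 1) :
    closure {y | PE p y ∧ Commute y x} ≠ ⊤ ∧ ∃ hx : x ∈ closure {y | PE p y ∧ Commute y x},
      (⟨x, hx⟩ : closure {y | PE p y ∧ Commute y x}) ∈ center _ := by
  have h2 : closure {y | PE p y ∧ Commute y x} ≤ centralizer {x} :=
    (closure_le _).2 fun y hy => mem_centralizer_singleton_iff.2 hy.2
  exact ⟨fun e => h.notMem_center hx h1 (mem_center_iff.2 fun g =>
    mem_centralizer_singleton_iff.1 (h2 (e ▸ mem_top g))), subset_closure ⟨hx, rfl⟩,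
    mem_center_iff.2 fun g => Subtype.ext (mem_centralizer_singleton_iff.1 (h2 g.2))⟩

open Classical in
theorem exists_count {x a b : G} (hx : PE p x) (h1 : x ≠ 1) (ha : PE p a) (hb : PE p b)
    (ha' : Commute a x) (hb' : Commute b x) (hab : a * b ≠ b * a) :
    ∃ c, p ≤ 2 * (eig χ x).count c + 1 := by
  obtain ⟨h2, h3, h4⟩ := h.cent (a := a) (b := b) hx h1
  obtain ⟨θ, ψ, a1, -, a3, -, -, a6, -⟩ := h.sub (fun _ hy => hy.1) h2 ⟨ha, ha'⟩ ⟨hb, hb'⟩ hab
  obtain ⟨c, hc⟩ := eig_center a1 h4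
  refine ⟨c, ?_⟩
  rw [a3 ⟨x, h3⟩, count_add, hc, count_replicate_self]
  omega

theorem ti {x a b : G} (hx : PE p x) (h1 : x ≠ 1) (ha : PE p a) (hb : PE p b)
    (ha' : Commute a x) (hb' : Commute b x) : a * b = b * a := by
  classical
  by_contra hab
  obtain ⟨h2, h3, h4⟩ := h.cent (a := a) (b := b) hx h1
  obtain ⟨θ, ψ, a1, a2, a3, a4, a5, a6, a0, a7, a8⟩ :=
    h.sub (fun _ hy => hy.1) h2 ⟨ha, ha'⟩ ⟨hb, hb'⟩ hab
  obtain ⟨c, hc⟩ := eig_center a1 h4
  obtain ⟨hd, r, q, -, -, c', b1, b2, b3, -, -, -, -, -, -, b4, b5⟩ := h.key hx h1 (c := c) (by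
    rw [a3 ⟨x, h3⟩, count_add, hc, count_replicate_self]; omega)
  rcases le_or_gt 3 (charDegree θ) with h7 | h7
  · have b6 : r ∈ closure {y | PE p y ∧ Commute y x} := subset_closure ⟨b2, b3⟩
    obtain ⟨r', c1, q', c2, -, c4, c5⟩ := a7 ⟨r, b6⟩ (pe_coe.1 b2)
    rcases eq_or_ne q' 1 with rfl | e
    · obtain ⟨t, ht⟩ := eig_center a1 (mul_mem (inv_mem (c5 ▸ mul_mem c1 (one_mem _) : (⟨r, b6⟩ :
        closure {y | PE p y ∧ Commute y x}) ∈ center _)) h4)
      have := b5 t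
      rw [show q = _ from (eq_inv_mul_iff_mul_eq.2 b1.symm : q = r⁻¹ * x),
        show r⁻¹ * x = ((⟨r, b6⟩⁻¹ * ⟨x, h3⟩ : closure {y | PE p y ∧ Commute y x}) : G) from rfl, a3,
        count_add, ht, count_replicate_self] at this
      omega
    obtain ⟨c₀, c6, c7⟩ := eig_center_mul a1 c1
    have c8 := (a8 q' c2 c4 e).1.map (mul_right_injective₀ c6)
    rw [← c7, ← c5] at c8
    have c9 := card_le_card ((le_iff_subset (t := {c, c'}) c8).2 fun t ht => by
      simpa using b4 t (by rw [a3 ⟨r, b6⟩]; exact mem_add.2 (Or.inl ht)))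
    rw [card_eig a1.isCharacter, card_pair] at c9
    omega
  obtain rfl : p = 5 := by have := h.five; omega
  have hL := pGen_closure (T := {y | PE 5 y ∧ Commute y x}) fun _ hy => hy.1
  have ma : a ∈ closure {y | PE 5 y ∧ Commute y x} := subset_closure ⟨ha, ha'⟩
  have mb : b ∈ closure {y | PE 5 y ∧ Commute y x} := subset_closure ⟨hb, hb'⟩
  generalize closure {y | PE 5 y ∧ Commute y x} = L at *
  have d1 : charDegree θ = 2 := by omega
  obtain ⟨w, hw⟩ := exists_prime_orderOf_dvd_card' (G := L) 2 (d1 ▸ a1.charDegree_dvd_card)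
  have w2 : w ^ 2 = 1 := hw ▸ pow_orderOf_eq_one w
  have w1 : w ∈ commutator L := by
    obtain ⟨k, hk⟩ := (hL.quotient (commutator L)).pe_of_comm
      (fun a b => mul_comm (G := Abelianization L) a b) (w : L)
    obtain ⟨l, hl⟩ : Odd (5 ^ k) := Odd.pow (by decide)
    rw [← QuotientGroup.mk_pow, hl, pow_succ, pow_mul, w2, one_pow, one_mul] at hk
    exact (QuotientGroup.eq_one_iff w).1 hk
  have w3 : ∀ t ∈ eig θ w, t = -1 := by
    obtain ⟨s, t, hst⟩ := card_eq_two.1 ((card_eig a1.isCharacter w).trans d1)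
    have e1 := prod_eig a1.isCharacter w1
    have e2 := eig_spec a1.isCharacter w 1
    have e3 := pow_eq_one_of_mem_eig a1.isCharacter (a := s) (by simp [hst]) w2
    simp only [hst, insert_eq_cons, prod_cons, prod_singleton, map_cons, map_singleton, sum_cons,
      sum_singleton, pow_one, mem_cons, mem_singleton] at e1 e2 ⊢
    rcases sq_eq_one_iff.1 e3 with rfl | rfl
    · rw [a0 w w1 (a1.mem_charKer.2 (by
        rw [e2, ← a1.coe_charDegree, d1, ← one_mul t, e1]; norm_num)), orderOf_one] at hw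
      omega
    · rintro _ (rfl | rfl)
      exacts [rfl, by linear_combination -e1]
  have w4 : w ∈ center L := mem_center_iff.2 fun g => (commutatorElement_eq_one_iff_mul_comm.1
    (a0 _ (commutator_mem_commutator (mem_top w) (mem_top g))
      (a1.isCharacter.commutator_mem_charKer (mem_charCenter_of_eig a1.isCharacter w3) g))).symm
  obtain ⟨c₀, -, w5⟩ := eig_center_mul a1 w4
  obtain rfl : c₀ = -1 := w3 c₀ (by
    rw [← mul_one w, w5, eig_of_mem_charKer a1.isCharacter (one_mem _), d1]; simp)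
  have w6 : ∀ (y : L) (j : ℕ), eig χ (w * y ^ j : L) =
      (eig θ y).map (fun t => -t ^ j) + (eig ψ y).map (· ^ j) := fun y j => by
    rw [a3, w5, eig_mul_of_mem_charKer (a5 w1) (mem_center_iff.1 w4 _).symm, eig_pow a1.isCharacter,
      eig_pow a2, Multiset.map_map]
    simp
  have w7 : ∀ (y : L) (j : ℕ), ((w * y ^ j : L) : G) ^ 2 = (y ^ j) ^ 2 := fun y j => by
    rw [← coe_pow, (show Commute w (y ^ j) from (mem_center_iff.1 w4 _).symm).mul_pow, w2, one_mul]
    rfl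
  obtain ⟨c₂, e1⟩ := card_eq_one.1 ((card_eig a2 ⟨x, h3⟩).trans (by omega))
  obtain ⟨k, hk⟩ := pe_coe.1 (show PE 5 ((⟨x, h3⟩ : L) : G) from hx)
  have e2 := pow_eq_one_of_mem_eig a1.isCharacter (a := c) (by simp [hc, d1]) hk
  have e3 := pow_eq_one_of_mem_eig a2 (a := c₂) (by simp [e1]) hk
  have e4 := norm_eq_one_of_pow_eq_one' (by positivity) e2
  have e0 : c ≠ 0 := fun e => by simp [e] at e4
  obtain ⟨j, e5, e6⟩ := exists_root_five (ε := c₂ / c) (k := k) (by rw [div_pow, e2, e3, div_one])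
    fun e => h.notMem_center hx h1 (h.irr.isCharacter.charCenter_le_center h.faith
      (mem_charCenter_of_eig h.irr.isCharacter (c := c) fun t ht => by
        rw [a3 ⟨x, h3⟩, hc, e1, mem_add, mem_singleton] at ht
        exact ht.elim eq_of_mem_replicate fun e' => e'.trans ((div_eq_one_iff_eq e0).1 e)))
  obtain ⟨r', f1, q', f2, -, f3, f4⟩ := a7 ⟨a, ma⟩ (pe_coe.1 ha)
  have f5 : q' ≠ 1 := fun e => hab (congrArg Subtype.val (mem_center_iff.1
    (f4 ▸ mul_mem f1 (e ▸ one_mem _)) ⟨b, mb⟩)).symm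
  obtain ⟨α, β, f6⟩ := card_eq_two.1 ((card_eig a1.isCharacter q').trans d1)
  obtain ⟨k', hk'⟩ := f3
  have f7 := pow_eq_one_of_mem_eig a1.isCharacter (a := α) (by simp [f6]) hk'
  obtain ⟨j', f8, f9⟩ := exists_root_five f7 fun e => (a8 q' f2 ⟨k', hk'⟩ f5).2 (by omega)
    (by simp [f6, e])
  have f10 : β = (starRingEnd ℂ) α := by
    have := prod_eig a1.isCharacter f2
    rw [conj_eq_inv_of_pow_eq_one (by positivity) f7]
    exact eq_inv_of_mul_eq_one_right (by simpa [f6] using this)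
  obtain ⟨ρ, g1, g2⟩ := h.irr.isCharacter.exists_unitary
  have g3 : Function.Injective ρ := by rw [← MonoidHom.ker_eq_bot_iff, ← charKer_character, g1, h.faith]
  have g4 : jordanDist ρ 1 (w * q' ^ j' : L) < 1 := (jordanDist_le_of_eig g2 (norm_nonneg _)
    fun t ht => by
      rw [g1, w6, f6, eig_of_mem_charKer a2 (a5 f2)] at ht
      simp only [insert_eq_cons, map_cons, map_singleton, map_replicate, mem_add, mem_cons,
        mem_singleton] at ht
      rcases ht with (rfl | rfl) | ht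
      · rw [← neg_add', norm_neg]
      · rw [← neg_add', norm_neg, f10, ← Complex.norm_conj]
        simp
      · simp [eq_of_mem_replicate ht]).trans_lt f8
  have g5 : jordanDist ρ ((c₂ ^ j - c ^ j) / 2) (w * ⟨x, h3⟩ ^ j : L) < 1 / 2 :=
    (jordanDist_le_of_eig (r := ‖(c₂ / c) ^ j + 1‖ / 2) g2 (by positivity) fun t ht => by
      have e7 : ‖(c₂ ^ j + c ^ j) / 2‖ = ‖(c₂ / c) ^ j + 1‖ / 2 := by
        rw [show c₂ ^ j + c ^ j = ((c₂ / c) ^ j + 1) * c ^ j by rw [div_pow]; field_simp]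
        simp [e4]
      rw [g1, w6, hc, e1, map_replicate, map_singleton, mem_add, mem_singleton] at ht
      rw [← e7]
      rcases ht with ht | rfl
      · rw [eq_of_mem_replicate ht, ← norm_neg]
        exact le_of_eq (congrArg _ (by ring))
      · exact le_of_eq (congrArg _ (by ring))).trans_lt (by linarith)
  have g6 : ∀ g, Commute (g * (x ^ j) ^ 2 * g⁻¹) (((q' : G) ^ j') ^ 2) := fun g => by
    have := (show Commute _ _ from jordan_comm_of_dist g2 g3
      ((jordanDist_conj_le g2 _ _ g).trans_lt g5) g4).pow_pow 2 2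
    rwa [conj_pow, w7, w7] at this
  have g7 : (x ^ j) ^ 2 ≠ 1 := fun e => e6 (by
    rw [← pow_mul] at e ⊢
    rw [div_pow, pow_eq_one_of_mem_eig a1.isCharacter (a := c) (g := ⟨x, h3⟩) (by simp [hc, d1])
      (Subtype.ext e), pow_eq_one_of_mem_eig a2 (a := c₂) (g := ⟨x, h3⟩) (by simp [e1])
      (Subtype.ext e), div_one])
  have g8 : (q' ^ j') ^ 2 ≠ 1 := fun e => f9 (by
    rw [← pow_mul] at e ⊢
    exact pow_eq_one_of_mem_eig a1.isCharacter (by simp [f6]) e)
  have g9 : PE 5 ((q' ^ j') ^ 2) := (PE.pow ⟨k', hk'⟩ _).pow _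
  obtain ⟨g, hg⟩ := h.exists_ne g7 ((hx.pow _).pow _)
  obtain ⟨t, ht⟩ := h.exists_count (x := ((q' ^ j') ^ 2 : L)) (pe_coe.2 g9)
    (fun e => g8 (Subtype.ext e)) ((hx.pow _).pow _) (((hx.pow _).pow _).conj g)
    (by simpa using g6 1) (g6 g) hg
  obtain ⟨i1, i2⟩ := a8 _ (pow_mem (pow_mem f2 _) _) g9 g8
  rw [a3, eig_of_mem_charKer a2 (a5 (pow_mem (pow_mem f2 _) _)), count_add, count_replicate] at ht
  have := nodup_iff_count_le_one.1 i1 t
  split_ifs at ht with e
  · rw [← e, count_eq_zero_of_notMem (i2 (by omega))] at ht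
    omega
  · omega

theorem mem_sylow {y : G} (hy : PE p y) (P : Sylow p G) (hc : ∀ u ∈ (P : Subgroup G), u * y = y * u) :
    y ∈ (P : Subgroup G) :=
  hy.mem_sylow P (centralizer_le_normalizer _ hc)

theorem comm_of_commute {P : Sylow p G} (hP : p ^ 2 ∣ Nat.card P) {g x k : G} (hg : g ∉ center G)
    (hx : x ∈ (P : Subgroup G)) (h1 : x ≠ 1) (hk : PE p k) (hxg : Commute x g) (hkg : Commute k g) :
    x * k = k * x := by
  classical
  by_contra e
  have hab := h.irr.isCharacter.comm_of_isPGroup h.faith hp.out (by have := h.deg; omega) P.isPGroup'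
  have hx' := pe_of_mem P.isPGroup' hx
  have h2 : centralizer ({g} : Set G) ≠ ⊤ := fun e => hg (mem_center_iff.2 fun y =>
    mem_centralizer_singleton_iff.1 (e ▸ mem_top y))
  have m1 : x ∈ ({x, k} : Set G) := by simp
  have m2 : k ∈ ({x, k} : Set G) := by simp
  obtain ⟨θ, ψ, a1, a2, a3, a4, a5, a6, -, a7, a8⟩ := h.sub (T := {x, k}) (by
    rintro _ (rfl | rfl)
    exacts [hx', hk]) (ne_top_of_le_ne_top h2 ((closure_le _).2 (by
      rintro _ (rfl | rfl)
      exacts [mem_centralizer_singleton_iff.2 hxg, mem_centralizer_singleton_iff.2 hkg]))) m1 m2 e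
  obtain ⟨r, b1, q, b2, b3, b4, b5⟩ := a7 ⟨x, subset_closure m1⟩ (pe_coe.1 hx')
  obtain rfl : r = 1 := by_contra fun e' => e (h.ti (pe_coe.2 b3) (fun e => e' (Subtype.ext e)) hx' hk
    (congrArg Subtype.val (mem_center_iff.1 b1 ⟨_, subset_closure m1⟩))
    (congrArg Subtype.val (mem_center_iff.1 b1 ⟨_, subset_closure m2⟩)))
  rw [one_mul] at b5
  subst b5
  obtain ⟨b6, b7⟩ := a8 _ b2 b4 fun e => h1 (congrArg Subtype.val e)
  have b8 : p ≤ 2 * card ((eig χ x).filter fun a => (eig χ x).count a = 1) + 1 := by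
    have b9 : (eig θ ⟨x, subset_closure m1⟩).erase 1 ≤
        (eig χ x).filter fun a => (eig χ x).count a = 1 := by
      rw [le_filter, a3 ⟨x, subset_closure m1⟩, eig_of_mem_charKer a2 (a5 b2)]
      refine ⟨(erase_le _ _).trans (le_add_right _ _), fun t ht => ?_⟩
      rw [b6.mem_erase_iff] at ht
      rw [count_add, count_replicate, if_neg ht.1.symm, count_eq_one_of_mem b6 ht.2]
    have b10 := card_le_card b9
    obtain ⟨l, hl⟩ := hp.out.odd_of_ne_two (by have := h.five; omega)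
    by_cases e1 : (1 : ℂ) ∈ eig θ ⟨x, subset_closure m1⟩
    · rw [card_erase_of_mem e1, card_eig a1.isCharacter, Nat.pred_eq_sub_one] at b10
      have : 2 * charDegree θ + 1 ≠ p := fun e2 => b7 e2 e1
      omega
    · rw [erase_of_notMem e1, card_eig a1.isCharacter] at b10
      omega
  have c1 : (P : Subgroup G) ≤ centralizer {g} := fun y hy => mem_centralizer_singleton_iff.2 (by
    by_contra e1
    have c2 := pe_of_mem P.isPGroup' hy
    have c3 : Commute y x := hab y hy x hx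
    have c4 : Commute (g * y⁻¹ * g⁻¹) x := (hxg.symm.mul_left c3.inv_left).mul_left hxg.symm.inv_left
    have c5 := c2.mul (c2.inv.conj g) (h.ti hx' h1 c2 (c2.inv.conj g) c3 c4)
    have c6 := card_simple_le h.irr.isCharacter c3 hxg.symm
    simp only [← mul_assoc] at c5
    obtain ⟨-, r, -, a, b, -, -, d1, -, d2, d3, d4, d5, d6, d7, -⟩ := h.key c5
      (fun e => e1 (commutatorElement_eq_one_iff_mul_comm.1 e)) (c := 1) (by omega)
    exact d7 (h.ti d1 d2 d3 d4 d5 d6))
  have c2 : pCore p (centralizer ({g} : Set G)) ≠ ⊥ := fun e => h.ih _ h2 (by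
    rw [e, index_bot]
    exact hP.trans (card_dvd_of_le c1))
  obtain ⟨⟨r, hr⟩, c3⟩ := (ne_bot_iff_exists_ne_one.1 c2)
  have c4 : ∀ {y}, PE p y → Commute y g → Commute y r := fun {y} hy hy' => (congrArg Subtype.val
    (comm_pCore (h.irr.isCharacter.restrict _) (by
      rw [h.irr.isCharacter.charKer_restrict, h.faith, bot_subgroupOf]) (by
        rw [charDegree_restrict]; have := h.deg; omega) hr
          (y := ⟨y, mem_centralizer_singleton_iff.2 hy'⟩) (pe_coe.1 hy))).symm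
  exact e (h.ti (pe_coe.2 (pe_of_mem (isPGroup_pCore p) hr)) (fun e => c3 (Subtype.ext
    (Subtype.ext e))) hx' hk (c4 hx' hxg) (c4 hk hkg))

theorem not_dvd (hG : PGen p G) : ¬ p ^ 2 ∣ Nat.card G := fun hd => by
  haveI := Fintype.ofFinite G
  obtain ⟨P⟩ : Nonempty (Sylow p G) := inferInstance
  have hP : p ^ 2 ∣ Nat.card P := (Nat.Coprime.pow_left 2 ((Nat.Prime.coprime_iff_not_dvd hp.out).2
    P.not_dvd_index)).dvd_of_dvd_mul_right (by rwa [card_mul_index])
  have hab := h.irr.isCharacter.comm_of_isPGroup h.faith hp.out (by have := h.deg; omega) P.isPGroup'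
  have h1 := linFT_card_lt P hab (eq_bot_iff.2 fun x hx => by_contra fun e =>
    h.notMem_center (pe_of_mem P.isPGroup' hx.1) e hx.2) (fun g hg a x hx k hk h1 h2 h3 h4 => ?_)
    (fun M hM hPM => hG M hM fun y hy => ?_) h.irr h.ne
  · have := Nat.le_of_dvd Nat.card_pos hP
    have := Nat.pow_le_pow_left (show 1 + charDegree χ ≤ p by have := h.deg; omega) 2
    omega
  · have hk' := (pe_of_mem P.isPGroup' hk).conj a
    have h5 := h.comm_of_commute hP hg hx h1 hk' h3 h4
    have h6 : ∀ u ∈ (P : Subgroup G), u * (a * k * a⁻¹) = a * k * a⁻¹ * u := fun u hu =>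
      h.ti (pe_of_mem P.isPGroup' hx) h1 (pe_of_mem P.isPGroup' hu) hk' (hab u hu x hx) h5.symm
    refine mem_normalizer_fintype fun y hy => h.mem_sylow ((pe_of_mem P.isPGroup' hy).conj a) P
      fun u hu => h.ti hk' (by simpa using h2) (pe_of_mem P.isPGroup' hu)
        ((pe_of_mem P.isPGroup' hy).conj a) (h6 u hu) ?_
    exact (show Commute y k from hab y hy k hk).map (MulAut.conj a)
  · obtain ⟨Q, hQ⟩ := hy.isPGroup.exists_le_sylow
    obtain ⟨g, rfl⟩ := MulAction.exists_smul_eq G P Q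
    obtain ⟨u, hu, rfl⟩ := hQ (mem_zpowers y)
    exact hM.conj_mem u (hPM hu) g

end Min

theorem not_sq_dvd_aux (h5 : 5 ≤ p) (n : ℕ) : ∀ (G : Type u) [Group G] [Finite G] (χ : G → ℂ),
    Nat.card G = n → IsCharacter G χ → charKer χ = ⊥ → charDegree χ + 2 ≤ p →
      ¬ p ^ 2 ∣ (pCore p G).index := by
  induction n using Nat.strong_induction_on with | _ n ih => ?_
  intro G _ _ χ hn hχ hf hd
  have h1 : ∀ {φ : G → ℂ}, IsCharacter G φ → charKer φ = ⊥ → charDegree φ + 2 ≤ p →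
      ∀ H : Subgroup G, H ≠ ⊤ → ¬ p ^ 2 ∣ (pCore p H).index := fun hφ hf hd H hH =>
    ih _ (hn ▸ (card_le_card_group H).lt_of_ne fun e => hH (eq_top_of_card_eq H e)) H _ rfl
      (hφ.restrict H) (by rw [hφ.charKer_restrict, hf, bot_subgroupOf]) hd
  by_cases hG : PGen p G
  swap
  · simp only [PGen, not_forall] at hG
    obtain ⟨M, _, h2, h3⟩ := hG
    obtain ⟨P⟩ : Nonempty (Sylow p G) := inferInstance
    refine fun e => h1 hχ hf hd M h3 ((Nat.Coprime.pow_left 2 ((Nat.Prime.coprime_iff_not_dvd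
      hp.out).2 fun e => P.not_dvd_index (e.trans (index_dvd_of_le
        fun y hy => h2 y (pe_of_mem P.isPGroup' hy))))).dvd_of_dvd_mul_right ?_)
    rw [← index_map_subtype]
    exact e.trans (index_dvd_of_le (le_pCore ((isPGroup_pCore p).map _)))
  by_cases hc : ∀ a b : G, a * b = b * a
  · rw [pCore_eq_top_iff.2 (hG.pe_of_comm hc), index_top, Nat.dvd_one]
    exact (Nat.one_lt_pow two_ne_zero hp.out.one_lt).ne'
  obtain ⟨θ, ψ, μ, hθ, hψ, rfl, -, h2, -, h3, -⟩ := hG.split hχ hf hd hc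
  have h4 := hθ.isCharacter.charDegree_add hψ
  have h6 := hθ.mul_monoidHom μ
  have h7 : charDegree (fun g => θ g * μ g) = charDegree θ := charDegree_congr (by simp)
  by_cases h8 : pCore p G = ⊥
  · rw [h8, index_bot]
    exact Min.not_dvd ⟨h5, h6, h3.trans h8, h7 ▸ h2, by omega, h8,
      h1 h6.isCharacter (h3.trans h8) (by omega)⟩ hG
  obtain ⟨φ, a1, a2, a3⟩ := h6.exists_faithful_quotient _ h3.symm
  have a4 : charDegree φ = charDegree θ := charDegree_congr (by simpa using (congrFun a3 1).symm)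
  have := ih _ (hn ▸ card_quotient_lt h8) _ φ rfl a1.isCharacter a2 (by omega)
  rwa [pCore_quotient_pCore, index_bot] at this

/-- Feit's theorem. -/
theorem not_sq_dvd (h5 : 5 ≤ p) (hχ : IsCharacter G χ) (hf : charKer χ = ⊥)
    (hd : charDegree χ + 2 ≤ p) : ¬ p ^ 2 ∣ (pCore p G).index :=
  not_sq_dvd_aux h5 _ G χ rfl hχ hf hd

end Cfsg.Agent.Blk.Lin
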