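import Mathlib
import Cfsg.Agent.Blk.LinRed
import Cfsg.Agent.Ch.RealChar

/-!
# Irreducible linear groups of degree at most `p - 2`: reduction to Sylow subgroups of order `p`
-/

set_option autoImplicit false
set_option linter.unusedSectionVars false
set_option linter.style.haveILetI false

namespace Cfsg.Agent.Blk.Lin

open Cfsg Cfsg.Agent.Ch Subgroup Cfsg.Agent.Blk.One Cfsg.Agent.GT

variable {G : Type*} [Group G] {p : ℕ} {χ : G → ℂ}

theorem comap_center {K : Subgroup G} [K.Normal] (h : K ⊓ commutator G = ⊥) :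
    (center (G ⧸ K)).comap (QuotientGroup.mk' K) = center G := by
  refine le_antisymm (fun z hz => mem_center_iff.2 fun g => ?_)
    fun z hz => mem_comap.2 (mem_center_iff.2 fun g => ?_)
  · exact commutatorElement_eq_one_iff_mul_comm.1 (mem_bot.1 (h ▸ ⟨(QuotientGroup.eq_one_iff _).1
      (commutatorElement_eq_one_iff_mul_comm.2 (mem_center_iff.1 (mem_comap.1 hz) (g : G ⧸ K))),
      commutator_mem_commutator (mem_top g) (mem_top z)⟩))
  · obtain ⟨g, rfl⟩ := QuotientGroup.mk_surjective g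
    exact congrArg QuotientGroup.mk (mem_center_iff.1 hz g)

theorem quot_center_equiv {K : Subgroup G} [K.Normal] (h : K ⊓ commutator G = ⊥) :
    Nonempty (G ⧸ center G ≃* (G ⧸ K) ⧸ center (G ⧸ K)) :=
  ⟨(QuotientGroup.quotientMulEquivOfEq (N := ((QuotientGroup.mk' (center (G ⧸ K))).comp
      (QuotientGroup.mk' K)).ker) (by
    rw [← MonoidHom.comap_ker, QuotientGroup.ker_mk', comap_center h])).trans
    (QuotientGroup.quotientKerEquivOfSurjective _
      ((QuotientGroup.mk'_surjective _).comp (QuotientGroup.mk'_surjective _)))⟩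

theorem prod_of_quot {K : Subgroup G} [K.Normal] (h : K ⊓ commutator G = ⊥) {L A : Type*}
    [Group L] [CommGroup A] (hL : commutator L = ⊤) (hZ : center L = ⊥) (e : G ⧸ K ≃* L × A) :
    Nonempty (G ≃* L × center G) := by
  set ξ := (MonoidHom.fst L A).comp (e.toMonoidHom.comp (QuotientGroup.mk' K)) with hξ
  have hs : Function.Surjective ξ :=
    Prod.fst_surjective.comp (e.surjective.comp (QuotientGroup.mk'_surjective _))
  have hk : ξ.ker = center G := le_antisymm (fun z hz => comap_center h ▸ mem_center_iff.2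
    fun g => e.injective (by
      rw [map_mul, map_mul]
      exact Prod.ext (by rw [Prod.fst_mul, Prod.fst_mul, show (e _).1 = 1 from hz, mul_one, one_mul])
        (mul_comm _ _))) fun z hz => mem_bot.1 (hZ ▸ mem_center_iff.2 fun l => by
      obtain ⟨g, rfl⟩ := hs l
      rw [← map_mul, mem_center_iff.1 hz, map_mul])
  have h6 : commutator G ⊓ center G = ⊥ := eq_bot_iff.2 fun g hg => h ▸
    ⟨(QuotientGroup.eq_one_iff g).1 (e.injective (by
      rw [map_one]
      exact Prod.ext (hk.ge hg.2) (Abelianization.commutator_subset_ker ((MonoidHom.snd L A).comp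
        (e.toMonoidHom.comp (QuotientGroup.mk' K))) hg.1))), hg.1⟩
  have h7 : (commutator G).map ξ = ⊤ := by
    rw [map_commutator_eq, MonoidHom.range_eq_top.2 hs]
    exact hL
  have hK : commutator G ⊔ center G = ⊤ := by rw [← hk, ← comap_map_eq, h7, comap_top]
  obtain ⟨e1⟩ := Frob.nonempty_sup_equiv_prod (M := commutator G) (L := center G)
    (center_le_centralizer _) h6
  have h8 : Function.Bijective (ξ.comp (commutator G).subtype) := by
    refine ⟨(MonoidHom.ker_eq_bot_iff _).1 ?_, fun y => ?_⟩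
    · rw [← MonoidHom.comap_ker, hk, comap_subtype, ← inf_subgroupOf_right, inf_comm, h6,
        bot_subgroupOf]
    · obtain ⟨c, hc, rfl⟩ := h7.ge (mem_top y)
      exact ⟨⟨c, hc⟩, rfl⟩
  exact ⟨(topEquiv.symm.trans (MulEquiv.subgroupCongr hK.symm)).trans
    (e1.trans ((MulEquiv.ofBijective _ h8).prodCongr (MulEquiv.refl _)))⟩

variable [hp : Fact p.Prime] [Finite G]

theorem pCore_le_center (hχ : IsIrrCharacter G χ) (hf : charKer χ = ⊥) (hd : charDegree χ + 2 ≤ p)
    {P : Sylow p G} (hn : ¬ (P : Subgroup G).Normal) : pCore p G ≤ center G := by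
  haveI := Fintype.ofFinite G
  haveI hM : (closure {y : G | PE p y}).Normal := ⟨fun n hn g => closure_induction
    (fun y hy => subset_closure (PE.conj hy g)) (by simp)
    (fun a b _ _ ha hb => by simpa [mul_assoc] using mul_mem ha hb)
    (fun a _ ha => by simpa [mul_assoc] using inv_mem ha) hn⟩
  have h1 : PGen p (closure {y : G | PE p y}) := pGen_closure fun y hy => hy
  have h2 : ∀ y, PE p y → y ∈ closure {y : G | PE p y} := fun y hy => subset_closure hy
  have h3 : ∀ r ∈ pCore p G, r ∈ centralizer (closure {y : G | PE p y} : Set G) := fun r hr => by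
    rw [centralizer_closure]
    exact fun y hy => (comm_pCore hχ.isCharacter hf (by omega) hr hy).symm
  generalize closure {y : G | PE p y} = M at *
  haveI := Fintype.ofFinite M
  have hc : ¬ ∀ a b : M, a * b = b * a := fun e => hn (by
    rwa [← P.is_maximal' (h1.pe_of_comm e) fun y hy => h2 y (pe_of_mem P.isPGroup' hy)])
  have h4 := hχ.isCharacter.restrict M
  obtain ⟨θ, ψ, -, hθ, hψ, h5, h6, -⟩ := h1.split h4
    (by rw [hχ.isCharacter.charKer_restrict, hf, bot_subgroupOf]) (by rwa [charDegree_restrict]) hc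
  refine fun r hr => Setup.centralizer_le_center hχ.isCharacter hf ?_ (h3 r hr)
  by_cases h7 : ψ = 0
  · rwa [h5, h7, add_zero]
  obtain ⟨φ, hφ, h8⟩ := hψ.exists_irr_constituent h7
  have h9 := RC.le_charKer_of_constituent hχ (M := ⁅M, M⁆) (commutator_le_left M M) hφ
    (by rw [h5]; exact (hθ.isCharacter.classInner_add_ne_zero_iff hψ hφ.isCharacter).2 (Or.inr h8))
    fun m hm => apply_eq_of_mem_charKer (hψ.mem_charKer_iff_forall_constituent.1 (h6 (by
      rw [← map_subtype_commutator] at hm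
      obtain ⟨y, hy, rfl⟩ := hm
      exact hy)) φ hφ h8)
  exact (hc fun a b => Subtype.ext (commutatorElement_eq_one_iff_mul_comm.1
    (mem_bot.1 (hf ▸ h9 (commutator_mem_commutator a.2 b.2))))).elim

theorem reduce (h5 : 5 ≤ p) (hχ : IsIrrCharacter G χ) (hf : charKer χ = ⊥)
    (hd : charDegree χ + 2 ≤ p) {P : Sylow p G} (hn : ¬ (P : Subgroup G).Normal) :
    ∃ (K : Subgroup G) (_ : K.Normal) (_ : Fintype (G ⧸ K)) (φ : G ⧸ K → ℂ) (S : Setup p (G ⧸ K)),
      K ⊓ commutator G = ⊥ ∧ IsIrrCharacter _ φ ∧ charKer φ = ⊥ ∧ charDegree φ = charDegree χ ∧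
        S.N ≠ ⊤ := by
  haveI := Fintype.ofFinite G
  obtain ⟨n, hn'⟩ := (isPGroup_pCore (G := G) p).exists_card_eq
  obtain ⟨μ, hμ⟩ := One.exists_twist hχ (n := p ^ n) (pow_pos hp.out.pos n) (Nat.Coprime.pow_right n
    (Nat.coprime_of_lt_prime hχ.charDegree_pos.ne' (by omega) hp.out).symm)
  have h1 := hχ.mul_monoidHom μ
  have h2 : pCore p G ≤ charKer fun g => χ g * μ g := fun s hs => h1.mem_charKer.2 (by
    rw [hμ s (hχ.center_le_charCenter (pCore_le_center hχ hf hd hn hs))
      (hn' ▸ congrArg Subtype.val (pow_card_eq_one' (x := (⟨s, hs⟩ : pCore p G))))]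
    simp)
  have h3 : (charKer fun g => χ g * μ g) ⊓ commutator G = ⊥ := eq_bot_iff.2 fun s hs =>
    eq_one_of_twist (ψ := 0) hχ.isCharacter (by rwa [add_zero]) (fun g _ => by simp [charKer]) μ hs.2
      (by simpa using apply_eq_of_mem_charKer hs.1)
  haveI := h1.isClassFunction.charKer_normal
  obtain ⟨φ, a1, a2, a3⟩ := h1.exists_faithful_quotient _ rfl
  generalize (charKer fun g => χ g * μ g) = K at *
  haveI := Fintype.ofFinite (G ⧸ K)
  have a4 : charDegree φ = charDegree χ := charDegree_congr (by simpa using (congrFun a3 1).symm)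
  have a5 : ¬ p ^ 2 ∣ Nat.card (G ⧸ K) := fun e =>
    not_sq_dvd h5 hχ.isCharacter hf hd (e.trans (index_dvd_of_le h2))
  have a6 : ¬ ((P.mapSurjective (QuotientGroup.mk'_surjective K) : Sylow p _) :
      Subgroup (G ⧸ K)).Normal := fun e => hn ⟨fun y hy g => by
    obtain ⟨u, hu, e⟩ := e.conj_mem _ (mem_map_of_mem _ hy) (g : G ⧸ K)
    refine ((pe_of_mem P.isPGroup' hy).conj g).mem_sylow P ?_
    rw [← mul_inv_cancel_left u (g * y * g⁻¹)]
    exact mul_mem (le_normalizer hu) (center_le_normalizer _ (le_center_of_inf h3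
      (QuotientGroup.eq.1 e)))⟩
  generalize P.mapSurjective (QuotientGroup.mk'_surjective K) = Q at a6
  obtain ⟨k, hk⟩ := Q.isPGroup'.exists_card_eq
  obtain ⟨S, hS⟩ := exists_setup_of_sylow Q (by
    rcases k with _ | _ | k
    · exact (a6 (by rw [eq_bot_of_card_eq _ hk]; infer_instance)).elim
    · rw [hk, zero_add, pow_one]
    · exact (a5 ((pow_dvd_pow p (by omega)).trans (hk ▸ card_subgroup_dvd_card _))).elim) a6
  exact ⟨K, inferInstance, inferInstance, φ, S, h3, a1, a2, a4, hS⟩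

theorem exists_gen {G : Type*} [Group G] [Fintype G] {S : Setup p G} {ζ : G → ℂ} {i : (ZMod p)ˣ}
    (h : S.Low ζ i) (hN : S.N ≠ ⊤) (hf : charKer ζ = ⊥) (hd : charDegree ζ + 2 ≤ p)
    (he : 2 * S.ee + 1 ≤ p) : ∃ (H : Subgroup G) (_ : Fintype H) (T : Setup p H) (j : (ZMod p)ˣ),
      T.Gen ∧ T.N ≠ ⊤ ∧ T.ee = S.ee ∧ T.Low (fun h : H => ζ h) j ∧
        charKer (fun h : H => ζ h) = ⊥ ∧ Nonempty (H ⧸ center H ≃* G ⧸ center G) := by
  haveI := Fintype.ofFinite S.H
  have hV := (Setup.Vr_eq_center hN h hf).le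
  have h1 := h.irr.isCharacter.restrict S.H
  have h2 : charKer (fun h : S.H => ζ h) = ⊥ := by
    rw [h.irr.isCharacter.charKer_restrict, hf, bot_subgroupOf]
  have hN' := S.sub_N_ne_top hN
  obtain ⟨ψ, hψ, h3, h4⟩ := Setup.Gen.exists_irr hN' h1 h2
  have h5 := h1.charDegree_irr_le hψ h3
  have h6 := S.ee_sub_le_ee S.H S.x_mem_H
  have h7 := h.deg
  rw [charDegree_restrict] at h5
  rcases S.gen_H.low_cases hN' (fun v hv => by
    rw [Setup.mem_V] at hv
    exact mem_center_iff.2 fun g => Subtype.ext (mem_center_iff.1 (hV (S.mem_V.2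
      ⟨hv.1, by simpa using hv.2⟩)) g)) hψ h4 (by omega) with ⟨j, hj⟩ | ⟨e1, e2⟩
  swap
  · have := (Nat.dvd_add_right (dvd_refl _)).1
      (show charDegree ζ = charDegree ψ + 1 by omega ▸ charDegree_dvd_of_under h.irr hψ h3)
    exact (h4 (Nat.dvd_one.1 this)).elim
  have h8 := hj.deg
  have h9 := h1.eq_irr_of_apply_one hψ h3 (by
    rw [← h1.coe_charDegree, ← hψ.coe_charDegree, charDegree_restrict, Nat.cast_inj]; omega)
  refine ⟨S.H, inferInstance, _, j, S.gen_H, hN', by omega, h9 ▸ hj, h2,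
    Setup.quot_center_of_sup ?_⟩
  haveI := Fintype.ofFinite (S.H ⊔ center G : Subgroup G)
  refine S.eq_top_of_relIndex _ (mem_sup_left S.x_mem_H) (Setup.C_le hV S.x_mem_H) ?_
  have e1 := S.ee_sub_le_ee (S.H ⊔ center G) (mem_sup_left S.x_mem_H)
  have e2 := (S.sub (S.H ⊔ center G) (mem_sup_left S.x_mem_H)).ee_pos
  have e3 := relIndex_le_of_le_right (H := S.C) (inf_le_inf_left S.N (le_sup_left (b := center G)))
    (S.ee_sub (S.H ⊔ center G) (mem_sup_left S.x_mem_H) ▸ e2.ne')
  rw [← S.ee_sub _ S.x_mem_H, ← S.ee_sub (S.H ⊔ center G) (mem_sup_left S.x_mem_H)] at e3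
  change (S.sub _ _).ee = S.ee
  omega

end Cfsg.Agent.Blk.Lin
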