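import Mathlib
import Cfsg.Agent.Blk.LinGen
import Cfsg.Agent.Blk.BrauerSuzuki
import Cfsg.Agent.Ch.ClassMult

/-!
# Blocks over a central character when the centralizer of the Sylow subgroup is `P × Z(G)`
-/

set_option autoImplicit false
set_option linter.unusedSectionVars false
set_option linter.style.haveILetI false

namespace Cfsg.Agent.Blk.One

open Cfsg Cfsg.Agent.Ch Subgroup Cfsg.Agent.Blk.Om Cfsg.Agent.GT Cfsg.Agent.Blk.Lin
open scoped ComplexConjugate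

theorem eq_zero_of_sq_eq {n a b : ℤ} (hn : ¬ IsSquare n) (h : b ^ 2 = n * a ^ 2) : a = 0 := by
  by_contra h0
  obtain ⟨q, rfl⟩ := (Int.pow_dvd_pow_iff two_ne_zero).1 (Dvd.intro_left n h.symm)
  exact hn ⟨q, mul_right_cancel₀ (pow_ne_zero 2 h0) (by linear_combination -h)⟩

theorem prop_of_not_isSquare {a b c x y z : ℤ} (hb : b ≠ 0) (hc : c ≠ 0)
    (h : (x + y + z) ^ 2 * (a * b * c) =
      (a + b + c) * (x ^ 2 * (b * c) + y ^ 2 * (a * c) + z ^ 2 * (a * b)))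
    (hn : ¬ IsSquare (-((a + b + c) * (a * b * c)))) :
    (b + c) * y = b * (y + z) ∧ (b + c) * (x + y + z) = (a + b + c) * (y + z) := by
  have h1 : (((b + c) * (x + y + z) - (a + b + c) * (y + z)) * (b * c)) ^ 2 =
      -((a + b + c) * (a * b * c)) * ((b + c) * y - b * (y + z)) ^ 2 := by
    linear_combination -(b + c) * (b * c) * h
  have h2 := eq_zero_of_sq_eq hn h1
  rw [h2, sq, sq, mul_zero, mul_zero, mul_self_eq_zero, mul_eq_zero] at h1
  exact ⟨sub_eq_zero.1 h2, sub_eq_zero.1 (h1.resolve_right (mul_ne_zero hb hc))⟩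

theorem exists_int_sum {σ : ℂ} (s : Multiset ℂ) (h : ∀ t ∈ s, t ^ 2 = σ ^ 2) :
    ∃ n : ℤ, s.sum = σ * n ∧ n % 2 = s.card % 2 ∧ |n| ≤ s.card := by
  induction s using Multiset.induction_on with
  | empty => exact ⟨0, by simp, by simp, by simp⟩
  | cons a s ih =>
    obtain ⟨n, h1, h2, h3⟩ := ih fun t ht => h t (Multiset.mem_cons_of_mem ht)
    rw [abs_le] at h3
    simp only [Multiset.sum_cons, Multiset.card_cons, h1, abs_le]
    rcases sq_eq_sq_iff_eq_or_eq_neg.1 (h a (Multiset.mem_cons_self a s)) with e | e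
    · exact ⟨n + 1, by rw [e]; push_cast; ring, by omega, by omega⟩
    · exact ⟨n - 1, by rw [e]; push_cast; ring, by omega, by omega⟩

theorem exists_sorted_three {ι : Type*} [DecidableEq ι] {X : Finset ι} (h : X.card = 3)
    (f : ι → ℤ) : ∃ a b c, a ≠ b ∧ a ≠ c ∧ b ≠ c ∧ X = {a, b, c} ∧ f a ≤ f b ∧ f b ≤ f c := by
  obtain ⟨a, b, c, h1, h2, h3, rfl⟩ := Finset.card_eq_three.1 h
  rcases le_total (f a) (f b) with e1 | e1 <;> rcases le_total (f b) (f c) with e2 | e2 <;>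
    rcases le_total (f a) (f c) with e3 | e3
  · exact ⟨a, b, c, h1, h2, h3, rfl, e1, e2⟩
  · exact ⟨a, b, c, h1, h2, h3, rfl, e1, e2⟩
  · exact ⟨a, c, b, h2, h1, h3.symm, by ext; simp; tauto, e3, e2⟩
  · exact ⟨c, a, b, h2.symm, h3.symm, h1, by ext; simp; tauto, e3, e1⟩
  · exact ⟨b, a, c, h1.symm, h3, h2, by ext; simp; tauto, e1, e3⟩
  · exact ⟨b, c, a, h3, h1.symm, h2.symm, by ext; simp; tauto, e2, e3⟩
  · exact ⟨c, b, a, h3.symm, h2.symm, h1.symm, by ext; simp; tauto, e2, e1⟩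
  · exact ⟨c, b, a, h3.symm, h2.symm, h1.symm, by ext; simp; tauto, e2, e1⟩

variable {G : Type*} [Group G] {p : ℕ} [hp : Fact p.Prime] [Fintype G] {χ : G → ℂ}

theorem irr_one (χ : IrrCharacter G) : (χ : G → ℂ) 1 = charDegree (χ : G → ℂ) :=
  χ.2.coe_charDegree.symm

theorem exists_int_val (hχ : IsCharacter G χ) {g : G} {σ : ℂ}
    (h : ∀ y, χ (g * g * y) = σ ^ 2 * χ y) :
    ∃ n : ℤ, χ g = σ * n ∧ n % 2 = charDegree χ % 2 ∧ |n| ≤ charDegree χ := by
  have h1 : eig χ (g ^ 2) = Multiset.replicate (charDegree χ) (σ ^ 2) := eig_of_scalar fun m => by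
    induction m with
    | zero => simp [hχ.coe_charDegree]
    | succ m ih => rw [pow_succ', sq g, h, ← sq, ih]; ring
  rw [eig_pow hχ] at h1
  obtain ⟨n, h2, h3⟩ := exists_int_sum (σ := σ) (eig χ g) fun t ht =>
    Multiset.eq_of_mem_replicate (h1 ▸ Multiset.mem_map_of_mem _ ht)
  rw [card_eig hχ] at h3
  exact ⟨n, by simpa [h2] using eig_spec hχ g 1, h3⟩

theorem four_dvd_of_vanish (hχ : IsCharacter G χ) {g h : G} {σ τ : ℂ} (hσ : σ ≠ 0) (hτ : τ ≠ 0)
    (hg : ∀ y, χ (g * g * y) = σ ^ 2 * χ y) (hh : ∀ y, χ (h * h * y) = τ ^ 2 * χ y)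
    (hc : g * h * g⁻¹ * h⁻¹ ∈ charKer χ) (h1 : χ g = 0) (h2 : χ h = 0) (h3 : χ (g * h) = 0) :
    4 ∣ charDegree χ := by
  obtain ⟨ρ, hρ⟩ := hχ.exists_rep
  have h4 : ∀ {g : G} {σ : ℂ}, σ ≠ 0 → (∀ y, χ (g * g * y) = σ ^ 2 * χ y) →
      (σ⁻¹ • ρ g) * (σ⁻¹ • ρ g) = 1 := fun {g σ} hσ hg => by
    rcases Nat.eq_zero_or_pos (charDegree χ) with e | e
    · haveI : IsEmpty (Fin (charDegree χ)) := e ▸ inferInstance
      exact Subsingleton.elim _ _
    have a1 := hg 1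
    rw [mul_one, ← hχ.coe_charDegree] at a1
    have a0 : g * g ∈ charCenter χ := by
      refine mem_charCenter_of_eig hχ (c := σ ^ 2) fun t ht =>
        Multiset.eq_of_mem_replicate (n := charDegree χ) ?_
      rwa [eig_of_scalar (c := σ ^ 2) (d := charDegree χ) fun m => ?_] at ht
      induction m with
      | zero => simp [hχ.coe_charDegree]
      | succ m ih => rw [pow_succ', hg, ih]; ring
    obtain ⟨c, hc⟩ := (mem_charCenter_character ρ (g * g)).1 (by rw [hρ]; exact a0)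
    have a2 : ρ.character (g * g) = c * charDegree χ := by simp [Representation.character, hc]
    rw [hρ, a1] at a2
    rw [smul_mul_smul_comm, ← map_mul, hc, ← mul_right_cancel₀ (Nat.cast_ne_zero.2 e.ne') a2,
      smul_smul, show σ⁻¹ * σ⁻¹ * σ ^ 2 = 1 by field_simp, one_smul]
    rfl
  have h5 : ρ g * ρ h = ρ h * ρ g := by
    rw [← hρ, charKer_character, MonoidHom.mem_ker] at hc
    rw [← map_mul, show g * h = g * h * g⁻¹ * h⁻¹ * (h * g) by group, map_mul, hc, one_mul, map_mul]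
  set a := σ⁻¹ • ρ g
  set b := τ⁻¹ • ρ h
  have h6 : a * b = b * a := by simp only [a, b, smul_mul_smul_comm, h5, mul_comm σ⁻¹]
  have h7 : IsIdempotentElem ((4 : ℂ)⁻¹ • (1 + a + b + a * b)) := by
    have a1 : b * (a * b) = a := by rw [← mul_assoc, ← h6, mul_assoc, h4 hτ hh, mul_one]
    have a2 : a * (a * b) = b := by rw [← mul_assoc, h4 hσ hg, one_mul]
    have a3 : (1 + a + b + a * b) * (1 + a + b + a * b) = (4 : ℂ) • (1 + a + b + a * b) := by
      simp only [mul_add, add_mul, mul_one, one_mul, mul_assoc, ← h6, a1, a2,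
        show a * a = 1 from h4 hσ hg, show b * b = 1 from h4 hτ hh]
      module
    rw [IsIdempotentElem, smul_mul_smul_comm, a3, smul_smul]
    norm_num
  obtain ⟨r, h8⟩ : ∃ r : ℕ, LinearMap.trace ℂ _ ((4 : ℂ)⁻¹ • (1 + a + b + a * b)) = r :=
    ⟨_, ((LinearMap.isProj_range_iff_isIdempotentElem _).2 h7).trace⟩
  have h9 : ∀ y, LinearMap.trace ℂ _ (ρ y) = χ y := fun y => congrFun hρ y
  simp only [a, b, map_smul, map_add, smul_mul_smul_comm, ← map_mul, h9, h1, h2, h3, smul_zero,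
    add_zero, LinearMap.trace_one, Module.finrank_fin_fun, smul_eq_mul, mul_zero] at h8
  exact ⟨r, by exact_mod_cast (show (charDegree χ : ℂ) = 4 * r by linear_combination 4 * h8)⟩

theorem pow_degree_eq_one (hG : commutator G = ⊤) (hχ : IsIrrCharacter G χ) (hf : charKer χ = ⊥)
    {z : G} (hz : z ∈ center G) : z ^ charDegree χ = 1 := by
  obtain ⟨c, hc⟩ := eig_center hχ hz
  have h1 := prod_eig hχ.isCharacter (hG ▸ mem_top z)
  have h2 := eig_spec hχ.isCharacter z (charDegree χ)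
  rw [hc, Multiset.prod_replicate] at h1
  rw [hc, Multiset.map_replicate, h1, Multiset.sum_replicate, nsmul_eq_mul, mul_one,
    hχ.coe_charDegree] at h2
  exact mem_bot.1 (hf ▸ hχ.mem_charKer.2 h2)

theorem apply_eq_zero_of_coprime (hχ : IsIrrCharacter G χ) (hf : charKer χ = ⊥) {g : G}
    (hg : g ∉ center G)
    (h : (charDegree χ).Coprime (centralizer ({(g : G ⧸ center G)} : Set _)).index) : χ g = 0 := by
  by_cases h1 : (centralizer ({(g : G ⧸ center G)} : Set _)).comap (QuotientGroup.mk' _) ≤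
      centralizer {g}
  · refine (hχ.eq_zero_or_mem_charCenter_of_coprime (h.coprime_dvd_right ?_)).resolve_right
      fun e => hg (hχ.isCharacter.charCenter_le_center hf e)
    rw [← index_comap_of_surjective _ (QuotientGroup.mk'_surjective _)]
    exact index_dvd_of_le h1
  obtain ⟨c, h2, h3⟩ := SetLike.not_le_iff_exists.1 h1
  have h4 : c * g * c⁻¹ * g⁻¹ ∈ center G := (QuotientGroup.eq_one_iff _).1
    (commutatorElement_eq_one_iff_mul_comm.2 (mem_centralizer_singleton_iff.1 h2))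
  have h5 := hχ.apply_mul_of_mem_center h4 g
  rw [inv_mul_cancel_right, hχ.isClassFunction.conj_eq] at h5
  by_contra h6
  exact h3 (mem_centralizer_singleton_iff.2 (commutatorElement_eq_one_iff_mul_comm.1
    (mem_bot.1 (hf ▸ hχ.mem_charKer.2 (mul_right_cancel₀ h6 h5).symm))))

theorem exists_central_involution {K : Type*} [Group K] [Finite K] (h : 2 ∣ Nat.card K) :
    ∃ g : K, g ≠ 1 ∧ g * g = 1 ∧ ∃ T : Sylow 2 K, (T : Subgroup K) ≤ centralizer {g} := by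
  obtain ⟨T⟩ : Nonempty (Sylow 2 K) := inferInstance
  haveI : Nontrivial T := (nontrivial_iff_ne_bot _).2 (T.ne_bot_of_dvd_card h)
  haveI := T.isPGroup'.center_nontrivial
  obtain ⟨k, h0, hk⟩ := (T.isPGroup'.to_subgroup (center T)).nontrivial_iff_card.1 inferInstance
  obtain ⟨g, hg⟩ := exists_prime_orderOf_dvd_card' (G := center T) 2 (hk ▸ dvd_pow_self 2 h0.ne')
  refine ⟨g, fun e => ?_, ?_, T, fun t ht => mem_centralizer_singleton_iff.2
    (congrArg Subtype.val (mem_center_iff.1 g.2 ⟨t, ht⟩))⟩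
  · rw [show g = 1 from Subtype.ext (Subtype.ext e), orderOf_one] at hg
    omega
  · have := pow_orderOf_eq_one g
    rw [hg, sq] at this
    exact_mod_cast congrArg (fun t : center T => ((t : T) : K)) this

theorem exists_four {K : Type*} [Group K] [Finite K] [IsSimpleGroup K] (h : 2 ∣ Nat.card K)
    (hZ : center K = ⊥) : ∃ s t : K, s ≠ 1 ∧ t ≠ 1 ∧ s * t ≠ 1 ∧ s * s = 1 ∧ t * t = 1 ∧
      s * t = t * s := by
  by_contra e
  push Not at e
  obtain ⟨z, hz⟩ := exists_prime_orderOf_dvd_card' (G := K) 2 h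
  have h1 := BS.commutator_mem_oddCore (fun s t hs ht hst => by_contra fun hne => by
    have a1 : ∀ {s : K}, orderOf s = 2 → s ≠ 1 ∧ s * s = 1 := fun {s} hs =>
      ⟨fun e => by rw [e, orderOf_one] at hs; omega, by rw [← sq, ← hs, pow_orderOf_eq_one]⟩
    exact e s t (a1 hs).1 (a1 ht).1 (fun e' => hne (mul_left_cancel ((a1 hs).2.trans e'.symm)))
      (a1 hs).2 (a1 ht).2 hst) hz
  rcases IsSimpleGroup.eq_bot_or_eq_top_of_normal (oddCore K) inferInstance with e1 | e1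
  · rw [show z = 1 from mem_bot.1 (hZ ▸ mem_center_iff.2 fun g =>
      (commutatorElement_eq_one_iff_mul_comm.1 (mem_bot.1 (e1 ▸ h1 g))).symm), orderOf_one] at hz
    omega
  · have := odd_card_oddCore (G := K)
    rw [e1, card_top] at this
    exact Nat.not_even_iff_odd.2 this (even_iff_two_dvd.2 h)

namespace Setup

variable (S : Setup p G)

/-- The block of full defect over the central character `ω`. -/
structure CB (ω : G → ℂ) where
  X : Finset (IrrCharacter G)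
  δ : IrrCharacter G → ℤ
  ε : ℤ
  Y : (ZMod p)ˣ → IrrCharacter G
  fam : S.Fam ω ε fun κ => Y κ
  card_X : X.card = S.ee
  sign : ∀ χ ∈ X, δ χ = 1 ∨ δ χ = -1
  valX : ∀ χ ∈ X, ∀ k : (ZMod p)ˣ, (χ : G → ℂ) (S.x ^ (k : ZMod p).val) = δ χ
  covX : ∀ χ ∈ X, ∀ v ∈ S.Vr, ∀ g, (χ : G → ℂ) (v * g) = ω v * (χ : G → ℂ) g
  reg : ∀ g, ¬ p ∣ orderOf g → ε * (Y 1 : G → ℂ) g = ∑ χ ∈ X, δ χ * (χ : G → ℂ) g
  notMem : ∀ κ, Y κ ∉ X
  sumY : ∀ [DecidableEq (IrrCharacter G)] (F : IrrCharacter G → ℂ),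
    ∑ κ, F (Y κ) = S.ee * ∑ ψ ∈ Finset.univ.image Y, F ψ

theorem exists_cb (hV : S.Vr ≤ center G) {ω : G → ℂ} (τ : S.C →* ℂˣ) (h0 : τ S.xc = 1)
    (hω : ∀ v : S.C, (v : G) ∈ S.Vr → (τ v : ℂ) = ω v) : Nonempty (S.CB ω) := by
  haveI := Fintype.ofFinite S.N
  obtain ⟨M, hM⟩ := exists_isPModular hp.out
  haveI := hM.isMaximal
  set θ := linIrr τ with hθ
  have h1 : S.Triv θ := by simp only [Triv, hθ, linIrr_apply, map_one, h0]
  obtain ⟨B, hB⟩ := S.exists_induced hM θ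
  obtain ⟨D, -⟩ := h1.exists_data' hM hB
  have hA : Nat.card (S.A θ) = S.ee := by
    rw [ee, ← S.card_A_mul_index_St θ, S.St_eq_top hV h1, index_top, mul_one]
  have he : (S.ee : ℂ) ≠ 0 := Nat.cast_ne_zero.2 S.ee_pos.ne'
  have h2 : ∀ (j : ZMod p) (k : (ZMod p)ˣ), ∀ v ∈ S.Vr, p ∣ orderOf (v * S.x ^ (k : ZMod p).val) ∧
      indFun S.C (S.lt j θ : S.C → ℂ) (v * S.x ^ (k : ZMod p).val) = ω v * S.gp (j * k) :=
    fun j k v hv => by
    obtain ⟨hC, hv'⟩ := S.mem_V.1 hv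
    have a1 : S.pr (⟨v, hC⟩ * S.xc ^ (k : ZMod p).val) = k := by
      rw [S.pr_mul, S.pr_xc_pow, S.pr_of_regular (by rwa [← orderOf_coe]), zero_add]
    have a2 := (S.pr_ne_zero_iff _).1 (a1 ▸ k.ne_zero)
    have a3 := indFun_singular_St (θ := θ) a2 j
    rw [a1] at a3
    simp only [fun n => S.mem_St.1 (S.St_eq_top hV h1 ▸ mem_top n), ← Finset.sum_mul] at a3
    rw [S.sum_N fun a => ps (j * (a : ZMod p) * (k : ZMod p)), mul_assoc,
      inv_mul_cancel_left₀ (natCard_ne_zero _)] at a3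
    refine ⟨by rwa [← orderOf_coe] at a2, a3.trans ?_⟩
    simp only [hθ, linIrr_apply, map_mul, map_pow, h0, one_pow, mul_one, hω ⟨v, hC⟩ hv, gp,
      mul_right_comm j]
    ring
  have o1 : ω 1 = 1 := by simpa using (hω 1 (one_mem _)).symm
  have h3 : ∀ (κ k : (ZMod p)ˣ), ∀ v ∈ S.Vr, (D.Y κ : G → ℂ) (v * S.x ^ (k : ZMod p).val) =
      ω v * (D.ε * S.gp ((κ : ZMod p) * k)) := fun κ k v hv => by
    rw [D.singY κ _ (h2 κ k v hv).1, (h2 κ k v hv).2]; ring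
  have h4 : ∀ χ ∈ D.X, ∀ k : (ZMod p)ˣ, ∀ v ∈ S.Vr, (χ : G → ℂ) (v * S.x ^ (k : ZMod p).val) =
      ω v * D.δ χ := fun χ hχ k v hv => mul_left_cancel₀ he (by
    have := h2 0 k v hv
    rw [lt_zero, zero_mul, gp_zero] at this
    rw [← hA, D.singX χ hχ _ this.1, this.2, hA]; ring)
  have h5 : ∀ κ k : (ZMod p)ˣ, (D.Y κ : G → ℂ) (S.x ^ (k : ZMod p).val) =
      D.ε * S.gp ((κ : ZMod p) * k) := fun κ k => by simpa [o1] using h3 κ k 1 (one_mem _)
  have h6 : ∀ χ ∈ D.X, ∀ k : (ZMod p)ˣ, (χ : G → ℂ) (S.x ^ (k : ZMod p).val) = D.δ χ :=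
    fun χ hχ k => by simpa [o1] using h4 χ hχ k 1 (one_mem _)
  refine ⟨⟨D.X, D.δ, D.ε, D.Y, ⟨D.ε_sign, fun v hv => by
    rw [← hω ⟨v, (S.mem_V.1 hv).1⟩ hv, monoidHom_units_mul_conj], fun κ => (D.Y κ).2,
    fun κ g hg => D.Y_regular κ 1 hg, h5, fun κ v hv g => ?_⟩, D.card_X.trans hA, D.δ_sign, h6,
    fun χ hχ v hv g => ?_, fun g hg => D.regular_rel 1 hg, D.Y_notMem, fun F => ?_⟩⟩
  · have a1 := apply_mul_cen (D.Y κ).2 ((D.Y κ).2.center_le_charCenter (hV hv))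
    have a2 := Finset.sum_congr rfl fun k (_ : k ∈ Finset.univ) => (a1 _).symm.trans (h3 κ k v hv)
    simp only [h5, ← Finset.mul_sum, sum_units_gp] at a2
    rw [a1, mul_right_cancel₀ (mul_ne_zero (left_ne_zero_of_mul_eq_one D.ε_sq')
      (neg_ne_zero.2 he)) a2]
  · have a1 := apply_mul_cen χ.2 (χ.2.center_le_charCenter (hV hv))
    have a2 := (a1 _).symm.trans (h4 χ hχ 1 v hv)
    rw [h6 χ hχ] at a2
    rw [a1, mul_right_cancel₀ (Int.cast_ne_zero.2 (left_ne_zero_of_mul_eq_one (D.δ_sq hχ))) a2]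
  · rw [D.sum_Y, hA]
    congr!

theorem neg_one_mem {y g : G} (hy : p ∣ orderOf y) (h : g * y * g⁻¹ = y⁻¹) : -1 ∈ S.Af := by
  obtain ⟨c, hc⟩ := S.exists_conj_mem_C hy
  have h1 : p ∣ orderOf (c * y * c⁻¹) := by
    rwa [show orderOf (c * y * c⁻¹) = _ from (MulAut.conj c).orderOf_eq y]
  have h2 : c * g * c⁻¹ * (c * y * c⁻¹) * (c * g * c⁻¹)⁻¹ = (c * y * c⁻¹)⁻¹ := by
    rw [conj_inv (a := y), ← h]; simp only [mul_inv_rev, mul_assoc, inv_mul_cancel_left, inv_inv]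
  have h3 := S.pr_cj ⟨_, S.mem_N_of_conj_singular hc h1 (h2 ▸ inv_mem hc)⟩ ⟨_, hc⟩
  rw [show S.cj ⟨_, S.mem_N_of_conj_singular hc h1 (h2 ▸ inv_mem hc)⟩ ⟨_, hc⟩ = (⟨_, hc⟩ : S.C)⁻¹
    from Subtype.ext h2, pr_inv, ← neg_one_mul] at h3
  exact S.mem_Af'.2 ⟨_, Units.ext (mul_right_cancel₀ ((S.pr_ne_zero_iff _).2
    (by rwa [← orderOf_coe])) h3).symm⟩

theorem exists_deg (hχ : IsCharacter G χ) :
    ∃ m : ℕ, (p * m : ℂ) = charDegree χ + ∑ k : (ZMod p)ˣ, χ (S.x ^ (k : ZMod p).val) := by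
  obtain ⟨θ, hθ, -, h⟩ := S.exists_four hχ 0
  replace h := h 1 (by simpa using hp.out.ne_one)
  simp only [coe_one, mul_one, ← hθ.coe_charDegree, zero_mul, ps_zero, ← hχ.coe_charDegree] at h
  exact ⟨_, h⟩

variable {S}

theorem Gen.normal_cases (hG : S.Gen) (hχ : IsCharacter G χ) (hf : charKer χ = ⊥)
    (hd : charDegree χ + 1 < p) (K : Subgroup G) [K.Normal] : K ≤ center G ∨ K = ⊤ :=
  (em (p ∣ Nat.card K)).symm.imp (hG.le_center_of_lt hχ hf hd K)
    fun h => hG K inferInstance (S.x_mem_of_normal K h)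

theorem Gen.simple (hG : S.Gen) (hN : S.N ≠ ⊤) (hχ : IsCharacter G χ) (hf : charKer χ = ⊥)
    (hd : charDegree χ + 1 < p) :
    IsSimpleGroup (G ⧸ center G) ∧ center (G ⧸ center G) = ⊥ := by
  have h1 : ∀ K : Subgroup (G ⧸ center G), K.Normal → K = ⊥ ∨ K = ⊤ := fun K hK =>
    (hG.normal_cases hχ hf hd (K.comap (QuotientGroup.mk' _))).imp (fun h => eq_bot_iff.2
      fun y hy => by
        obtain ⟨y, rfl⟩ := QuotientGroup.mk_surjective y
        exact (QuotientGroup.eq_one_iff y).2 (h hy))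
      fun h => comap_injective (QuotientGroup.mk'_surjective _) h
  have h2 : center G ≠ ⊤ := fun e => S.not_dvd_card_center hN (by rw [e, card_top]; exact S.dvd_card)
  haveI := QuotientGroup.nontrivial_iff.2 h2
  refine ⟨⟨h1⟩, (h1 _ inferInstance).resolve_right fun e => h2 ?_⟩
  have h3 : commutator G ≤ center G := Subgroup.commutator_le.2 fun a _ b _ => (QuotientGroup.eq_one_iff _).1
    (commutatorElement_eq_one_iff_mul_comm.2 (mem_center_iff.1 (e ▸ mem_top (b : G ⧸ center G))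
      (a : G ⧸ center G)))
  rwa [hG.perfect (S.relIndex_ne_one_of_lt hχ hf hd hN), top_le_iff] at h3

namespace CB

variable {ω : G → ℂ} (B : S.CB ω)

/-- The virtual character of the block vanishing on `p`-regular elements. -/
noncomputable def w (κ : (ZMod p)ˣ) : G → ℂ :=
  ∑ χ ∈ B.X, B.δ χ • (χ : G → ℂ) - B.ε • (B.Y κ : G → ℂ)

theorem w_apply (κ : (ZMod p)ˣ) (g : G) :
    B.w κ g = ∑ χ ∈ B.X, B.δ χ * (χ : G → ℂ) g - B.ε * (B.Y κ : G → ℂ) g := by
  simp [w]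

theorem w_gen (κ : (ZMod p)ˣ) : IsGeneralizedCharacter G (B.w κ) :=
  (IsGeneralizedCharacter.sum fun χ _ => χ.isGeneralizedCharacter.zsmul _).sub
    ((B.Y κ).isGeneralizedCharacter.zsmul _)

theorem w_reg (κ : (ZMod p)ˣ) {g : G} (hg : ¬ p ∣ orderOf g) : B.w κ g = 0 := by
  rw [w_apply, ← B.reg g hg, B.fam.reg κ g hg, _root_.sub_self]

theorem w_x (κ k : (ZMod p)ˣ) :
    B.w κ (S.x ^ (k : ZMod p).val) = S.ee - S.gp ((κ : ZMod p) * k) := by
  rw [w_apply, B.fam.val, Finset.sum_congr rfl fun χ hχ => show _ = (1 : ℂ) by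
    rw [B.valX χ hχ]; rcases B.sign χ hχ with h | h <;> simp [h]]
  rcases B.fam.sign with h | h <;> simp [h, B.card_X]

theorem inner_w {Φ : G → ℂ} (hΦ : IsClassFunction G Φ)
    (hc : ∀ v ∈ S.Vr, ∀ g, Φ (v * g) = ω v * Φ g) (κ : (ZMod p)ˣ) :
    (p * S.ee : ℂ) * (∑ χ ∈ B.X, B.δ χ * classInner Φ χ - B.ε * classInner Φ (B.Y κ)) =
      ∑ k : (ZMod p)ˣ, Φ (S.x ^ (k : ZMod p).val) * (S.ee - S.gp (-((κ : ZMod p) * k))) := by
  have := S.inner_sing hΦ (B.w_gen κ).isClassFunction (fun g hg => B.w_reg κ hg) fun v hv g => by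
    rw [hc v hv, w_apply, w_apply, B.fam.cov κ v hv, Finset.sum_congr rfl fun χ hχ => show _ =
      ω v * (B.δ χ * (χ : G → ℂ) g) by rw [B.covX χ hχ v hv]; ring, ← Finset.mul_sum]
    simp only [map_sub, map_mul]
    linear_combination Φ g * (conj (∑ χ ∈ B.X, B.δ χ * (χ : G → ℂ) g) -
      conj (B.ε : ℂ) * conj ((B.Y κ : G → ℂ) g)) * B.fam.unit v hv
  simp only [w_x, map_sub, conj_gp, Complex.conj_natCast] at this
  simpa only [w, classInner_sub_right, classInner_sum_right, classInner_zsmul_right] using this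

theorem decomp {Φ : G → ℂ} (hΦ : IsCharacter G Φ) (hc : ∀ v ∈ S.Vr, ∀ g, Φ (v * g) = ω v * Φ g) :
    ∃ (m : IrrCharacter G → ℕ) (s r : ℕ) (R : G → ℂ), IsCharacter G R ∧ charDegree R = r ∧
      (∀ χ : IrrCharacter G, classInner Φ χ = m χ) ∧
      (∀ g, ¬ p ∣ orderOf g →
        Φ g = ∑ χ ∈ B.X, m χ * (χ : G → ℂ) g + s * (B.Y 1 : G → ℂ) g + R g) ∧
      charDegree Φ = ∑ χ ∈ B.X, m χ * charDegree (χ : G → ℂ) +
        s * charDegree (B.Y 1 : G → ℂ) + r ∧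
      (((p - 1) * ∑ χ ∈ B.X, B.δ χ * m χ - B.ε * S.ee * s : ℤ) : ℂ) =
        ∑ k : (ZMod p)ˣ, Φ (S.x ^ (k : ZMod p).val) := by
  classical
  obtain ⟨m, hm, h1⟩ := hΦ.exists_mult
  have h2 : IsCharacter G (∑ χ ∈ (B.X ∪ Finset.univ.image B.Y)ᶜ, m χ • (χ : G → ℂ)) :=
    IsCharacter.sum fun χ _ => χ.isCharacter.nsmul _
  have h3 : ∀ g, ¬ p ∣ orderOf g → Φ g = ∑ χ ∈ B.X, m χ * (χ : G → ℂ) g +
      (∑ ψ ∈ Finset.univ.image B.Y, m ψ : ℕ) * (B.Y 1 : G → ℂ) g +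
      (∑ χ ∈ (B.X ∪ Finset.univ.image B.Y)ᶜ, m χ • (χ : G → ℂ)) g := fun g hg => by
    conv_lhs => rw [h1, ← Finset.sum_add_sum_compl (B.X ∪ Finset.univ.image B.Y),
      Finset.sum_union (Finset.disjoint_right.2 fun χ hχ => by
        obtain ⟨κ, -, rfl⟩ := Finset.mem_image.1 hχ
        exact B.notMem κ)]
    simp only [Pi.add_apply, Finset.sum_apply, Pi.smul_apply, nsmul_eq_mul, Nat.cast_sum,
      Finset.sum_mul, add_left_inj, add_right_inj, Pi.mul_apply, Pi.natCast_apply]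
    refine Finset.sum_congr rfl fun χ hχ => ?_
    obtain ⟨κ, -, rfl⟩ := Finset.mem_image.1 hχ
    exact congrArg _ (B.fam.reg κ g hg)
  refine ⟨m, _, _, _, h2, rfl, hm, h3, ?_, ?_⟩
  · have := h3 1 (by simpa using hp.out.ne_one)
    simp only [← h2.coe_charDegree, ← hΦ.coe_charDegree, irr_one] at this
    exact_mod_cast this
  have h5 := Finset.sum_congr rfl fun κ (_ : κ ∈ Finset.univ) => B.inner_w hΦ.isClassFunction hc κ
  have h6 : ∀ k : (ZMod p)ˣ, ∑ κ : (ZMod p)ˣ, S.gp (-((κ : ZMod p) * k)) = -S.ee := fun k => by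
    rw [← S.sum_units_gp (-k)]
    simp only [Units.val_neg, neg_mul, mul_comm (k : ZMod p)]
  rw [Finset.sum_comm] at h5
  simp only [← Finset.mul_sum, Finset.sum_sub_distrib, h6, sum_units_const', hm,
    B.sumY fun ψ => m ψ, ← Finset.sum_mul] at h5
  refine mul_left_cancel₀ (mul_ne_zero (Nat.cast_ne_zero.2 hp.out.ne_zero)
    (Nat.cast_ne_zero.2 S.ee_pos.ne') : (p * S.ee : ℂ) ≠ 0) ?_
  push_cast
  linear_combination h5

theorem deg_X {χ : IrrCharacter G} (h : χ ∈ B.X) :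
    ∃ m : ℤ, B.δ χ * charDegree (χ : G → ℂ) = p * m + 1 := by
  obtain ⟨m, hm⟩ := S.exists_deg χ.isCharacter
  simp only [B.valX χ h, sum_units_const'] at hm
  have h1 : (p * m : ℤ) = charDegree (χ : G → ℂ) + (p - 1) * B.δ χ := by exact_mod_cast hm
  rcases B.sign χ h with e | e <;> rw [e] at h1 ⊢
  exacts [⟨m - 1, by linear_combination -h1⟩, ⟨-m - 1, by linear_combination h1⟩]

theorem deg_rel : B.ε * charDegree (B.Y 1 : G → ℂ) = ∑ χ ∈ B.X, B.δ χ * charDegree (χ : G → ℂ) := by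
  have := B.reg 1 (by simpa using hp.out.ne_one)
  simp only [irr_one] at this
  exact_mod_cast this

theorem sum_w (κ : (ZMod p)ˣ) (g : G) : ∑ c, B.w κ (c * g * c⁻¹ * g⁻¹) = Nat.card G *
    (∑ χ ∈ B.X, B.δ χ * ((χ : G → ℂ) g * conj ((χ : G → ℂ) g) / charDegree (χ : G → ℂ)) - B.ε *
      ((B.Y κ : G → ℂ) g * conj ((B.Y κ : G → ℂ) g) / charDegree (B.Y κ : G → ℂ))) := by
  simp only [w_apply, Finset.sum_sub_distrib]
  rw [Finset.sum_comm]
  have h : ∀ χ : IrrCharacter G, ∑ c, (χ : G → ℂ) (c * g * c⁻¹ * g⁻¹) = _ := fun χ =>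
    classMult_sum_conj_mul χ.2 g g⁻¹
  simp only [← Finset.mul_sum, h, (IrrCharacter.isCharacter _).apply_inv, irr_one]
  rw [mul_sub, Finset.mul_sum]
  congr 1
  · exact Finset.sum_congr rfl fun χ _ => by ring
  · ring

/-- The equation for lifts of involutions when no involution inverts `x`. -/
theorem inv_eq (h : -1 ∉ S.Af) {g : G} (hg : g * g ∈ center G) :
    B.ε * ((B.Y 1 : G → ℂ) g * conj ((B.Y 1 : G → ℂ) g) / charDegree (B.Y 1 : G → ℂ)) =
      ∑ χ ∈ B.X, B.δ χ * ((χ : G → ℂ) g * conj ((χ : G → ℂ) g) / charDegree (χ : G → ℂ)) := by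
  have := B.sum_w 1 g
  rw [Finset.sum_eq_zero fun c _ => B.w_reg 1 fun e => h (S.neg_one_mem (g := g) e ?_)] at this
  · exact (sub_eq_zero.1 ((mul_eq_zero.1 this.symm).resolve_left (natCard_ne_zero G))).symm
  have h1 := mem_center_iff.1 hg
  calc g * (c * g * c⁻¹ * g⁻¹) * g⁻¹ = g * (c * g * c⁻¹) * (g * g)⁻¹ := by group
    _ = g * (c * (g * (g * g)⁻¹) * c⁻¹) := by
      rw [mul_assoc, mul_assoc (c * g), mem_center_iff.1 (inv_mem hg) c⁻¹]; group
    _ = _ := by group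

end CB

end Setup

end Cfsg.Agent.Blk.One
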