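import Mathlib
import Cfsg.Agent.Blk.LowCB

/-!
# The symmetric and alternating squares of a character of degree `p - e`
-/

set_option autoImplicit false
set_option linter.unusedSectionVars false
set_option linter.style.haveILetI false

namespace Cfsg.Agent.Blk.One

open Cfsg Cfsg.Agent.Ch Subgroup Cfsg.Agent.Blk.Om Cfsg.Agent.GT Cfsg.Agent.Blk.Lin
open scoped ComplexConjugate

variable {G : Type*} [Group G] {p : ℕ} [hp : Fact p.Prime] [Fintype G]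

/-- The symmetric (`z = 1`) or alternating (`z = -1`) square. -/
noncomputable def sqz (z : ℤ) (ζ : G → ℂ) (g : G) : ℂ := (ζ g ^ 2 + z * ζ (g * g)) / 2

theorem isCharacter_sqz {z : ℤ} (hz : z * z = 1) {ζ : G → ℂ} (h : IsCharacter G ζ) :
    IsCharacter G (sqz z ζ) :=
  isCharacter_sq_add (z : ℂ) (by exact_mod_cast hz) h

theorem charDegree_sqz {z : ℤ} (hz : z * z = 1) {ζ : G → ℂ} (h : IsCharacter G ζ) :
    (2 * charDegree (sqz z ζ) : ℤ) = charDegree ζ ^ 2 + z * charDegree ζ := by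
  have := (isCharacter_sqz hz h).coe_charDegree
  rw [sqz, mul_one, ← h.coe_charDegree] at this
  exact_mod_cast (show (2 * charDegree (sqz z ζ) : ℂ) = charDegree ζ ^ 2 + z * charDegree ζ by
    rw [this]; ring)

theorem inner_sqz (ζ φ : G → ℂ) : classInner (sqz (-1) ζ) φ + classInner (sqz 1 ζ) φ =
    classInner (fun g => ζ g * ζ g) φ := by
  rw [← classInner_add_left]
  exact congrArg (classInner · φ) (funext fun g => by simp only [Pi.add_apply, sqz]; push_cast; ring)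

/-- The numerical data of a block with three ordinary characters. -/
structure TriNum (p d ε δa δb δc : ℤ) (da db dc D la lb lc ls lr sa sb sc ss sr : ℕ) : Prop where
  sign : (ε = 1 ∨ ε = -1) ∧ (δa = 1 ∨ δa = -1) ∧ (δb = 1 ∨ δb = -1) ∧ (δc = 1 ∨ δc = -1)
  md : ∃ ka kb kc, δa * da = p * ka + 1 ∧ δb * db = p * kb + 1 ∧ δc * dc = p * kc + 1
  le : δa * da ≤ δb * db ∧ δb * db ≤ δc * dc
  sum : ε * D = δa * da + δb * db + δc * dc
  degl : d ^ 2 - d = 2 * (la * da + lb * db + lc * dc + ls * D + lr : ℕ)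
  degs : d ^ 2 + d = 2 * (sa * da + sb * db + sc * dc + ss * D + sr : ℕ)
  sxl : (p - 1) * (δa * la + δb * lb + δc * lc) - ε * 3 * ls = -6
  sxs : (p - 1) * (δa * sa + δb * sb + δc * sc) - ε * 3 * ss = -3
  neg : (δa = -1 → la + sa ≠ 0) ∧ (δb = -1 → lb + sb ≠ 0) ∧ (δc = -1 → lc + sc ≠ 0)
  one : (da = 1 → la + sa = 0) ∧ (db = 1 → lb + sb = 0) ∧ (dc = 1 → lc + sc = 0)
  two : ¬ (da = 1 ∧ db = 1) ∧ ¬ (db = 1 ∧ dc = 1)

namespace Setup

variable {S : Setup p G} {ζ : G → ℂ} {i : (ZMod p)ˣ}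

theorem neg_one_notMem (h2 : p ≠ 2) (he : Odd S.ee) : -1 ∉ S.Af := fun e => by
  haveI : Fact (2 < p) := ⟨lt_of_le_of_ne hp.out.two_le h2.symm⟩
  obtain ⟨m, hm⟩ := he
  have := pow_card_eq_one' (x := (⟨-1, S.mem_Af.1 e⟩ : S.A (irrOne S.C)))
  rw [card_A_one, Subtype.ext_iff, Units.ext_iff] at this
  exact ZMod.neg_one_ne_one (n := p) (by simpa [show S.C.relIndex S.N = _ from hm, pow_succ]
    using this)

theorem Low.sum_two (h : S.Low ζ i) (h2 : 2 < p) :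
    ∑ k : (ZMod p)ˣ, ζ (S.x ^ (k : ZMod p).val * S.x ^ (k : ZMod p).val) = S.ee := by
  have h2 : ((2 : ℕ) : ZMod p) ≠ 0 := by
    rw [Ne, ZMod.natCast_eq_zero_iff]
    exact Nat.not_dvd_of_pos_of_lt two_pos h2
  rw [← neg_neg (S.ee : ℂ), ← S.sum_units_gp (i * Units.mk0 _ h2), ← Finset.sum_neg_distrib]
  refine Finset.sum_congr rfl fun k _ => ?_
  rw [← x_pow_val_add, Units.val_mul, mul_assoc, ← Units.val_mul, ← h.val]
  simp [two_mul]

theorem Low.cov_sqz (h : S.Low ζ i) (z : ℤ) : ∀ v ∈ S.Vr, ∀ g,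
    sqz z ζ (v * g) = (ζ v / ζ 1) ^ 2 * sqz z ζ g := fun v hv g => by
  rw [sqz, sqz, apply_mul_cen h.irr (h.cen v hv), apply_sq_cen h.irr (h.cen v hv)]
  ring

open Classical in
theorem Low.sum_sqz (h : S.Low ζ i) (h2 : 2 < p) (z : ℤ) :
    ∑ k : (ZMod p)ˣ, sqz z ζ (S.x ^ (k : ZMod p).val) =
      (p * S.ee * (if -1 ∈ S.Af then 1 else 0) - (S.ee : ℂ) ^ 2 + z * S.ee) / 2 := by
  have a7 := sum_half Finset.univ (fun k : (ZMod p)ˣ => ζ (S.x ^ (k : ZMod p).val) ^ 2)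
    (fun k => ζ (S.x ^ (k : ZMod p).val * S.x ^ (k : ZMod p).val)) (fun _ => 1) z
  simpa only [sqz, mul_one, h.sum_two h2, h.val, neg_sq, sum_gp_sq] using a7

theorem Low.exists_cb (h : S.Low ζ i) (hV : S.Vr ≤ center G) :
    Nonempty (S.CB fun v => (ζ v / ζ 1) ^ 2) := by
  obtain ⟨γ, -, g2, g3⟩ := h.exists_gamma
  refine S.exists_cb hV ((γ ^ 2).comp (inclusion S.C_le_N)) ?_ fun v hv => ?_
  · rw [MonoidHom.comp_apply, MonoidHom.pow_apply, show inclusion S.C_le_N S.xc = S.xn from rfl, g2,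
      one_pow]
  · rw [MonoidHom.comp_apply, MonoidHom.pow_apply, Units.val_pow_eq_pow_val,
      g3 (inclusion S.C_le_N v) hv, coe_inclusion]

theorem Fam.odd (h : S.Low ζ i) (hN : S.N ≠ ⊤) (hf : charKer ζ = ⊥) {ε : ℤ}
    {ψ : (ZMod p)ˣ → G → ℂ} (F : S.Fam (fun v => (ζ v / ζ 1) ^ 2) ε ψ) {t : ℕ}
    (ht : t * S.ee + 1 = p) (h3 : S.ee + 3 ≤ t) (he : 3 ≤ S.ee) : Odd S.ee := by
  classical
  haveI := Fintype.ofFinite S.N
  obtain ⟨u, rfl⟩ : ∃ u, t = u + 1 := ⟨t - 1, by omega⟩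
  have hd := h.deg
  have h4 := Nat.mul_le_mul_right S.ee (show 3 ≤ u + 1 by omega)
  rw [add_mul, one_mul] at ht h4
  obtain ⟨n₀, hn₀⟩ := S.exists_gen_al
  obtain ⟨γ, g1, g2, g3⟩ := h.exists_gamma
  obtain ⟨lam, l1, l2, l3⟩ := F.exists_lam hn₀ (γ ^ 2) (by simp [g2])
    (fun v hv => by simp [g3 v hv])
    (F.apply_one_ne hN h.irr.isCharacter hf (by omega) (by omega))
  have g4 : ∀ j ∈ Finset.Ico 1 S.ee, ζ (n₀ ^ j) = γ n₀ ^ j := fun j hj => by
    simpa using g1 (n₀ ^ j) (pow_notMem_C hn₀ hj)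
  have g6 := pow_ee_mem hn₀ (by omega)
  have g7 := g3 (n₀ ^ S.ee) g6
  have l4 := l2 (n₀ ^ S.ee) g6
  simp only [map_pow, Units.val_pow_eq_pow_val, SubmonoidClass.coe_pow] at g7 l4
  have hp0 : (p : ℂ) ≠ 0 := Nat.cast_ne_zero.2 hp.out.ne_zero
  have he0 : (S.ee : ℂ) ≠ 0 := Nat.cast_ne_zero.2 S.ee_pos.ne'
  have hp1 : (p : ℂ) = u * S.ee + S.ee + 1 := by exact_mod_cast ht.symm
  obtain ⟨δ, s, τ, s1, s2, s3, s4, s5⟩ := exists_signs hn₀ (by omega) (by omega)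
    (u := (γ n₀ : ℂ) ^ 2 * conj (lam n₀ : ℂ)) (by
      rw [mul_pow, ← map_pow, l4, pow_right_comm, g7]; exact F.unit _ g6)
  rcases s2 with s2 | ⟨rfl, s2⟩
  · exact Nat.odd_iff.2 (by omega)
  have e1 : ∑ j ∈ Finset.Ico 1 S.ee, ζ (n₀ ^ j) ^ 2 * conj (lam n₀ : ℂ) ^ j = δ * S.ee - 1 := by
    rw [← s3]
    exact Finset.sum_congr rfl fun j hj => by rw [g4 j hj]; ring
  have e2 : ∑ j ∈ Finset.Ico 1 S.ee, ζ (n₀ ^ j * n₀ ^ j) * conj (lam n₀ : ℂ) ^ j =
      δ * S.ee - 1 + τ * (ζ 1 - 1) := by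
    rw [← s3, ← s5, Finset.sum_mul, ← Finset.sum_add_distrib]
    refine Finset.sum_congr rfl fun j hj => ?_
    rw [← pow_add]
    split_ifs with e
    · rw [e, show ζ (n₀ ^ S.ee) = _ from (div_eq_iff h.irr.apply_one_ne_zero).1 g7.symm, ← e]
      ring
    · have := g1 (n₀ ^ (j + j)) fun e' => by
        rw [Finset.mem_Ico] at hj
        exact e (Nat.eq_of_dvd_of_lt_two_mul (by omega) ((pow_mem_C_iff hn₀ _).1 e') (by omega))
      simp only [map_pow, Units.val_pow_eq_pow_val, SubmonoidClass.coe_pow] at this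
      rw [this]
      ring
  have hz : -τ * -τ = 1 := by rcases s2 with rfl | ⟨rfl, -⟩ <;> norm_num
  have hτ : (τ : ℂ) * τ = 1 ∧ (δ : ℂ) * τ = δ := by rcases s2 with rfl | ⟨rfl, rfl⟩ <;> norm_num
  have a0 := isCharacter_sqz hz h.irr.isCharacter
  obtain ⟨ν, B, L, a2, a3, -, a5⟩ :=
    F.exists_nu a0 (h.cov_sqz _) (isCharacter_monoidHom_units lam) l3
  have a6 := inner_N hn₀ (a0.isClassFunction.restrict S.N)
    (isCharacter_monoidHom_units lam).isClassFunction fun v hv n => by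
      simp only [coe_mul, h.cov_sqz _ v hv, map_mul, Units.val_mul, l2 v hv]
      linear_combination sqz (-τ) ζ n * conj (lam n : ℂ) * F.unit v hv
  have a7 := h.sum_sqz (by omega) (-τ)
  rw [s4] at a7
  rw [a3] at a6
  simp only [map_pow, l1, map_one, one_pow, Units.val_one, mul_one, SubmonoidClass.coe_pow,
    coe_one, Units.val_pow_eq_pow_val, a7] at a6
  simp only [sqz, sum_half, e1, e2, mul_one, h.cast_deg] at a6
  rw [a7, sqz, mul_one, h.cast_deg] at a5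
  have a8 : (L : ℂ) = 0 := mul_left_cancel₀ (mul_ne_zero he0 hp0) (by
    push_cast at a6
    linear_combination a6 - p * (p - S.ee - 1) / 2 * hτ.1 - p * S.ee / 2 * hτ.2)
  rw [Nat.cast_eq_zero.1 a8, mul_zero, Nat.le_zero] at a2
  have a9 : (((u + 1) * (2 * ν + ε * (p - 2 * S.ee - τ)) + ε * (S.ee - 1 + τ) : ℤ) : ℂ) = 0 :=
    mul_left_cancel₀ (mul_ne_zero he0 hp0) (by
      rw [a2] at a5
      push_cast at a5 ⊢
      linear_combination -2 * a5 - (p * (2 * ν + ε * (p - 2 * S.ee - τ))) * hp1)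
  have a10 := Int.eq_zero_of_abs_lt_dvd (Dvd.intro _ (eq_neg_of_add_eq_zero_left
    (Int.cast_eq_zero.1 a9))) (by rcases F.sign with rfl | rfl <;> rw [abs_lt] <;> omega)
  rcases F.sign with rfl | rfl <;> omega

theorem Low.inner_neg (h : S.Low ζ i) (hm : -1 ∉ S.Af) (B : S.CB fun v => (ζ v / ζ 1) ^ 2)
    {χ : IrrCharacter G} (hχ : χ ∈ B.X) (hδ : B.δ χ = -1) :
    classInner (fun g => ζ g * ζ g) χ ≠ 0 := fun e => by
  obtain ⟨ξ, h1, h2⟩ := h.exists_conj (-1) (w := 1) (Nat.coprime_one_left _)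
  have h3 := h.irr.isCharacter.mul h1.irr.isCharacter
  have h4 := h.irr.isCharacter.mul h.irr.isCharacter
  have h5 := S.inner_sing χ.isClassFunction (h3.isClassFunction.sub h4.isClassFunction)
    (fun g hg => by simp [h2 g hg]) fun v hv g => by
      simp only [Pi.sub_apply, Pi.mul_apply, B.covX χ hχ v hv, apply_mul_cen h.irr (h.cen v hv),
        apply_mul_cen h1.irr (h1.cen v hv), h2 v (S.mem_V.1 hv).2,
        h2 1 (by simpa using hp.out.ne_one), pow_one, map_sub, map_mul]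
      have := B.fam.unit v hv
      rw [map_pow] at this
      linear_combination (χ : G → ℂ) g * (conj (ζ g) * conj (ξ g) - conj (ζ g) * conj (ζ g)) * this
  obtain ⟨n, hn⟩ := χ.isCharacter.exists_nat_classInner h3
  have h6 : ∀ k : (ZMod p)ˣ, (χ : G → ℂ) (S.x ^ (k : ZMod p).val) *
      conj ((ζ * ξ - ζ * ζ) (S.x ^ (k : ZMod p).val)) = conj (S.gp ((i : ZMod p) * k) ^ 2) -
      S.gp ((i : ZMod p) * k) * conj (S.gp ((i : ZMod p) * k)) := fun k => by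
    simp only [B.valX χ hχ, hδ, Pi.sub_apply, Pi.mul_apply, h.val, h1.val, map_sub, map_mul,
      map_neg, mul_neg, mul_one, Units.val_neg, neg_mul, ← conj_gp, Complex.conj_conj, map_pow]
    push_cast
    ring
  simp only [h6] at h5
  rw [classInner_sub_right, hn, classInner_eq_zero_comm.1 (show classInner (ζ * ζ) χ = 0 from e),
    Finset.sum_sub_distrib, ← map_sum, sum_gp_conj, sum_gp_sq, if_neg hm] at h5
  simp only [map_pow, map_sub, mul_zero, map_zero, Complex.conj_natCast] at h5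
  have h8 : ((p * S.ee * (n + 1) : ℕ) : ℂ) = 0 := by
    push_cast at h5 ⊢
    linear_combination h5
  have := hp.out.pos
  have := S.ee_pos
  exact absurd (Nat.cast_eq_zero.1 h8) (by positivity)

theorem Low.inner_one (h : S.Low ζ i) (hm : -1 ∉ S.Af) :
    classInner (fun g => ζ g * ζ g) (irrOne G) = 0 := by
  have h1 : classInner (fun g => ζ g * ζ g) (irrOne G) = classInner ζ fun g => conj (ζ g) := by
    simp [classInner_def]
  rw [h1]
  refine h.irr.classInner_eq_zero h.conj.irr fun e => hm ?_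
  obtain ⟨a, ha, e⟩ := exists_mul_of_gp_eq (S := S) (i := i) (j := -i) fun k =>
    neg_injective (by rw [← h.val, ← h.conj.val]; exact congrFun e _)
  rwa [show a = -1 from mul_left_cancel (e.trans (mul_neg_one i).symm)] at ha

theorem Low.exists_num (h : S.Low ζ i) (hG : commutator G = ⊤) (he : S.ee = 3) (h2 : 2 < p)
    (B : S.CB fun v => (ζ v / ζ 1) ^ 2) :
    ∃ (a b c : IrrCharacter G) (la lb lc ls lr sa sb sc ss sr : ℕ), a ∈ B.X ∧ b ∈ B.X ∧ c ∈ B.X ∧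
      (∀ F : IrrCharacter G → ℂ, ∑ χ ∈ B.X, F χ = F a + F b + F c) ∧
      TriNum p (charDegree ζ) B.ε (B.δ a) (B.δ b) (B.δ c) (charDegree (a : G → ℂ))
        (charDegree (b : G → ℂ)) (charDegree (c : G → ℂ)) (charDegree (B.Y 1 : G → ℂ))
        la lb lc ls lr sa sb sc ss sr ∧
      (lr = 0 → ∀ g, ¬ p ∣ orderOf g → sqz (-1) ζ g = la * (a : G → ℂ) g + lb * (b : G → ℂ) g +
        lc * (c : G → ℂ) g + ls * (B.Y 1 : G → ℂ) g) ∧
      (sr = 0 → ∀ g, ¬ p ∣ orderOf g → sqz 1 ζ g = sa * (a : G → ℂ) g + sb * (b : G → ℂ) g +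
        sc * (c : G → ℂ) g + ss * (B.Y 1 : G → ℂ) g) := by
  classical
  have hm : -1 ∉ S.Af := neg_one_notMem (by omega) (by rw [he]; decide)
  obtain ⟨a, b, c, h1, h3, h4, hX, o1, o2⟩ := exists_sorted_three (B.card_X.trans he)
    fun χ => B.δ χ * charDegree (χ : G → ℂ)
  have hs : ∀ {R : Type} [AddCommMonoid R] (F : IrrCharacter G → R),
      ∑ χ ∈ B.X, F χ = F a + F b + F c := fun F => by
    rw [hX, Finset.sum_insert (by simp [h1, h3]), Finset.sum_pair h4, add_assoc]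
  have ha : a ∈ B.X := by simp [hX]
  have hb : b ∈ B.X := by simp [hX]
  have hc : c ∈ B.X := by simp [hX]
  obtain ⟨l, ls, lr, R, l1, l2, l3, l4, l5, l6⟩ :=
    B.decomp (isCharacter_sqz (z := -1) (by norm_num) h.irr.isCharacter) (h.cov_sqz _)
  obtain ⟨s, ss, sr, T, s1, s2, s3, s4, s5, s6⟩ :=
    B.decomp (isCharacter_sqz (z := 1) (by norm_num) h.irr.isCharacter) (h.cov_sqz _)
  have h5 : ∀ χ : IrrCharacter G, ((l χ + s χ : ℕ) : ℂ) = classInner (fun g => ζ g * ζ g) χ :=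
    fun χ => by rw [← inner_sqz, l3, s3, Nat.cast_add]
  have h6 : ∀ χ ∈ B.X, B.δ χ = -1 → l χ + s χ ≠ 0 := fun χ hχ e e' =>
    h.inner_neg hm B hχ e (by rw [← h5, e', Nat.cast_zero])
  have h7 : ∀ χ : IrrCharacter G, charDegree (χ : G → ℂ) = 1 → l χ + s χ = 0 := fun χ e => by
    rw [← Nat.cast_eq_zero (R := ℂ), h5, eq_irrOne_of_perfect hG e, h.inner_one hm]
  have h8 : ∀ {R : G → ℂ}, IsCharacter G R → charDegree R = 0 → ∀ g, R g = 0 := fun hR e g =>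
    norm_le_zero_iff.1 ((hR.norm_le g).trans_eq (by rw [e, Nat.cast_zero]))
  have d1 := charDegree_sqz (z := -1) (by norm_num) h.irr.isCharacter
  have d2 := charDegree_sqz (z := 1) (by norm_num) h.irr.isCharacter
  rw [h.sum_sqz h2, if_neg hm, hs, he] at l6 s6
  rw [hs] at l5 s5
  obtain ⟨ka, ea⟩ := B.deg_X ha
  obtain ⟨kb, eb⟩ := B.deg_X hb
  obtain ⟨kc, ec⟩ := B.deg_X hc
  refine ⟨a, b, c, l a, l b, l c, ls, lr, s a, s b, s c, ss, sr, ha, hb, hc, hs,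
    ⟨⟨B.fam.sign, B.sign a ha, B.sign b hb, B.sign c hc⟩, ⟨ka, kb, kc, ea, eb, ec⟩, ⟨o1, o2⟩,
    B.deg_rel.trans (hs _), by rw [← l5]; linear_combination -d1,
    by rw [← s5]; linear_combination -d2, ?_, ?_, ⟨h6 a ha, h6 b hb, h6 c hc⟩, ⟨h7 a, h7 b, h7 c⟩,
    fun e => h1 ?_, fun e => h4 ?_⟩, fun e g hg => ?_, fun e g hg => ?_⟩
  · exact_mod_cast l6.trans (show _ = ((-6 : ℤ) : ℂ) by push_cast; ring)
  · exact_mod_cast s6.trans (show _ = ((-3 : ℤ) : ℂ) by push_cast; ring)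
  · rw [eq_irrOne_of_perfect hG e.1, eq_irrOne_of_perfect hG e.2]
  · rw [eq_irrOne_of_perfect hG e.1, eq_irrOne_of_perfect hG e.2]
  · rw [l4 g hg, hs, h8 l1 (l2.trans e), add_zero]
  · rw [s4 g hg, hs, h8 s1 (s2.trans e), add_zero]

theorem not_dvd_of_sq (hN : S.N ≠ ⊤) (h2 : 2 < p) {g : G} (hg : g * g ∈ center G) :
    ¬ p ∣ orderOf g := fun e => by
  have h1 : g ^ (2 * Nat.card (center G)) = 1 := by
    rw [pow_mul, sq]
    exact congrArg Subtype.val (pow_card_eq_one' (x := (⟨_, hg⟩ : center G)))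
  exact (hp.out.dvd_mul.1 (e.trans (orderOf_dvd_of_pow_eq_one h1))).elim
    (Nat.not_dvd_of_pos_of_lt two_pos h2) (not_dvd_card_center hN)

theorem Gen.abs_ne (hG : S.Gen) (hζ : IsCharacter G ζ) (hf : charKer ζ = ⊥)
    (hd : charDegree ζ + 1 < p) {χ : G → ℂ} (hχ : IsIrrCharacter G χ) (h1 : charDegree χ ≠ 1)
    {g : G} (hg : g ∉ center G) {σ : ℂ} (hσ : σ * conj σ = 1) {n : ℤ} (h : χ g = σ * n) :
    |n| ≠ charDegree χ := fun e => by
  haveI := hχ.isCharacter.charCenter_normal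
  refine (hG.normal_cases hζ hf hd (charCenter χ)).elim (fun e' => hg (e' ?_)) fun e' =>
    h1 (hχ.isCharacter.charDegree_eq_one_iff.2 (hχ.apply_one_eq_one_iff_charCenter.2 e'))
  rw [Complex.mul_conj, Complex.normSq_eq_norm_sq, Complex.ofReal_eq_one,
    pow_eq_one_iff_of_nonneg (norm_nonneg σ) two_ne_zero] at hσ
  rw [hχ.isCharacter.mem_charCenter, h, norm_mul, hσ, one_mul, Complex.norm_intCast,
    ← Int.cast_abs, e, Int.cast_natCast]

theorem CB.invol {ω : G → ℂ} (B : S.CB ω) (hm : -1 ∉ S.Af) {a b c : IrrCharacter G}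
    (ha : a ∈ B.X) (hb : b ∈ B.X) (hc : c ∈ B.X)
    (hs : ∀ F : IrrCharacter G → ℂ, ∑ χ ∈ B.X, F χ = F a + F b + F c) {g : G}
    (hg : g * g ∈ center G) (hg' : g * g ∈ S.Vr) (hr : ¬ p ∣ orderOf g) {σ : ℂ}
    (h1 : ω (g * g) = σ ^ 2) (h2 : σ * conj σ = 1) {u v w : ℤ}
    (hu : B.δ a * charDegree (a : G → ℂ) = u) (hv : B.δ b * charDegree (b : G → ℂ) = v)
    (hw : B.δ c * charDegree (c : G → ℂ) = w) :
    ∃ x y z n : ℤ, (B.Y 1 : G → ℂ) g = σ * n ∧ (a : G → ℂ) g = σ * (B.δ a * x : ℤ) ∧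
      (b : G → ℂ) g = σ * (B.δ b * y : ℤ) ∧ (c : G → ℂ) g = σ * (B.δ c * z : ℤ) ∧
      (n % 2 = charDegree (B.Y 1 : G → ℂ) % 2 ∧ |n| ≤ charDegree (B.Y 1 : G → ℂ)) ∧
      (x % 2 = u % 2 ∧ |x| ≤ |u|) ∧ (y % 2 = v % 2 ∧ |y| ≤ |v|) ∧ B.ε * n = x + y + z ∧
      (x + y + z) ^ 2 * (u * v * w) =
        (u + v + w) * (x ^ 2 * (v * w) + y ^ 2 * (u * w) + z ^ 2 * (u * v)) := by
  have h3 : ∀ χ ∈ B.X, ∀ u, B.δ χ * charDegree (χ : G → ℂ) = u → ∃ x : ℤ,
      (χ : G → ℂ) g = σ * (B.δ χ * x : ℤ) ∧ (x % 2 = u % 2 ∧ |x| ≤ |u|) ∧ (u : ℂ) ≠ 0 ∧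
      B.δ χ * (χ : G → ℂ) g = σ * x ∧
      B.δ χ * ((χ : G → ℂ) g * conj ((χ : G → ℂ) g) / charDegree (χ : G → ℂ)) = x ^ 2 / u := by
    rintro χ hχ _ rfl
    obtain ⟨n, a1, a2, a3⟩ := exists_int_val χ.isCharacter (g := g) (σ := σ) fun y => by
      rw [B.covX χ hχ _ hg', h1]
    have a4 : (charDegree (χ : G → ℂ) : ℂ) ≠ 0 := Nat.cast_ne_zero.2 χ.2.charDegree_pos.ne'
    have a5 : σ * n * conj (σ * n) = n ^ 2 := by
      rw [map_mul, map_intCast]; linear_combination (n : ℂ) ^ 2 * h2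
    refine ⟨B.δ χ * n, ?_⟩
    rw [a1, a5]
    rcases B.sign χ hχ with e | e <;> simp [e, a2, a3, a4, div_neg]
  obtain ⟨x, x1, x2, x3, x4, x5⟩ := h3 a ha u hu
  obtain ⟨y, y1, y2, y3, y4, y5⟩ := h3 b hb v hv
  obtain ⟨z, z1, -, z3, z4, z5⟩ := h3 c hc w hw
  obtain ⟨n, n1, n2⟩ := exists_int_val (B.Y 1).isCharacter (g := g) (σ := σ) fun y => by
    rw [show (B.Y 1 : G → ℂ) _ = _ from B.fam.cov 1 _ hg' y, h1]
  have e1 := B.reg g hr
  have e2 := B.inv_eq hm hg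
  have e3 : ((B.ε * charDegree (B.Y 1 : G → ℂ) : ℤ) : ℂ) = _ := congrArg _ B.deg_rel
  have e4 : σ * n * conj (σ * n) = n ^ 2 := by
    rw [map_mul, map_intCast]; linear_combination (n : ℂ) ^ 2 * h2
  rw [Int.cast_sum, hs, hu, hv, hw, Int.cast_mul, Int.cast_natCast] at e3
  rw [hs, x4, y4, z4, n1] at e1
  rw [hs, x5, y5, z5, n1, e4] at e2
  have e5 : (B.ε : ℂ) * n = x + y + z :=
    mul_left_cancel₀ (left_ne_zero_of_mul_eq_one h2) (by linear_combination e1)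
  refine ⟨x, y, z, n, n1, x1, y1, z1, n2, x2, y2, by exact_mod_cast e5, ?_⟩
  have e6 : (charDegree (B.Y 1 : G → ℂ) : ℂ) ≠ 0 := Nat.cast_ne_zero.2 (B.Y 1).2.charDegree_pos.ne'
  have e7 : (B.ε : ℂ) ^ 2 = 1 := by rcases B.fam.sign with e | e <;> simp [e]
  rw [← Int.cast_inj (α := ℂ)]
  push_cast
  rw [← e5, ← e3]
  field_simp at e2
  linear_combination B.ε * e2

end Setup

end Cfsg.Agent.Blk.One
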