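import Mathlib
import Cfsg.Agent.Blk.LowOdd

/-!
# Arithmetic for the blocks with three ordinary characters
-/

set_option autoImplicit false

namespace Cfsg.Agent.Blk.One

theorem sign_deg {δ u : ℤ} {d : ℕ} (h : δ = 1 ∨ δ = -1) (e : δ * d = u) (h0 : u ≠ 0) :
    d = u.natAbs ∧ δ = if 0 < u then 1 else -1 := by
  rcases h with rfl | rfl <;> split_ifs <;> omega

set_option maxHeartbeats 2000000 in
theorem TriNum.nineteen {δa δb δc : ℤ} {da db dc D la lb lc ls lr sa sb sc ss sr : ℕ}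
    (h : TriNum 19 16 1 δa δb δc da db dc D la lb lc ls lr sa sb sc ss sr) (h3 : D ≠ 3)
    (hb : ∀ n ∈ [da, db, dc, D], n ≠ 37 ∧ n ≠ 41 ∧ n ≠ 58 ∧ n ≠ 94) :
    D = 22 ∧ (δa * da, δb * db, δc * dc) ∈ [(-18, 1, 39), (-18, 20, 20), (-56, 39, 39),
      (-75, 20, 77)] ∨ D = 60 ∧ la = 0 ∧ lb = 0 ∧ lc = 0 ∧ ls = 2 ∧ lr = 0 ∧
      (δa * da, δb * db, δc * dc) ∈ [(1, 20, 39), (20, 20, 20), (-18, 39, 39), (-56, 20, 96)] := by
  obtain ⟨ka, kb, kc, e1, e2, e3⟩ := h.md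
  have hD := h.sum
  have o := h.le
  have l1 := h.degl
  have l2 := h.degs
  have n1 := h.sxl
  have n2 := h.sxs
  rw [e1, e2, e3] at hD o ⊢
  have h1 : 22 ≤ D := by omega
  have h2 : ls = 2 := by
    have := Nat.mul_le_mul_left ls h1
    generalize δa * la + δb * lb + δc * lc = N at n1
    omega
  have h4 : ss = 1 := by
    have := Nat.mul_le_mul_left ss h1
    generalize δa * sa + δb * sb + δc * sc = N at n2
    omega
  subst h2 h4
  have h5 : -6 ≤ ka := by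
    have := fun h => Nat.le_mul_of_pos_left da (n := la) h
    have := fun h => Nat.le_mul_of_pos_left da (n := sa) h
    have := h.neg.1
    rcases h.sign.2.1 with rfl | rfl <;> omega
  have h6 : ka ≤ 1 := by omega
  have h7 : ka ≤ kb := by omega
  have h8 : kb ≤ 4 := by omega
  obtain ⟨d, h9, h10, h11⟩ : ∃ d : ℤ, kc = d - ka - kb ∧ D = 19 * d + 3 ∧ (d = 1 ∨ d = 3) :=
    ⟨ka + kb + kc, by omega, by omega, by have := (hb D (by simp)).2.1; omega⟩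
  subst h9
  obtain ⟨m1, m2, m3⟩ := h.neg
  obtain ⟨t1, t2, t3⟩ := h.one
  obtain ⟨t4, t5⟩ := h.two
  obtain ⟨rfl, rfl⟩ := sign_deg h.sign.2.1 e1 (by omega)
  obtain ⟨rfl, rfl⟩ := sign_deg h.sign.2.2.1 e2 (by omega)
  obtain ⟨rfl, rfl⟩ := sign_deg h.sign.2.2.2 e3 (by omega)
  obtain rfl : D = (19 * d + 3).natAbs := by omega
  clear h hD h3 h1 e1 e2 e3 h10
  rcases h11 with rfl | rfl <;> interval_cases ka <;> interval_cases kb <;>
    (try exact absurd o (by decide)) <;> (try exact absurd hb (by decide)) <;>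
    simp at l1 l2 n1 n2 m1 m2 m3 t1 t2 t3 t4 t5 ⊢ <;> omega

theorem inv_twentytwo {u v w x y z : ℤ} (h : (u, v, w) ∈ [(-18, 1, 39), (-18, 20, 20), (-56, 39, 39),
      ((-75 : ℤ), (20 : ℤ), (77 : ℤ))]) (h1 : (x + y + z) % 2 = 0) (h2 : |x + y + z| < 22)
    (e : (x + y + z) ^ 2 * (u * v * w) =
      (u + v + w) * (x ^ 2 * (v * w) + y ^ 2 * (u * w) + z ^ 2 * (u * v))) : x + y + z = 0 := by
  simp only [List.mem_cons, List.not_mem_nil, or_false, Prod.mk.injEq] at h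
  rw [abs_lt] at h2
  rcases h with ⟨rfl, rfl, rfl⟩ | ⟨rfl, rfl, rfl⟩ | ⟨rfl, rfl, rfl⟩ | ⟨rfl, rfl, rfl⟩ <;>
    have := prop_of_not_isSquare (by norm_num) (by norm_num) e (by norm_num) <;> omega

theorem inv_sixty {u v w x y z : ℤ} (h : (u, v, w) ∈ [(1, 20, 39), (20, 20, 20), (-18, 39, 39),
      ((-56 : ℤ), (20 : ℤ), (96 : ℤ))]) (h1 : x % 2 = u % 2) (h2 : x + y + z = -4)
    (e : (x + y + z) ^ 2 * (u * v * w) =
      (u + v + w) * (x ^ 2 * (v * w) + y ^ 2 * (u * w) + z ^ 2 * (u * v))) : False := by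
  simp only [List.mem_cons, List.not_mem_nil, or_false, Prod.mk.injEq] at h
  rw [h2] at e
  have h3 : y ^ 2 % 5 ≠ 2 := by
    have : y % 5 = 0 ∨ y % 5 = 1 ∨ y % 5 = 2 ∨ y % 5 = 3 ∨ y % 5 = 4 := by omega
    rcases this with h | h | h | h | h <;> simp [sq, Int.mul_emod, h]
  have h4 : x ≠ 0 → 0 < x ^ 2 := fun h => by positivity
  have := sq_nonneg y
  have := sq_nonneg z
  rcases h with ⟨rfl, rfl, rfl⟩ | ⟨rfl, rfl, rfl⟩ | ⟨rfl, rfl, rfl⟩ | ⟨rfl, rfl, rfl⟩ <;> omega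

set_option maxHeartbeats 1000000 in
theorem TriNum.seven {ε δa δb δc : ℤ} {da db dc D la lb lc ls lr sa sb sc ss sr : ℕ}
    (h : TriNum 7 4 ε δa δb δc da db dc D la lb lc ls lr sa sb sc ss sr) :
    ε = 1 ∧ D = 3 ∨ δa = -1 ∧ da = 6 ∧ δc = 1 ∧ lc = 0 ∧ ls = 0 ∧ lr = 0 ∧ sc = 0 ∧ ss = 1 ∧ sr = 0 ∧
      (ε = 1 ∧ D = 10 ∧ δb = 1 ∧ la = 1 ∧ lb = 0 ∧ sa = 0 ∧ sb = 0 ∧
        (db = 1 ∧ dc = 15 ∨ db = 8 ∧ dc = 8) ∨
      ε = -1 ∧ D = 4 ∧ δb = -1 ∧ db = 6 ∧ dc = 8 ∧ la + lb = 1 ∧ sa + sb = 1) := by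
  obtain ⟨ka, kb, kc, e1, e2, e3⟩ := h.md
  have hD := h.sum
  have o := h.le
  have l1 := h.degl
  have l2 := h.degs
  have n1 := h.sxl
  have n2 := h.sxs
  rw [e1, e2, e3] at hD o
  have h1 : D ≤ 10 := by
    have := fun h => Nat.le_mul_of_pos_left D (n := ss) h
    generalize δa * sa + δb * sb + δc * sc = N at n2
    rcases h.sign.1 with rfl | rfl <;> omega
  have h5 : -1 ≤ ka := by
    have := fun h => Nat.le_mul_of_pos_left da (n := la) h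
    have := fun h => Nat.le_mul_of_pos_left da (n := sa) h
    have := h.neg.1
    rcases h.sign.2.1 with rfl | rfl <;> omega
  obtain ⟨d, h9, h10, h11⟩ : ∃ d : ℤ, kc = d - ka - kb ∧ ε * D = 7 * d + 3 ∧ -1 ≤ d ∧ d ≤ 1 :=
    ⟨ka + kb + kc, by omega, by omega, by rcases h.sign.1 with rfl | rfl <;> omega⟩
  subst h9
  have h6 : ka ≤ 0 := by omega
  have h7 : ka ≤ kb := by omega
  have h8 : kb ≤ 1 := by omega
  obtain ⟨h11, h12⟩ := h11
  obtain ⟨m1, m2, m3⟩ := h.neg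
  obtain ⟨t1, t2, t3⟩ := h.one
  obtain ⟨t4, t5⟩ := h.two
  obtain ⟨rfl, rfl⟩ := sign_deg h.sign.2.1 e1 (by omega)
  obtain ⟨rfl, rfl⟩ := sign_deg h.sign.2.2.1 e2 (by omega)
  obtain ⟨rfl, rfl⟩ := sign_deg h.sign.2.2.2 e3 (by omega)
  obtain ⟨rfl, rfl⟩ := sign_deg h.sign.1 h10 (by omega)
  clear h hD h1 e1 e2 e3 h10
  interval_cases d <;> interval_cases ka <;> interval_cases kb <;>
    (try exact absurd o (by decide)) <;>
    simp at l1 l2 n1 n2 m1 m2 m3 t1 t2 t3 t4 t5 ⊢ <;> omega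

theorem inv_seven {v w x y z n la lb sa sb : ℤ} (h : v = 8 ∧ n = x + y + z ∧ |n| < 10 ∧ la = 1 ∧
      lb = 0 ∧ sa = 0 ∧ sb = 0 ∨ v = -6 ∧ -n = x + y + z ∧ |n| < 4 ∧ la + lb = 1 ∧ sa + sb = 1)
    (hw : w = 8) (h1 : 4 = (la - sa) * x + (lb - sb) * y + n)
    (e : (x + y + z) ^ 2 * (-6 * v * w) =
      (-6 + v + w) * (x ^ 2 * (v * w) + y ^ 2 * (-6 * w) + z ^ 2 * (-6 * v))) : False := by
  rw [abs_lt, abs_lt] at h
  subst hw
  rcases h with ⟨rfl, h2, h3, rfl, rfl, rfl, rfl⟩ | ⟨rfl, h2, h3, h4, h5⟩ <;>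
    have := prop_of_not_isSquare (by norm_num) (by norm_num) e (by norm_num)
  · omega
  obtain rfl : x = y := by omega
  rw [← add_mul, show la - sa + (lb - sb) = 0 by omega] at h1
  omega

end Cfsg.Agent.Blk.One
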