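import Mathlib
import Cfsg.Agent.Blk.LowNum
import Cfsg.Agent.Blk.LinSet
import Cfsg.Agent.Ch.Blichfeldt

/-!
# There is no linear group of degree `16` with a non-normal Sylow `19`-subgroup
-/

set_option autoImplicit false
set_option linter.unusedSectionVars false
set_option linter.style.haveILetI false

namespace Cfsg.Agent.Blk.One

open Cfsg Cfsg.Agent.Ch Subgroup Cfsg.Agent.Blk.Om Cfsg.Agent.GT Cfsg.Agent.Blk.Lin
open scoped ComplexConjugate

variable {G : Type*} [Group G] {p : ℕ} [hp : Fact p.Prime] [Fintype G]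

theorem comm_mul_self {g h : G} (h1 : g * g ∈ center G) (h2 : g * h * g⁻¹ * h⁻¹ ∈ center G) :
    g * h * g⁻¹ * h⁻¹ * (g * h * g⁻¹ * h⁻¹) = 1 :=
  calc g * h * g⁻¹ * h⁻¹ * (g * h * g⁻¹ * h⁻¹) = (g * h * g⁻¹ * h⁻¹ * g) * h * g⁻¹ * h⁻¹ := by group
    _ = g * g * h * (g * g)⁻¹ * h⁻¹ := by rw [← mem_center_iff.1 h2 g]; group
    _ = 1 := by rw [← mem_center_iff.1 h1 h]; group

theorem exists_lift_four [IsSimpleGroup (G ⧸ center G)] (hZ : center (G ⧸ center G) = ⊥)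
    (h2 : 2 ∣ (center G).index) : ∃ g h : G, g ∉ center G ∧ h ∉ center G ∧ g * h ∉ center G ∧
      g * g ∈ center G ∧ h * h ∈ center G ∧ g * h * (g * h) ∈ center G ∧
      g * h * g⁻¹ * h⁻¹ ∈ center G := by
  obtain ⟨s, t, a1, a2, a3, a4, a5, a6⟩ := exists_four h2 hZ
  obtain ⟨g, rfl⟩ := QuotientGroup.mk_surjective s
  obtain ⟨h, rfl⟩ := QuotientGroup.mk_surjective t
  simp only [← QuotientGroup.eq_one_iff, QuotientGroup.mk_mul, QuotientGroup.mk_inv]
  refine ⟨g, h, a1, a2, a3, a4, a5, ?_, by rw [a6]; group⟩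
  rw [mul_assoc, ← mul_assoc (h : G ⧸ center G), ← a6, mul_assoc, a5, mul_one, a4]

namespace Setup

variable {S : Setup p G} {ζ : G → ℂ} {i : (ZMod p)ˣ}

theorem Gen.not_dvd (hG : S.Gen) (hN : S.N ≠ ⊤) (h : S.Low ζ i) (hf : charKer ζ = ⊥)
    (hd : charDegree ζ + 1 < p) {q : ℕ} (hq : q.Prime) (h1 : charDegree ζ + 1 < q) (h2 : q ≠ p) :
    ¬ q ∣ Nat.card G := fun e => by
  obtain ⟨x, y, a1, a2, a3⟩ := h.irr.isCharacter.exists_commute_of_lt hf hp.out hq S.dvd_card e hd h1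
  obtain ⟨c, -, hc⟩ := S.exists_conj_mem ⊤ (mem_top _) (mem_top x) ⟨1, by rw [a1, pow_one]⟩
  have a4 : orderOf (c * y * c⁻¹) = q := ((MulAut.conj c).orderOf_eq y).trans a2
  have a5 := pow_degree_eq_one (hG.perfect (S.relIndex_ne_one_of_lt h.irr.isCharacter hf hd hN))
    h.irr hf (Vr_eq_center hN h hf ▸ S.mem_V.2 ⟨S.mem_C_of_commute (g := c * y * c⁻¹) hc (fun e => by
      rw [conj_eq_one_iff.1 e, orderOf_one] at a1; exact hp.out.ne_one a1.symm) (by
        simp only [conj_mul, a3]), fun e =>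
      h2 ((Nat.prime_dvd_prime_iff_eq hp.out hq).1 (a4 ▸ e)).symm⟩)
  have := Nat.le_of_dvd h.irr.charDegree_pos (a4 ▸ orderOf_dvd_of_pow_eq_one a5)
  omega

theorem Gen.not_nineteen [Fact (Nat.Prime 19)] {S : Setup 19 G} {i : (ZMod 19)ˣ} (hG : S.Gen)
    (hN : S.N ≠ ⊤) (h : S.Low ζ i) (hf : charKer ζ = ⊥) (he : S.ee = 3) : False := by
  have hd : charDegree ζ = 16 := by have := h.deg; omega
  have hζ := h.irr.isCharacter
  have hV := Vr_eq_center hN h hf
  have hP := hG.perfect (S.relIndex_ne_one_of_lt hζ hf (by omega) hN)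
  obtain ⟨B⟩ := h.exists_cb hV.le
  have hε := (B.fam.main h hN hf (t := 6) (by omega) (by omega) (by omega)).1
  obtain ⟨a, b, c, la, lb, lc, ls, lr, sa, sb, sc, ss, sr, ha, hb, hc, hs, hn, hl, -⟩ :=
    h.exists_num hP he (by omega) B
  have h1 : ∀ χ : IrrCharacter G, ∀ q, q.Prime → 19 < q → ¬ q ∣ charDegree (χ : G → ℂ) :=
    fun χ q hq h1 e => hG.not_dvd hN h hf (by omega) hq (by omega) (by omega)
      (e.trans χ.2.charDegree_dvd_card)
  have h2 := B.fam.apply_one_ne hN hζ hf (by omega) (by omega)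
  rw [hd, hε] at hn
  have h3 := hn.nineteen (fun e => h2 (by rw [irr_one, e, hε, he]; simp)) fun n hn => by
    obtain ⟨χ, rfl⟩ : ∃ χ : IrrCharacter G, charDegree (χ : G → ℂ) = n := by
      simp only [List.mem_cons, List.not_mem_nil, or_false] at hn
      rcases hn with rfl | rfl | rfl | rfl <;> exact ⟨_, rfl⟩
    have := h1 χ 37 (by norm_num) (by norm_num)
    have := h1 χ 41 (by norm_num) (by norm_num)
    have := h1 χ 29 (by norm_num) (by norm_num)
    have := h1 χ 47 (by norm_num) (by norm_num)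
    omega
  obtain ⟨_, hZ⟩ := hG.simple hN hζ hf (by omega)
  have h4 : 2 ∣ (center G).index := Dvd.dvd.trans (by rw [hd]; norm_num)
    h.irr.charDegree_dvd_index_center
  have h5 := fun g (hg : g * g ∈ center G) => B.invol (neg_one_notMem (by omega) (by rw [he]; decide))
    ha hb hc hs hg (hV ▸ hg) (not_dvd_of_sq hN (by omega) hg) rfl
    (mul_conj_cen h.irr (h.cen _ (hV ▸ hg))) rfl rfl rfl
  rcases h3 with ⟨h6, h7⟩ | ⟨h6, rfl, rfl, rfl, rfl, rfl, h7⟩
  · have h8 : ∀ g ∉ center G, g * g ∈ center G → (B.Y 1 : G → ℂ) g = 0 := fun g hg hg' => by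
      obtain ⟨x, y, z, n, a1, -, -, -, a2, -, -, a3, a4⟩ := h5 g hg'
      have a5 := hG.abs_ne hζ hf (by omega) (B.Y 1).2 (by omega) hg
        (mul_conj_cen h.irr (h.cen _ (hV ▸ hg'))) a1
      rw [hε, one_mul] at a3
      subst a3
      rw [a1, inv_twentytwo h7 (by omega) (by omega) a4, Int.cast_zero, mul_zero]
    obtain ⟨g, k, a1, a2, a3, a4, a5, a6, a7⟩ := exists_lift_four hZ h4
    have := four_dvd_of_vanish (B.Y 1).isCharacter
      (left_ne_zero_of_mul_eq_one (mul_conj_cen h.irr (h.cen _ (hV ▸ a4))))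
      (left_ne_zero_of_mul_eq_one (mul_conj_cen h.irr (h.cen _ (hV ▸ a5))))
      (B.fam.cov 1 _ (hV ▸ a4)) (B.fam.cov 1 _ (hV ▸ a5)) ((B.Y 1).2.mem_charKer.2 (by
        have b1 := B.fam.cov 1 _ (hV ▸ a7) 1
        have b2 := apply_sq_cen h.irr (h.cen _ (hV ▸ a7)) 1
        rw [mul_one, comm_mul_self a4 a7, mul_one, eq_comm,
          mul_eq_right₀ h.irr.apply_one_ne_zero] at b2
        rwa [b2, mul_one, one_mul] at b1)) (h8 g a1 a4) (h8 k a2 a5) (h8 _ a3 a6)
    omega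
  obtain ⟨g, a1, a2, T, a3⟩ := exists_central_involution (K := G ⧸ center G) h4
  obtain ⟨g, rfl⟩ := QuotientGroup.mk_surjective g
  have a4 : g * g ∈ center G := (QuotientGroup.eq_one_iff _).1 a2
  have a5 := apply_eq_zero_of_coprime h.irr hf (mt (QuotientGroup.eq_one_iff g).2 a1) (by
    rw [hd]
    exact Nat.Coprime.pow_left 4 ((Nat.prime_two.coprime_iff_not_dvd).2 fun e =>
      T.not_dvd_index (e.trans (index_dvd_of_le a3))))
  obtain ⟨x, y, z, n, b1, -, -, -, -, b2, -, b3, b4⟩ := h5 g a4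
  have b5 := hl rfl g (not_dvd_of_sq hN (by omega) a4)
  have b6 := left_ne_zero_of_mul_eq_one (mul_conj_cen h.irr (h.cen _ (hV ▸ a4)))
  rw [sqz, a5, b1, ← hζ.coe_charDegree, hd] at b5
  rw [← hζ.coe_charDegree, hd] at b6
  have b7 : (n : ℂ) = (-4 : ℤ) := mul_left_cancel₀ b6 (by
    push_cast at b5 ⊢
    linear_combination -b5 / 2)
  rw [hε, one_mul, Int.cast_injective b7] at b3
  exact inv_sixty h7 b2.1 b3.symm b4

theorem cases_large (S : Setup p G) (hN : S.N ≠ ⊤) (h7 : 7 < p) (hζ : IsIrrCharacter G ζ)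
    (hf : charKer ζ = ⊥) (hd : charDegree ζ + 2 ≤ p) (h27 : charDegree ζ < 27) :
    (Nonempty (G ⧸ center G ≃* Matrix.ProjectiveSpecialLinearGroup (Fin 2) (ZMod p)) ∧
      (2 * charDegree ζ = p + 1 ∨ 2 * charDegree ζ = p - 1)) ∨ p = 17 ∧ charDegree ζ = 15 ∧
      ∃ (F : Type) (_ : Field F) (_ : Fintype F), Fintype.card F = 16 ∧
        Nonempty (G ≃* Matrix.SpecialLinearGroup (Fin 2) F × center G) := by
  obtain ⟨t, ht⟩ := S.relIndex_dvd
  change _ = S.ee * t at ht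
  rcases S.faithful_cases hN h7 hζ hf hd (t := t) (by rw [ht, mul_comm]) with
    ⟨h1, h2, -⟩ | ⟨h1, h2, -⟩
  · exact Or.inl ⟨h1, h2⟩
  rcases le_or_gt 3 S.ee with h3 | h3
  swap
  · obtain ⟨a, F, _, _, a1, a2, a3⟩ := sl_of_sub_two hN (by omega) hζ hf (by omega)
    have a4 : a < 5 := lt_of_not_ge fun e => by
      have := Nat.pow_le_pow_right two_pos e
      omega
    have := hp.out
    obtain rfl : a = 4 := by interval_cases a <;> first | omega | (rw [a1] at this; norm_num at this)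
    exact Or.inr ⟨a1, by omega, F, _, _, a2, a3⟩
  have h4 := Nat.mul_le_mul_left S.ee h2
  obtain ⟨he, i, h | ⟨m, a1, a2⟩⟩ := S.low_cases hζ hd fun e =>
    S.x_ne_one (mem_bot.1 (hf ▸ hζ.mem_charKer.2 e))
  swap
  · have := S.plus_half hN hζ.isCharacter hf hd he a1 a2
    omega
  obtain ⟨ε, ψ, F⟩ := h.exists_fam (Vr_eq_center hN h hf).le
  have h5 := Nat.odd_iff.1 (F.odd h hN hf (t := t) (by rw [mul_comm]; omega) h2 h3)
  have h6 : S.ee = 3 := by_contra fun e => by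
    have := Nat.mul_le_mul_right (S.ee + 3) (show 5 ≤ S.ee by omega)
    omega
  rw [h6] at ht h2 h1
  obtain rfl : p = 19 := by
    have := hp.out
    have a1 : p = 3 * t + 1 := by omega
    have a2 : t ≤ 9 := by omega
    interval_cases t <;> first | omega | (rw [a1] at this; norm_num at this)
  obtain ⟨H, _, T, j, a1, a2, a3, a4, a5, -⟩ := Lin.exists_gen h hN hf hd he
  exact (a1.not_nineteen a2 a4 a5 (a3.trans h6)).elim

end Setup

end Cfsg.Agent.Blk.One
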