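import Mathlib
import Cfsg.Agent.Blk.LowSixteen
import Cfsg.Agent.Ch.LinDixon

/-!
# Rationality of characters of degree `p - e` and bounds for the group order
-/

set_option autoImplicit false
set_option linter.unusedSectionVars false
set_option linter.style.haveILetI false

namespace Cfsg.Agent.Blk.One

open Cfsg Cfsg.Agent.Ch Subgroup Cfsg.Agent.Blk.Om Cfsg.Agent.GT Cfsg.Agent.Blk.Lin
open scoped ComplexConjugate

variable {G : Type*} [Group G] {p : ℕ} [hp : Fact p.Prime] [Fintype G]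

theorem schur_dvd {q m : ℕ} (hq : q.Prime) {ψ : G → ℂ} (hψ : IsCharacter G ψ) (hf : charKer ψ = ⊥)
    (hr : ∀ g k, g ^ q ^ m = 1 → k.Coprime q → ψ (g ^ k) = ψ g) (h : q ^ m ∣ Nat.card G) :
    q ^ m ∣ q ^ (charDegree ψ / (q - 1)) * (charDegree ψ / (q - 1)).factorial := by
  haveI := Fact.mk hq
  obtain ⟨Q, hQ⟩ := Sylow.exists_subgroup_card_pow_prime q h
  have := linD_schur hq (hψ.restrict Q) (.of_card hQ)
    (by rw [hψ.charKer_restrict, hf, bot_subgroupOf]) fun g k hk =>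
      hr g k (hQ ▸ congrArg Subtype.val (pow_card_eq_one' (x := g))) hk
  rwa [hQ, charDegree_restrict] at this

theorem rat_value {q : ℕ} (hq : q.Prime) {ψ : G → ℂ} (hψ : IsCharacter G ψ) (hf : charKer ψ = ⊥)
    {g : G} {m : ℕ} (hg : g ^ q ^ m = 1) (h1 : g ≠ 1)
    (hr : ∀ y ∈ zpowers g, ∀ k, k.Coprime q → ψ (y ^ k) = ψ y) :
    ∃ y ∈ Finset.Icc 1 (charDegree ψ / (q - 1)), ψ g = charDegree ψ - q * y := by
  have := linD_value hq (hψ.restrict (zpowers g)) (PE.isPGroup ⟨m, hg⟩)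
    (fun y k hk => hr y y.2 k hk) (g := ⟨g, mem_zpowers g⟩) (by
      rw [hψ.charKer_restrict, hf, bot_subgroupOf]
      exact fun e => h1 (congrArg Subtype.val e))
  rwa [charDegree_restrict] at this

namespace Setup

variable {S : Setup p G} {ζ : G → ℂ} {i : (ZMod p)ˣ}

theorem index_center (hV : S.Vr = center G) : (center G).index = p * S.ee * S.N.index := by
  obtain ⟨n₀, hn₀⟩ := S.exists_gen_al
  have h1 := Nat.card_eq_of_bijective _ (bijective_N hn₀)
  rw [Nat.card_prod, Nat.card_prod, Nat.card_zmod, Nat.card_fin, hV] at h1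
  refine Nat.eq_of_mul_eq_mul_left (Nat.card_pos (α := center G)) ?_
  rw [card_mul_index, ← S.N.card_mul_index, ← h1]
  ring

theorem Low.pow_eq (h : S.Low ζ i) (he : 2 * S.ee + 1 ≤ p) {n : ℕ} (hn0 : n ≠ 0)
    (hn : ∀ v ∈ S.Vr, v ^ n = 1) {g : G} (hg : ¬ p ∣ orderOf g) {k : ℕ}
    (hk : k.Coprime (orderOf g)) (h1 : 1 ≡ k [MOD n.gcd (orderOf g)]) : ζ (g ^ k) = ζ g := by
  classical
  obtain ⟨l, l1, l2⟩ := Nat.chineseRemainder' h1
  obtain ⟨w, w1, w2, w3⟩ := Nat.forall_exists_prime_gt_and_modEq (zpowers S.x).index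
    (mul_ne_zero hn0 (orderOf_pos g).ne') (Nat.Coprime.mul_right
      (l1.gcd_eq.trans (Nat.gcd_one_left n)) (l2.gcd_eq.trans hk))
  have hw := Nat.coprime_of_lt_prime index_ne_zero_of_finite w1 w2
  obtain ⟨κ, hκ⟩ : ∃ κ, κ ∉ S.Af := by
    by_contra! e
    have := S.card_Af
    rw [Finset.eq_univ_of_forall e, Finset.card_univ, ZMod.card_units] at this
    have := S.ee_pos
    omega
  obtain ⟨ξ, a1, a2⟩ := h.exists_conj 1 hw
  obtain ⟨ξ', a3, a4⟩ := h.exists_conj κ hw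
  have a5 := a1.inner_sub a3 (fun g hg => (a2 g hg).trans (a4 g hg).symm) h.irr.isClassFunction
    fun v hv g => by
      rw [a2 v (S.mem_V.1 hv).2, a2 1 (by simpa using hp.out.ne_one), one_pow,
        apply_mul_cen h.irr (h.cen v hv), (pow_eq_pow_iff_modEq.2 (((w3.of_mul_right _).trans
          l1).of_dvd (orderOf_dvd_of_pow_eq_one (hn v hv)))).trans (pow_one v)]
  have a6 := sum_gp_gp (S := S) i (-(i * κ : (ZMod p)ˣ))
  rw [Finset.sum_eq_zero (s := S.Af) fun a ha => Finset.sum_eq_zero fun b hb => if_neg fun e =>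
    hκ (by
      rw [neg_mul, ← sub_eq_add_neg, sub_eq_zero, ← Units.val_mul, ← Units.val_mul, Units.val_inj,
        mul_assoc, mul_right_inj] at e
      rw [eq_mul_inv_of_mul_eq e.symm]
      exact S.mul_mem_Af hb (S.inv_mem_Af ha))] at a6
  have a7 := sum_gp_conj (S := S) i
  simp only [conj_gp, neg_mul] at a6 a7
  simp only [h.val, mul_one, mul_sub, neg_mul, Finset.sum_sub_distrib, Finset.sum_neg_distrib, a6,
    a7] at a5
  obtain ⟨m, hm⟩ := h.irr.isCharacter.exists_nat_classInner a3.irr.isCharacter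
  have a8 : ζ = ξ := by_contra fun e => by
    rw [h.irr.classInner_eq_zero a1.irr e, hm] at a5
    have h8 : ((p * S.ee * (m + 1) : ℕ) : ℂ) = 0 := by
      push_cast
      linear_combination -a5
    have := hp.out.pos
    have := S.ee_pos
    exact absurd (Nat.cast_eq_zero.1 h8) (by positivity)
  rw [← pow_eq_pow_iff_modEq.2 ((w3.of_mul_left _).trans l2), ← a2 g hg, ← a8]

theorem CB.mem_X {ω : G → ℂ} (B : S.CB ω) (he : S.ee + 1 ≠ p) {φ : IrrCharacter G}
    (hc : ∀ v ∈ S.Vr, ∀ g, (φ : G → ℂ) (v * g) = ω v * (φ : G → ℂ) g)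
    (h : ∀ k : (ZMod p)ˣ, (φ : G → ℂ) (S.x ^ (k : ZMod p).val) = 1) : φ ∈ B.X ∧ B.δ φ = 1 := by
  refine (and_iff_left_of_imp fun e => ?_).2 (by_contra fun e => he ?_)
  · exact_mod_cast (B.valX φ e 1).symm.trans (h 1)
  have h1 := B.inner_w φ.isClassFunction hc 1
  have h2 := S.sum_units_gp (-1)
  have h3 := S.sum_units_gp 1
  simp only [Units.val_neg, neg_mul] at h2
  rw [Finset.sum_eq_zero fun χ hχ => by
    rw [φ.2.classInner_eq_zero χ.2 fun e' => e (Subtype.ext e' ▸ hχ), mul_zero]] at h1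
  simp only [h, one_mul, Finset.sum_sub_distrib, h2, sum_units_const'] at h1
  have h4 : (p * S.ee : ℂ) ≠ 0 :=
    mul_ne_zero (Nat.cast_ne_zero.2 hp.out.ne_zero) (Nat.cast_ne_zero.2 S.ee_pos.ne')
  have h5 : (φ : G → ℂ) = B.Y 1 := by_contra fun e' => h4 (by
    rw [φ.2.classInner_eq_zero (B.Y 1).2 e'] at h1
    linear_combination -h1)
  rw [h5, (B.Y 1).2.classInner_self] at h1
  have h6 : (B.ε : ℂ) = -1 := mul_left_cancel₀ h4 (by linear_combination -h1)
  rw [Finset.sum_congr rfl fun k _ => show _ = (-1 : ℂ) by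
    have := (B.fam.val 1 k).symm.trans (h5 ▸ h k)
    rw [h6] at this
    linear_combination -this, sum_units_const'] at h3
  exact_mod_cast (show (S.ee + 1 : ℂ) = p by linear_combination h3)

theorem Vr_le_center_of_rat (hζ : IsIrrCharacter G ζ) (hf : charKer ζ = ⊥)
    (hd : charDegree ζ + 1 = p) (hx : ζ S.x = -1)
    (hr : ∀ g k, p ∣ orderOf g → k.Coprime (Nat.card G) → ζ (g ^ k) = ζ g) :
    S.Vr ≤ center G := fun v hv => by
  have h1 : ∀ v : S.C, ¬ p ∣ orderOf v → ∀ k : (ZMod p)ˣ,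
      ζ (S.x ^ (k : ZMod p).val * v) = ζ (S.x * v) := fun v hv k => by
    obtain ⟨l, l1, l2, l3⟩ := S.exists_exponent k (Nat.coprime_one_left _)
    have := S.dvd_orderOf_x_pow_mul 1 v.2 (by rwa [orderOf_coe])
    rw [Units.val_one, ZMod.val_one, pow_one] at this
    rw [← hr _ l this l1, (show Commute S.x v from congrArg Subtype.val (S.commute_xc v)).mul_pow,
      l3 v (by rwa [orderOf_coe]), pow_one, ← l2, ZMod.val_natCast,
      ← pow_mod_orderOf S.x l, S.hx]
  obtain ⟨θ, a1, -, a2⟩ := S.exists_four hζ.isCharacter 0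
  obtain ⟨φ, a3, -, a4⟩ := S.exists_four hζ.isCharacter 1
  obtain ⟨hC, hv'⟩ := S.mem_V.1 hv
  have hp0 : (p : ℂ) ≠ 0 := Nat.cast_ne_zero.2 hp.out.ne_zero
  have hd' : ζ 1 + 1 = p := by rw [← hζ.coe_charDegree]; exact_mod_cast hd
  have a5 := sum_units_ps (1 : ZMod p)
  simp only [mul_one, if_neg one_ne_zero, zero_sub] at a5
  have a6 : ∀ v : S.C, ¬ p ∣ orderOf v → p * θ v = ζ v + (p - 1) * ζ (S.x * v) ∧
      p * φ v = ζ v - ζ (S.x * v) := fun v hv => by
    rw [a2 v hv, a4 v hv]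
    simp only [h1 v hv, zero_mul, ps_zero, mul_one, sum_units_const', one_mul, ← Finset.mul_sum, a5,
      mul_neg, sub_eq_add_neg, and_self]
  obtain ⟨b1, b2⟩ := a6 1 (by simpa using hp.out.ne_one)
  obtain ⟨b3, b4⟩ := a6 ⟨v, hC⟩ (by rwa [← orderOf_coe])
  rw [coe_one, mul_one, hx] at b1 b2
  have b5 : charDegree θ = 0 := Nat.cast_eq_zero.1 (a1.coe_charDegree.trans
    (mul_left_cancel₀ hp0 (by linear_combination b1 + hd')))
  have b6 : φ 1 = 1 := mul_left_cancel₀ hp0 (by linear_combination b2 + hd')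
  rw [norm_le_zero_iff.1 ((a1.norm_le _).trans_eq (by rw [b5, Nat.cast_zero]))] at b3
  refine hζ.isCharacter.charCenter_le_center hf (hζ.isCharacter.mem_charCenter.2 ?_)
  rw [show ζ v = charDegree ζ * φ ⟨v, hC⟩ from mul_left_cancel₀ hp0 (by
    rw [hζ.coe_charDegree]; linear_combination -b3 - ζ 1 * b4 + (ζ (S.x * v) - ζ v) * hd'), norm_mul,
    a3.norm_eq_one_of_apply_one b6, mul_one, Complex.norm_natCast]

end Setup

end Cfsg.Agent.Blk.One
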