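import Mathlib
import Cfsg.Agent.Blk.LowRat
import Cfsg.Agent.S0998
import Cfsg.Agent.S0497

/-!
# Linear groups of degree `3` with a non-normal Sylow `5`-subgroup
-/

set_option autoImplicit false
set_option linter.unusedSectionVars false
set_option linter.style.haveILetI false

namespace Cfsg.Agent.Blk.One

open Cfsg Cfsg.Agent.Ch Subgroup Cfsg.Agent.Blk.Om Cfsg.Agent.GT Cfsg.Agent.Blk.Lin
open scoped ComplexConjugate

variable {G : Type*} [Group G] [Fintype G]

theorem not_dvd_orderOf_of_pow {p q m : ℕ} (hp : p.Prime) (hq : q.Prime) (h : p ≠ q) {g : G}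
    (hg : g ^ q ^ m = 1) : ¬ p ∣ orderOf g := fun e => h ((Nat.prime_dvd_prime_iff_eq hp hq).1
  (hp.dvd_of_dvd_pow (e.trans (orderOf_dvd_of_pow_eq_one hg))))

theorem coprime_orderOf_of_pow {k q m : ℕ} (h : k.Coprime q) {g : G} (hg : g ^ q ^ m = 1) :
    k.Coprime (orderOf g) := (h.pow_right m).coprime_dvd_right (orderOf_dvd_of_pow_eq_one hg)

namespace Setup

variable {ζ : G → ℂ}

theorem Gen.five [Fact (Nat.Prime 5)] {S : Setup 5 G} {i : (ZMod 5)ˣ} (hG : S.Gen)
    (hN : S.N ≠ ⊤) (h : S.Low ζ i) (hf : charKer ζ = ⊥) (he : S.ee = 2) :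
    Nonempty (G ⧸ center G ≃* Matrix.ProjectiveSpecialLinearGroup (Fin 2) (ZMod 5)) ∨
      Nonempty (G ⧸ center G ≃* alternatingGroup (Fin 6)) := by
  have hd : charDegree ζ = 3 := by have := h.deg; omega
  have hζ := h.irr.isCharacter
  have hV := Vr_eq_center hN h hf
  have hP := hG.perfect (S.relIndex_ne_one_of_lt hζ hf (by omega) hN)
  have h1 : ∀ v ∈ center G, v ^ 3 = 1 := fun v hv => hd ▸ pow_degree_eq_one hP h.irr hf hv
  have h2 : ∀ {g : G} {k : ℕ}, ¬ 5 ∣ orderOf g → k.Coprime (orderOf g) →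
      1 ≡ k [MOD Nat.gcd 3 (orderOf g)] → ζ (g ^ k) = ζ g := fun hg =>
    h.pow_eq (by omega) (by omega) (hV ▸ h1) hg
  have h3 : ∀ m, 2 ^ m ∣ Nat.card G → 2 ^ m ∣ 8 := fun m hm => by
    obtain ⟨Q, hQ⟩ := Sylow.exists_subgroup_card_pow_prime 2 hm
    have a1 : ∀ g ∈ Q, g ^ 2 ^ m = 1 := fun g hg =>
      hQ ▸ congrArg Subtype.val (pow_card_eq_one' (x := (⟨g, hg⟩ : Q)))
    obtain ⟨k, hk⟩ := ((hζ.mul hζ).isGeneralizedCharacter.sub
      IsCharacter.one.isGeneralizedCharacter).exists_apply_one_eq_card_mul Q fun g hg hg' => by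
      obtain ⟨y, a2, a3⟩ := rat_value Nat.prime_two hζ hf (a1 g hg) hg' fun y hy k hk => by
        have a2 := a1 y (zpowers_le.2 hg hy)
        refine h2 (not_dvd_orderOf_of_pow Fact.out Nat.prime_two (by omega) a2)
          (coprime_orderOf_of_pow hk a2) ?_
        rw [coprime_orderOf_of_pow (by norm_num) a2]
        exact Nat.modEq_one
      rw [hd, Finset.mem_Icc] at a2
      obtain rfl | rfl | rfl : y = 1 ∨ y = 2 ∨ y = 3 := by omega
      · simp only [Pi.sub_apply, Pi.mul_apply, a3, hd]; norm_num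
      · simp only [Pi.sub_apply, Pi.mul_apply, a3, hd]; norm_num
      refine (hg' (orderOf_eq_one_iff.1 (Nat.eq_one_of_dvd_coprimes (coprime_orderOf_of_pow
        (k := 3) (by norm_num) (a1 g hg)) (orderOf_dvd_of_pow_eq_one (h1 g
        (hζ.charCenter_le_center hf (hζ.mem_charCenter.2 ?_)))) dvd_rfl))).elim
      rw [a3, hd]
      norm_num
    simp only [Pi.sub_apply, Pi.mul_apply, ← hζ.coe_charDegree, hd, hQ] at hk
    exact Int.natCast_dvd_natCast.1 ⟨k, by
      rw [← Int.cast_inj (α := ℂ)]; push_cast at hk ⊢; linear_combination hk⟩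
  have h4 : ∀ m, 3 ^ m ∣ Nat.card G → 3 ^ m ∣ 162 := fun m hm => by
    have a1 := hζ.add hζ.complexConj
    have a2 := hζ.charDegree_add hζ.complexConj
    rw [charDegree_congr (χ := fun g => conj (ζ g)) hζ.conj_apply_one, hd] at a2
    have := schur_dvd Nat.prime_three a1 (by
      rw [hζ.charKer_add hζ.complexConj, hf, bot_inf_eq]) (fun g k hg hk => by
        have b1 : ∀ {g : G} {k : ℕ}, g ^ 3 ^ m = 1 → k % 3 = 1 → ζ (g ^ k) = ζ g := fun hg hk =>
          h2 (not_dvd_orderOf_of_pow Fact.out Nat.prime_three (by omega) hg)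
            (coprime_orderOf_of_pow (Nat.coprime_comm.1 ((Nat.Prime.coprime_iff_not_dvd
              Nat.prime_three).2 (by omega))) hg)
            ((show 1 ≡ _ [MOD 3] from hk.symm).of_dvd (Nat.gcd_dvd_left _ _))
        have b2 := (Nat.Prime.coprime_iff_not_dvd Nat.prime_three).1 hk.symm
        rcases (show k % 3 = 1 ∨ k % 3 = 2 by omega) with e | e
        · simp only [Pi.add_apply, b1 hg e]
        have b3 : g ^ k = g⁻¹ ^ (k * (3 ^ (m + 1) - 1)) := by
          rw [mul_comm, pow_mul, inv_pow, pow_sub g (Nat.one_le_pow _ _ (by omega)), pow_succ,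
            pow_mul, hg]
          simp
        rw [Pi.add_apply, Pi.add_apply, b3, b1 (by rw [inv_pow, hg, inv_one]) (by
          rw [Nat.mul_mod, e, show (3 ^ (m + 1) - 1) % 3 = 2 by
            have := Nat.one_le_pow m 3 (by omega)
            omega]), hζ.apply_inv, Complex.conj_conj, add_comm]) hm
    rwa [a2] at this
  have h5 : Nat.card G ∣ 3240 := (Nat.dvd_iff_prime_pow_dvd_dvd _ _).2 fun q m hq hm => by
    rcases m with _ | m
    · simp
    by_cases e : 4 < q
    · obtain rfl : q = 5 := by_contra fun e' => hG.not_dvd hN h hf (by omega) hq (by omega) e'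
        ((dvd_pow_self q m.succ_ne_zero).trans hm)
      rcases m with _ | m
      · norm_num
      · exact (S.not_sq_dvd ((pow_dvd_pow 5 (by omega)).trans hm)).elim
    have := hq.two_le
    interval_cases q
    · exact (h3 _ hm).trans (by norm_num)
    · exact (h4 _ hm).trans (by norm_num)
    · norm_num at hq
  obtain ⟨_, hZ⟩ := hG.simple hN hζ hf (by omega)
  have h6 := index_center hV
  have h7 := S.index_N_modEq
  have h8 := mt index_eq_one.1 hN
  have h9 := S0998.four_dvd (G := G ⧸ center G) (fun e => top_ne_bot (α := Subgroup (G ⧸ center G))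
    (hZ ▸ (center_eq_top_iff.2 inferInstance).symm)) ⟨5 * S.N.index, by
      rw [← index, h6, he]; ring⟩
  have h10 := (index_dvd_card (center G)).trans h5
  rw [he] at h6
  rw [← index, h6] at h9
  rw [h6, show 3240 = 5 * 2 * 324 by norm_num, Nat.mul_dvd_mul_iff_left (by norm_num)] at h10
  have h11 := (by decide +kernel : ∀ n ∈ Nat.divisors 324, n % 5 = 1 % 5 → n ≠ 1 →
    2 ^ 2 ∣ 5 * 2 * n → n = 6 ∨ n = 36) _ (Nat.mem_divisors.2 ⟨h10, by norm_num⟩) h7 h8 h9
  rcases h11 with e | e <;> rw [e] at h6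
  · obtain ⟨e⟩ := S0494.result (G := G ⧸ center G) h6
    obtain ⟨f⟩ := Cl.psl2_zmod_five_equiv_alt
    exact Or.inl ⟨e.trans f.symm⟩
  · exact Or.inr (S0497.result h6)

end Setup

end Cfsg.Agent.Blk.One
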