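import Mathlib
import Cfsg.Agent.Blk.LowFive
import Cfsg.Agent.S0984

/-!
# Linear groups of degree `4` with a non-normal Sylow `7`-subgroup
-/

set_option autoImplicit false
set_option linter.unusedSectionVars false
set_option linter.style.haveILetI false

namespace Cfsg.Agent.Blk.One

open Cfsg Cfsg.Agent.Ch Subgroup Cfsg.Agent.Blk.Om Cfsg.Agent.GT Cfsg.Agent.Blk.Lin
open scoped ComplexConjugate

theorem seven_arith {a b c s r s' r' d : ℕ} (h0 : d = 21) (h1 : 21 = b + a * 6 + s' * 7 + r')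
    (h2 : 2 * b + 2 * a = s' + 2) (h3 : d = a * 6 + b * 1 + c * 15 + s * 10 + r)
    (h4 : (6 * (-a + b + c) - 3 * s : ℤ) = 0) : a = 0 ∧ b = 1 ∧ c = 0 ∧ s = 2 ∧ r = 0 ∨
      a = 1 ∧ b = 1 ∧ s' = 2 ∧ r' = 0 ∨ a = 1 ∧ b = 0 ∧ c = 1 ∧ s = 0 ∧ r = 0 := by
  have : a ≤ 1 := by omega
  have : b ≤ 2 := by omega
  interval_cases a <;> interval_cases b <;> omega

variable {G : Type*} [Group G] [Fintype G]

namespace Setup

variable {ζ : G → ℂ}

theorem Gen.psl_of_irr {p : ℕ} [Fact p.Prime] {S : Setup p G} (hG : S.Gen) (hN : S.N ≠ ⊤)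
    (hζ : IsCharacter G ζ) (hf : charKer ζ = ⊥) (hd : charDegree ζ + 1 < p) {χ : G → ℂ}
    (hχ : IsIrrCharacter G χ) (h1 : charDegree χ ≠ 1) (h : 2 * charDegree χ + 1 = p) :
    Nonempty (G ⧸ center G ≃* Matrix.ProjectiveSpecialLinearGroup (Fin 2) (ZMod p)) := by
  haveI := hχ.isClassFunction.charKer_normal
  haveI := Fintype.ofFinite (G ⧸ charKer χ)
  have hP := hG.perfect (S.relIndex_ne_one_of_lt hζ hf hd hN)
  have h2 : charKer χ ≠ ⊤ := fun e => h1 (hχ.isCharacter.charDegree_eq_one_iff.2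
    (hχ.apply_one_eq_one_iff_charCenter.2 (top_unique (e ▸ charKer_le_charCenter χ))))
  have h3 := (hG.normal_cases hζ hf hd _).resolve_right h2
  have hK : ¬ p ∣ Nat.card (charKer χ) := fun e => not_dvd_card_center hN
    (e.trans (card_dvd_of_le h3))
  obtain ⟨φ, a1, a2, a3⟩ := hχ.exists_faithful_quotient _ rfl
  obtain ⟨e⟩ := (S.quot _ hK).psl_of_half (fun e => hN (by
    have := congrArg (comap (QuotientGroup.mk' (charKer χ))) e
    rwa [show (S.quot _ hK).N = S.N.map _ from rfl, comap_map_eq, QuotientGroup.ker_mk',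
      sup_eq_left.2 ((S.le_C_of_lt hζ hf hd _ hK).trans S.C_le_N)] at this)) a1.isCharacter a2
    (by rwa [charDegree_congr (ψ := χ) (congrFun a3 1).symm])
  generalize charKer χ = K at *
  have h4 : (center (G ⧸ K)).comap (QuotientGroup.mk' K) = center G := le_antisymm
    ((hG.normal_cases hζ hf hd _).resolve_right fun e => h2 (top_unique (hP ▸
      Subgroup.commutator_le.2 fun a _ b _ => (QuotientGroup.eq_one_iff _).1
        (commutatorElement_eq_one_iff_mul_comm.2 (mem_center_iff.1 (mem_comap.1 (e ▸ mem_top b))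
          (a : G ⧸ K)))))) fun z hz => mem_comap.2 (mem_center_iff.2 fun g => by
    obtain ⟨g, rfl⟩ := QuotientGroup.mk_surjective g
    exact congrArg QuotientGroup.mk (mem_center_iff.1 hz g))
  exact ⟨((QuotientGroup.quotientMulEquivOfEq (N := ((QuotientGroup.mk' (center (G ⧸ K))).comp
      (QuotientGroup.mk' K)).ker) (by
    rw [← MonoidHom.comap_ker, QuotientGroup.ker_mk', h4])).trans
    (QuotientGroup.quotientKerEquivOfSurjective _
      ((QuotientGroup.mk'_surjective _).comp (QuotientGroup.mk'_surjective _)))).trans e⟩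

/-- The principal `5`-block of a hypothetical group with central quotient of order `20160`. -/
theorem exists_five [Fact (Nat.Prime 5)] (hζ : IsIrrCharacter G ζ) (hf : charKer ζ = ⊥)
    (hd : charDegree ζ = 4) (h1 : ∀ v ∈ center G, v * v = 1) (h2 : (center G).index = 20160)
    (h3 : ¬ 5 ^ 2 ∣ Nat.card G)
    (hr : ∀ g k, 5 ∣ orderOf g → k.Coprime (orderOf g) → ζ (g ^ k) = ζ g) {a : IrrCharacter G}
    (ha : charDegree (a : G → ℂ) = 6) (h4 : ∀ v ∈ center G, ∀ g, (a : G → ℂ) (v * g) = (a : G → ℂ) g)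
    (h5 : ∀ g, 5 ∣ orderOf g → (a : G → ℂ) g = sqz (-1) ζ g) : ∃ (m n s r : ℕ),
      classInner (sqz 1 (a : G → ℂ)) (irrOne G) = m ∧ classInner (sqz 1 (a : G → ℂ)) a = n ∧
      21 = m + n * 6 + s * 7 + r ∧ 2 * m + 2 * n = s + 2 ∧ (r = 0 → ∀ g, ¬ 5 ∣ orderOf g →
        sqz 1 (a : G → ℂ) g = m + n * (a : G → ℂ) g + s * (1 + (a : G → ℂ) g)) := by
  classical
  obtain ⟨P⟩ : Nonempty (Sylow 5 G) := inferInstance
  obtain ⟨T, -⟩ := exists_setup P (card_sylow_of_not_sq P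
    ((show 5 ∣ _ by rw [h2]; norm_num).trans (index_dvd_card (center G))) h3)
  have a0 : ∀ y ∈ zpowers T.x, y ≠ 1 → ζ y = -1 := fun y hy h0 => by
    obtain ⟨z, b1, b2⟩ := rat_value (q := 5) Fact.out hζ.isCharacter hf (g := y) (m := 1)
      (by rw [pow_one, ← orderOf_dvd_iff_pow_eq_one, T.orderOf_of_mem hy h0]) h0 fun z hz k hk => by
        rcases eq_or_ne z 1 with rfl | e
        · rw [one_pow]
        · have := T.orderOf_of_mem (zpowers_le.2 hy hz) e
          exact hr z k this.symm.dvd (this ▸ hk)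
    rw [hd, Finset.mem_Icc] at b1
    rw [b2, hd, show z = 1 by omega]
    norm_num
  have a1 : ∀ y ∈ zpowers T.x, y ≠ 1 → y * y ∈ zpowers T.x ∧ y * y ≠ 1 := fun y hy h0 =>
    ⟨mul_mem hy hy, fun e => by
      have := orderOf_dvd_of_pow_eq_one ((sq y).trans e)
      rw [T.orderOf_of_mem hy h0] at this
      omega⟩
  have a2 : ∀ y ∈ zpowers T.x, y ≠ 1 → (a : G → ℂ) y = 1 := fun y hy h0 => by
    rw [h5 y (T.orderOf_of_mem hy h0).symm.dvd, sqz, a0 y hy h0, a0 _ (a1 y hy h0).1 (a1 y hy h0).2]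
    norm_num
  have a3 : ∀ k : (ZMod 5)ˣ, T.x ^ (k : ZMod 5).val ∈ zpowers T.x ∧ T.x ^ (k : ZMod 5).val ≠ 1 :=
    fun k => ⟨pow_mem (mem_zpowers _) _, fun e => by simpa [e] using T.dvd_orderOf_x_pow k⟩
  have hV : T.Vr = center G := le_antisymm (Vr_le_center_of_rat hζ hf (by omega)
    (a0 _ (mem_zpowers _) T.x_ne_one) fun g k hg hk =>
      hr g k hg (hk.coprime_dvd_right (orderOf_dvd_natCard g))) fun v hv => T.mem_V.2
    ⟨T.mem_C_of_commute (mem_zpowers _) T.x_ne_one (mem_center_iff.1 hv _).symm, fun e => by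
      have := Nat.le_of_dvd two_pos (e.trans (orderOf_dvd_of_pow_eq_one ((sq v).trans (h1 v hv))))
      omega⟩
  have he : T.ee = 2 := by
    have b1 := index_center hV
    have b2 : T.N.index % 5 = 1 := T.index_N_modEq
    have b3 : T.ee ∣ 4 := T.relIndex_dvd
    have b4 := Nat.le_of_dvd (by omega) b3
    interval_cases T.ee <;> omega
  obtain ⟨B⟩ := T.exists_cb (ω := fun _ => 1) hV.le 1 rfl fun _ _ => rfl
  obtain ⟨b1, b2⟩ := B.mem_X (by omega) (φ := irrOne G) (by simp) (by simp)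
  obtain ⟨b3, b4⟩ := B.mem_X (by omega) (φ := a) (fun v hv g => by rw [h4 v (hV ▸ hv), one_mul])
    fun k => a2 _ (a3 k).1 (a3 k).2
  have b5 := charDegree_irrOne' G
  have b6 : irrOne G ≠ a := fun e => by rw [e] at b5; omega
  have hX : B.X = {irrOne G, a} := (Finset.eq_of_subset_of_card_le (by
    simp [Finset.insert_subset_iff, b1, b3]) (by rw [B.card_X, he, Finset.card_pair b6])).symm
  have b7 := B.deg_rel
  rw [hX, Finset.sum_pair b6, b2, b4, b5, ha] at b7
  obtain ⟨b8, b9⟩ : B.ε = 1 ∧ charDegree (B.Y 1 : G → ℂ) = 7 := by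
    rcases B.fam.sign with e | e <;> rw [e] at b7 ⊢ <;> omega
  have hΦ := isCharacter_sqz (z := 1) (by norm_num) a.isCharacter
  obtain ⟨m, s, r, R, c1, c2, c3, c4, c5, c6⟩ := B.decomp hΦ fun v hv g => by
    rw [sqz, sqz, h4 v (hV ▸ hv), one_mul, ← mul_assoc, mul_assoc v g,
      mem_center_iff.1 (hV ▸ hv) g, ← mul_assoc, h1 v (hV ▸ hv), one_mul]
  have c7 := charDegree_sqz (z := 1) (by norm_num) a.isCharacter
  rw [hX, Finset.sum_pair b6, b5, ha, b9] at c5
  rw [hX, Finset.sum_pair b6, b2, b4, b8, he, Finset.sum_congr rfl fun k _ => show _ = (1 : ℂ) by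
    rw [sqz, a2 _ (a3 k).1 (a3 k).2, a2 _ (a1 _ (a3 k).1 (a3 k).2).1 (a1 _ (a3 k).1 (a3 k).2).2]
    norm_num, sum_units_const'] at c6
  have c8 : _ = (4 : ℤ) := Int.cast_injective (c6.trans (by norm_num))
  refine ⟨m (irrOne G), m a, s, r, c3 _, c3 a, by rw [ha] at c7; omega, by omega,
    fun e g hg => ?_⟩
  have c9 := B.reg g hg
  rw [hX, Finset.sum_pair b6, b2, b4, b8] at c9
  rw [c4 g hg, hX, Finset.sum_pair b6,
    norm_le_zero_iff.1 ((c1.norm_le g).trans_eq (by rw [c2, e, Nat.cast_zero]))]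
  simp only [Int.cast_one, one_mul, coe_irrOne] at c9 ⊢
  rw [c9]
  ring

theorem Gen.seven [Fact (Nat.Prime 7)] {S : Setup 7 G} {i : (ZMod 7)ˣ} (hG : S.Gen)
    (hN : S.N ≠ ⊤) (h : S.Low ζ i) (hf : charKer ζ = ⊥) (he : S.ee = 3) :
    Nonempty (G ⧸ center G ≃* Matrix.ProjectiveSpecialLinearGroup (Fin 2) (ZMod 7)) ∨
      Nonempty (G ⧸ center G ≃* alternatingGroup (Fin 7)) := by
  haveI : Fact (Nat.Prime 5) := ⟨by norm_num⟩
  have hd : charDegree ζ = 4 := by have := h.deg; omega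
  have hζ := h.irr.isCharacter
  have hV := Vr_eq_center hN h hf
  have hP := hG.perfect (S.relIndex_ne_one_of_lt hζ hf (by omega) hN)
  obtain ⟨B⟩ := h.exists_cb hV.le
  obtain ⟨a, b, c, la, lb, lc, ls, lr, sa, sb, sc, ss, sr, ha, hb, hc, hs, hn, hl, hs'⟩ :=
    h.exists_num hP he (by omega) B
  rw [hd] at hn
  have hn' := hn.sum
  rcases hn.seven with ⟨-, h1⟩ | ⟨a1, a2, c1, rfl, rfl, rfl, rfl, rfl, rfl, h1⟩
  · exact Or.inl (hG.psl_of_irr hN hζ hf (by omega) (B.Y 1).2 (by omega) (by omega))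
  replace hl := hl rfl
  replace hs' := hs' rfl
  simp only [Nat.cast_zero, zero_mul, add_zero, Nat.cast_one, one_mul] at hl hs'
  obtain ⟨_, hZ⟩ := hG.simple hN hζ hf (by omega)
  have h2 : 4 ∣ (center G).index := hd ▸ h.irr.charDegree_dvd_index_center
  obtain ⟨g, g1, g2, T, g3⟩ := exists_central_involution (K := G ⧸ center G)
    (Dvd.dvd.trans (by norm_num) h2)
  obtain ⟨g, rfl⟩ := QuotientGroup.mk_surjective g
  replace g1 : g ∉ center G := mt (QuotientGroup.eq_one_iff g).2 g1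
  replace g2 : g * g ∈ center G := (QuotientGroup.eq_one_iff _).1 g2
  have g4 := apply_eq_zero_of_coprime h.irr hf g1 (by
    rw [hd]
    exact Nat.Coprime.pow_left 2 ((Nat.prime_two.coprime_iff_not_dvd).2 fun e =>
      T.not_dvd_index (e.trans (index_dvd_of_le g3))))
  have g5 := not_dvd_of_sq hN (by omega) g2
  have g6 := mul_conj_cen h.irr (h.cen _ (hV ▸ g2))
  have h0 : ζ 1 = 4 := by rw [← hζ.coe_charDegree, hd]; rfl
  by_cases h3 : charDegree (c : G → ℂ) = 8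
  · obtain ⟨x, y, z, n, n1, x1, y1, -, n2, -, -, n3, n4⟩ := B.invol
      (neg_one_notMem (by omega) (by rw [he]; decide)) ha hb hc hs g2 (hV ▸ g2) g5 rfl g6
      (u := -6) (by rw [a1, a2]; rfl) rfl (w := 8) (by rw [c1, h3]; rfl)
    have n5 := hG.abs_ne hζ hf (by omega) (B.Y 1).2 (by omega) g1 g6 n1
    have n6 := hl g g5
    have n7 := hs' g g5
    rw [sqz, x1, y1, a1] at n6
    rw [sqz, x1, y1, n1, a1] at n7
    refine (inv_seven (v := B.δ b * charDegree (b : G → ℂ)) (la := la) (lb := lb) (sa := sa)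
      (sb := sb) (n := n) ?_ rfl ?_ n4).elim
    · rcases h1 with ⟨e1, e2, e3, rfl, rfl, rfl, rfl, e4⟩ | ⟨e1, e2, e3, e4, -, e5⟩ <;>
        rw [e1] at n3 <;> rw [e3] <;> omega
    rw [← Int.cast_inj (α := ℂ)]
    refine mul_left_cancel₀ (left_ne_zero_of_mul_eq_one g6) ?_
    rw [h0]
    rcases h1 with ⟨-, -, e3, -, rfl, -, rfl, -⟩ | ⟨-, -, e3, -⟩ <;> rw [e3, h0] at n6 n7 <;>
      push_cast at n6 n7 ⊢ <;> linear_combination n7 - n6
  obtain ⟨e1, e2, e3, rfl, rfl, rfl, rfl, e4, e5⟩ : B.ε = 1 ∧ charDegree (B.Y 1 : G → ℂ) = 10 ∧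
    B.δ b = 1 ∧ la = 1 ∧ lb = 0 ∧ sa = 0 ∧ sb = 0 ∧ charDegree (b : G → ℂ) = 1 ∧
    charDegree (c : G → ℂ) = 15 := by omega
  simp only [Nat.cast_zero, zero_mul, add_zero, zero_add, Nat.cast_one, one_mul] at hl hs'
  obtain rfl := eq_irrOne_of_perfect hP e4
  have h4 : ∀ v ∈ S.Vr, (ζ v / ζ 1) ^ 2 = 1 := fun v hv => by
    simpa using (B.covX _ hb v hv 1).symm
  have h5 : ∀ v ∈ center G, v * v = 1 := fun v hv => mem_bot.1 (hf ▸ h.irr.mem_charKer.2 (by
    simpa [h4 v (hV ▸ hv)] using apply_sq_cen h.irr (h.cen v (hV ▸ hv)) 1))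
  have h6 : ∀ g k, ¬ 7 ∣ orderOf g → k.Coprime (orderOf g) → ζ (g ^ k) = ζ g := fun g k hg hk =>
    h.pow_eq (by omega) two_ne_zero (fun v hv => (sq v).trans (h5 v (hV ▸ hv))) hg hk (by
      rcases (Nat.dvd_prime Nat.prime_two).1 (Nat.gcd_dvd_left 2 (orderOf g)) with e | e <;> rw [e]
      · exact Nat.modEq_one
      · exact (Nat.odd_iff.1 (Nat.coprime_two_right.1
          (hk.coprime_dvd_right (e ▸ Nat.gcd_dvd_right _ _)))).symm)
  have h7 : Nat.card G ∣ 40320 := (Nat.dvd_iff_prime_pow_dvd_dvd _ _).2 fun q m hq hm => by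
    rcases m with _ | m
    · simp
    by_cases e : 5 < q
    · obtain rfl : q = 7 := by_contra fun e' => hG.not_dvd hN h hf (by omega) hq (by omega) e'
        ((dvd_pow_self q m.succ_ne_zero).trans hm)
      rcases m with _ | m
      · norm_num
      · exact (S.not_sq_dvd ((pow_dvd_pow 7 (by omega)).trans hm)).elim
    refine (schur_dvd hq hζ hf (fun g k hg hk => h6 g k (not_dvd_orderOf_of_pow Fact.out hq
      (by omega) hg) (coprime_orderOf_of_pow hk hg)) hm).trans ?_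
    have := hq.two_le
    rw [hd]
    interval_cases q <;> first | decide | norm_num at hq
  have h8 := index_center hV
  have h9 := (index_dvd_card (center G)).trans h7
  have h10 := e5 ▸ c.2.charDegree_dvd_index_center
  rw [he] at h8
  rw [h8] at h2 h9 h10
  rw [show 40320 = 7 * 3 * 1920 by norm_num, Nat.mul_dvd_mul_iff_left (by norm_num)] at h9
  rcases (by decide +kernel : ∀ n ∈ Nat.divisors 1920, n % 7 = 1 % 7 → 4 ∣ 7 * 3 * n →
    15 ∣ 7 * 3 * n → n = 120 ∨ n = 960) _ (Nat.mem_divisors.2 ⟨h9, by norm_num⟩) S.index_N_modEq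
    h2 h10 with e | e <;> rw [e] at h8
  · exact Or.inr (S0984.result h8)
  have h11 : ∀ g : G, 5 ∣ orderOf g → ¬ 7 ∣ orderOf g := fun g h1 h2 => by
    obtain ⟨k, hk⟩ := S.exists_conj_mem_C h2
    obtain ⟨v, hv, e⟩ := S.exists_Vr_mul ⟨_, hk⟩
    have : (k * g * k⁻¹) ^ (2 * 7) = 1 := by
      rw [show k * g * k⁻¹ = _ from e, (show Commute v _ from
        (mem_center_iff.1 (hV ▸ hv) _).symm).mul_pow, pow_mul, sq, h5 v (hV ▸ hv), one_pow, one_mul,
        ← pow_mul, ← orderOf_dvd_iff_pow_eq_one, S.hx, ← mul_assoc]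
      exact Dvd.intro_left _ rfl
    rw [conj_pow, conj_eq_one_iff] at this
    exact absurd (h1.trans (orderOf_dvd_of_pow_eq_one this)) (by norm_num)
  have h12 : ∀ v ∈ center G, ∀ g, (a : G → ℂ) (v * g) = (a : G → ℂ) g := fun v hv g => by
    rw [B.covX a ha v (hV ▸ hv), h4 v (hV ▸ hv), one_mul]
  obtain ⟨m₁, m₂, s', r', f1, f2, f3, f4, f5⟩ := exists_five h.irr hf hd h5 h8
    (fun e => absurd (e.trans h7) (by norm_num)) (fun g k hg => h6 g k (h11 g hg)) a2 h12
    fun g hg => (hl g (h11 g hg)).symm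
  have hΦ := isCharacter_sqz (z := 1) (by norm_num) a.isCharacter
  obtain ⟨m, s, r, R, f6, f7, f8, f9, f10, f11⟩ := B.decomp hΦ fun v hv g => by
    rw [sqz, sqz, h12 v (hV ▸ hv), h4 v hv, one_mul, ← mul_assoc, mul_assoc v g,
      mem_center_iff.1 (hV ▸ hv) g, ← mul_assoc, h5 v (hV ▸ hv), one_mul]
  have f12 := charDegree_sqz (z := 1) (by norm_num) a.isCharacter
  obtain rfl : m (irrOne G) = m₁ := Nat.cast_injective ((f8 _).symm.trans f1)
  obtain rfl : m a = m₂ := Nat.cast_injective ((f8 _).symm.trans f2)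
  rw [← Nat.cast_inj (R := ℂ), Nat.cast_add, Nat.cast_add, Nat.cast_sum, hs, a2, e4, e5, e2] at f10
  rw [Finset.sum_eq_zero (s := Finset.univ) fun k _ => by
    rw [sqz, B.valX a ha, ← x_pow_val_add, ← two_mul, show (2 : ZMod 7) * k =
      (Units.mkOfMulEqOne (2 : ZMod 7) 4 rfl * k : (ZMod 7)ˣ) from rfl, B.valX a ha, a1]
    norm_num, Int.cast_sub, Int.cast_mul, Int.cast_sum, hs, a1, e3, c1, e1, he] at f11
  norm_cast at f10
  replace f11 : (6 * (-m a + m (irrOne G) + m c) - 3 * s : ℤ) = 0 := by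
    rw [← Int.cast_inj (α := ℂ)]
    push_cast at f11 ⊢
    linear_combination f11
  rw [a2] at f12
  have f13 := fun g hg => (B.reg g hg).trans (hs _)
  have f14 : r = 0 → ∀ g, ¬ 7 ∣ orderOf g → sqz 1 (a : G → ℂ) g = m a * (a : G → ℂ) g +
      m (irrOne G) + m c * (c : G → ℂ) g + s * (B.Y 1 : G → ℂ) g := fun e g hg => by
    rw [f9 g hg, hs, norm_le_zero_iff.1 ((f6.norm_le g).trans_eq (by rw [f7, e, Nat.cast_zero]))]
    simp
  simp only [a1, e3, c1, e1, coe_irrOne, Int.cast_one, one_mul, Int.cast_neg] at f13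
  have g7 := h4 _ (hV ▸ g2)
  have g8 := hl g g5
  have g9 : sqz 1 (a : G → ℂ) g = 5 := by
    rw [sqz, ← mul_one (g * g), h12 _ g2, irr_one, a2, ← g8, sqz, g4]
    rw [h0] at g7
    push_cast
    linear_combination 2 * g7
  rw [sqz, g4] at g8
  rw [h0] at g7
  rcases seven_arith (by omega) f3 f4 f10 f11 with
    ⟨d1, d2, d3, rfl, rfl⟩ | ⟨d1, d2, rfl, rfl⟩ | ⟨d1, d2, d3, rfl, rfl⟩
  · obtain ⟨u, hu⟩ := exists_prime_orderOf_dvd_card' (G := G) 3
      ((show 3 ∣ _ by rw [h8]; norm_num).trans (index_dvd_card (center G)))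
    have u1 : ∀ k, k.Coprime 3 → ζ (u ^ k) = ζ u := fun k hk => h6 u k (by rw [hu]; decide) (hu ▸ hk)
    obtain ⟨y, u2, u3⟩ := rat_value Nat.prime_three hζ hf (g := u) (m := 1)
      (by rw [pow_one, ← hu, pow_orderOf_eq_one]) (fun e => by simp [e] at hu) fun y hy k hk => by
        have : y ^ 3 ^ 1 = 1 := orderOf_dvd_iff_pow_eq_one.1
          ((orderOf_dvd_of_mem_zpowers hy).trans hu.dvd)
        exact h6 y k (not_dvd_orderOf_of_pow Fact.out Nat.prime_three (by omega) this)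
          (coprime_orderOf_of_pow hk this)
    have u4 := f14 rfl u (by rw [hu]; decide)
    rw [sqz, ← hs' u (by rw [hu]; decide), ← hl u (by rw [hu]; decide), ← hl (u * u) (by
      rw [← sq, (show (orderOf u).Coprime 2 by rw [hu]; decide).orderOf_pow, hu]; decide), d1, d2,
      d3] at u4
    simp only [sqz, ← sq, ← pow_mul, u1 2 (by decide)] at u4
    rw [hd, Finset.mem_Icc] at u2
    obtain rfl | rfl : y = 1 ∨ y = 2 := by omega
    all_goals norm_num [u1 4 (by decide), u3, hd] at u4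
  · have := f5 rfl g fun e => absurd (e.trans (orderOf_dvd_of_pow_eq_one (n := 2 * 2) (by
      rw [pow_mul, sq, sq, h5 _ g2]))) (by norm_num)
    rw [g9, d1, d2, ← g8] at this
    push_cast at this
    exact absurd (show (8 : ℂ) = 0 by
      linear_combination -9 * g7 + (3 * ζ (g * g) / 8 - 1 / 2) * this) (by norm_num)
  · have := f14 rfl g g5
    have g10 := hs' g g5
    rw [sqz, g4] at g10
    rw [g9, d1, d2, d3] at this
    push_cast at this g8 g10
    exact absurd (show (8 : ℂ) = 0 by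
      linear_combination g7 + (ζ (g * g) / 8 - 3 / 2) * (f13 g g5 - this + 2 * g8 + g10))
      (by norm_num)

end Setup

end Cfsg.Agent.Blk.One
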