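import Mathlib
import Cfsg.Agent.Blk.Contrib2

/-!
# Characters whose degree has nearly full `p`-part have height zero
-/

set_option autoImplicit false
set_option linter.unusedSectionVars false
set_option linter.style.haveILetI false

namespace Cfsg.Agent.Blk.One

open Cfsg Cfsg.Agent.Ch Cfsg.Agent.Blk.Om

variable {G : Type*} [Group G] {p : ℕ}

/-- If `ν(χ 1) + 1 ≥ ν |G|` then `χ` has height zero in its block. -/
theorem blockHeight_eq_zero_of_le [Finite G] {M : Ideal AlgInt} (hM : IsPModular p M)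
    {B : Set (IrrCharacter G)} (hB : IsPBlock M B) {χ : IrrCharacter G} (hχ : χ ∈ B)
    (h : (Nat.card G).factorization p ≤ 1 + (charDegree (χ : G → ℂ)).factorization p) :
    blockHeight p B (χ : G → ℂ) = 0 := by
  classical
  haveI := hM.isMaximal
  haveI := Fintype.ofFinite G
  have hp := hM.prime
  by_contra hne
  obtain ⟨η₀, hη₀, h0⟩ := exists_height_zero (p := p) (B := B) ⟨χ, hχ⟩
  have hne' : η₀ ≠ χ := by rintro rfl; exact hne h0
  have hI := om_zReg_mem_of_height_pos hM hB hχ hχ hne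
  choose n hn using fun η : IrrCharacter G => exists_int_pow_mul_contr hp χ η h
  simp only [pow_one] at hn
  have hp0 : (p : ℂ) ≠ 0 := by exact_mod_cast hp.ne_zero
  -- p divides n χ
  have hdvd : (p : ℤ) ∣ n χ := by
    rw [← hM.intCast_mem_iff, ← hn χ, contr_eq_om, ← mul_assoc]
    refine MemLocalIdeal.mul_left ?_ hI
    have := pow_mul_div_memLocalRing hM (m := charDegree (χ : G → ℂ)) (n := Nat.card G) (k := 1)
      χ.2.charDegree_pos.ne' Nat.card_pos.ne' h
    rw [pow_one, χ.2.coe_charDegree] at this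
    rwa [← mul_div_assoc]
  have hsq : (p : ℤ) * n χ = ∑ η, n η ^ 2 := by
    have h1 := contr_self_eq_sum_sq (p := p) χ
    have : ((p : ℤ) * n χ : ℂ) = ∑ η, ((n η : ℂ)) ^ 2 := by
      push_cast
      rw [← hn χ, h1, Finset.mul_sum, Finset.mul_sum]
      refine Finset.sum_congr rfl fun η _ => ?_
      rw [← hn η]; ring
    exact_mod_cast this
  have hη : n η₀ ≠ 0 := by
    intro h'
    have := hn η₀
    rw [h', Int.cast_zero, mul_eq_zero, contr_symm] at this
    rcases this with h | h
    · exact hp0 h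
    · exact contr_ne_zero_of_height_zero hM hB hη₀ hχ h0 h
  have hle : n χ ^ 2 + n η₀ ^ 2 ≤ ∑ η, n η ^ 2 := by
    have : ∑ η ∈ ({χ, η₀} : Finset (IrrCharacter G)), n η ^ 2 ≤ ∑ η, n η ^ 2 :=
      Finset.sum_le_sum_of_subset_of_nonneg (Finset.subset_univ _) fun _ _ _ => sq_nonneg _
    rwa [Finset.sum_pair hne'.symm] at this
  have hpos : 0 < n η₀ ^ 2 := by positivity
  obtain ⟨c, hc⟩ := hdvd
  have hp1 : (0 : ℤ) < p := by exact_mod_cast hp.pos
  rw [← hsq, hc] at hle
  have : (p : ℤ) ^ 2 * (c ^ 2 - c) < 0 := by nlinarith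
  have h2 : 0 ≤ c ^ 2 - c := by
    rcases le_or_gt c 0 with h | h
    · nlinarith
    · nlinarith
  have : 0 ≤ (p : ℤ) ^ 2 * (c ^ 2 - c) := by positivity
  omega

/-- In a block containing a character `χ` with `ν(χ 1) + 1 ≥ ν |G|`, every degree has
`p`-adic valuation at least `ν(χ 1)`. -/
theorem factorization_le_of_le [Finite G] {M : Ideal AlgInt} (hM : IsPModular p M)
    {B : Set (IrrCharacter G)} (hB : IsPBlock M B) {χ ψ : IrrCharacter G} (hχ : χ ∈ B)
    (hψ : ψ ∈ B)
    (h : (Nat.card G).factorization p ≤ 1 + (charDegree (χ : G → ℂ)).factorization p) :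
    (charDegree (χ : G → ℂ)).factorization p ≤ (charDegree (ψ : G → ℂ)).factorization p := by
  have h0 := blockHeight_eq_zero_of_le hM hB hχ h
  rw [blockHeight_eq_zero_iff hχ] at h0
  rw [h0]
  exact minVal_le hψ

end Cfsg.Agent.Blk.One
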