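import Mathlib
import Cfsg.Agent.Blk.OneReal
import Cfsg.Agent.Blk.OnePerm
import Cfsg.Agent.Cl.LinearIso
import Cfsg.Agent.S0806
import Cfsg.Agent.S3331

/-!
# Groups of prime degree `p` with a unique irreducible character of degree `p`
-/

set_option autoImplicit false
set_option linter.unusedSectionVars false
set_option linter.style.haveILetI false

namespace Cfsg.Agent.Blk.One

open Cfsg Cfsg.Agent.Ch Subgroup
open scoped MatrixGroups ComplexConjugate

variable {G : Type*} [Group G] {p : ℕ} [hp : Fact p.Prime] [Fintype G]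

theorem exists_injective_hom (y : G) : ∃ μ : zpowers y →* ℂˣ, Function.Injective μ := by
  haveI : NeZero (orderOf y) := ⟨(orderOf_pos y).ne'⟩
  exact ⟨(rootsOfUnity (orderOf y) ℂ).subtype.comp (mulEquivOfCyclicCardEq (G := zpowers y) (by
    rw [Nat.card_zpowers, Complex.card_rootsOfUnity])).toMonoidHom,
    Subtype.val_injective.comp (MulEquiv.injective _)⟩

theorem detChar_eq_one (hG : commutator G = ⊤) {χ : G → ℂ} (hχ : IsCharacter G χ) {y : G}
    {ψ : zpowers y → ℂ} (hψ : IsCharacter _ ψ) {t : ℕ} (ht : Even t)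
    (h1 : χ 1 = ψ 1 + t * orderOf y) (h : ∀ z : zpowers y, z ≠ 1 → χ z = ψ z) :
    detChar ψ ⟨y, mem_zpowers y⟩ = 1 := by
  haveI := Fintype.ofFinite (zpowers y)
  have h2 : (fun z : zpowers y => χ z) = ψ + t • regChar (zpowers y) := funext fun z => by
    by_cases hz : z = 1
    · simp [hz, h1, regChar_one, -Nat.card_eq_fintype_card]
    · simp [h z hz, regChar_of_ne hz]
  obtain ⟨f, hf⟩ := hχ.exists_detHom
  have h3 := hχ.detChar_restrict (zpowers y) ⟨y, mem_zpowers y⟩
  rw [h2, hψ.detChar_add (isCharacter_regChar.nsmul _), isCharacter_regChar.detChar_nsmul, hf,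
    detChar_of_regular isCharacter_regChar (t := 1) (by
      rw [charDegree_of_apply_one regChar_one, Nat.card_zpowers, one_mul, ← orderOf_coe])
      fun z _ hz => regChar_of_ne hz, ← pow_mul, (ht.mul_left _).neg_one_pow] at h3
  simpa [hom_eq_one_of_perfect hG f y] using h3

theorem indFun_of_index_two {E : Subgroup G} (hE : ∀ a ∈ E, ∀ b ∈ E, a * b = b * a) {w : G}
    (hw : w ∉ E) (c : E →* E) (hc : ∀ z, (c z : G) = w * z * w⁻¹)
    (hTI : ∀ g, ∀ z ∈ E, z ≠ 1 → g * z * g⁻¹ ∈ E → g ∈ E ∨ g * w⁻¹ ∈ E) (f : E → ℂ) {z : E}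
    (hz : z ≠ 1) : indFun E f z = f z + f (c z) := by
  classical
  have h1 : ∀ g : G, extendByZero E f (g * z * g⁻¹) =
      (if g ∈ E then f z else 0) + if g * w⁻¹ ∈ E then f (c z) else 0 := fun g => by
    by_cases h : g ∈ E
    · rw [if_pos h, if_neg fun h' => hw (by simpa using mul_mem (inv_mem h') h), add_zero,
        hE g h z z.2, mul_inv_cancel_right, extendByZero_coe]
    by_cases h' : g * w⁻¹ ∈ E
    · rw [if_neg h, if_pos h', zero_add, ← extendByZero_coe E f (c z), hc,
        show g * z * g⁻¹ = g * w⁻¹ * (w * z * w⁻¹) * (g * w⁻¹)⁻¹ by group, ← hc,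
        hE _ h' _ (c z).2, mul_inv_cancel_right]
    · rw [if_neg h, if_neg h', add_zero, extendByZero_of_not_mem]
      exact fun e => (hTI g z z.2 (fun e => hz (Subtype.ext e)) e).elim h h'
  have h2 : ∀ a : ℂ, ∑ g : G, (if g ∈ E then a else 0) = Nat.card E * a := fun a => by
    rw [← Finset.sum_filter, Finset.sum_const, nsmul_eq_mul, Nat.subtype_card]
    simp
  simp only [indFun_apply', h1, Finset.sum_add_distrib]
  rw [show ∑ g : G, (if g * w⁻¹ ∈ E then f (c z) else 0) = _ from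
    Equiv.sum_comp (Equiv.mulRight w⁻¹) fun g => if g ∈ E then f (c z) else 0, h2, h2, ← mul_add,
    inv_mul_cancel_left₀ (natCard_ne_zero E)]

theorem exists_irr_of_index_two {E : Subgroup G} (hE : ∀ a ∈ E, ∀ b ∈ E, a * b = b * a) {w : G}
    (hw : w ∉ E) (c : E →* E) (hc : ∀ z, (c z : G) = w * z * w⁻¹)
    (hTI : ∀ g, ∀ z ∈ E, z ≠ 1 → g * z * g⁻¹ ∈ E → g ∈ E ∨ g * w⁻¹ ∈ E) {ψ : G → ℂ}
    (hψ : IsIrrCharacter G ψ) (h1 : ψ ≠ fun _ => 1) (h2 : ∀ z ∈ E, z ≠ 1 → ψ z = 1)
    {μ : E →* ℂˣ} (hμ : μ.comp c ≠ μ) :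
    IsIrrCharacter G ((fun _ => 1) + ψ - indFun E ((fun _ => (1 : ℂ)) - fun z => (μ z : ℂ))) ∧ ∀ z : E, z ≠ 1 →
      ((fun _ => 1) + ψ - indFun E ((fun _ => (1 : ℂ)) - fun z => (μ z : ℂ)) : G → ℂ) z = μ z + μ (c z) := by
  classical
  haveI := Fintype.ofFinite E
  have h3 : μ ≠ 1 := by rintro rfl; exact hμ rfl
  have h4 : μ.comp c ≠ 1 := fun e => h3 (MonoidHom.ext fun z => by
    obtain ⟨z, rfl⟩ := (Finite.injective_iff_surjective (f := c)).1 (fun a b e => Subtype.ext (by
      simpa [hc] using congrArg Subtype.val e)) z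
    exact DFunLike.congr_fun e z)
  have h5 := fun z hz => indFun_of_index_two hE hw c hc hTI ((fun _ => (1 : ℂ)) - fun z => (μ z : ℂ)) (z := z) hz
  refine ⟨?_, fun z hz => by
    rw [Pi.sub_apply, h5 z hz]
    simp only [Pi.add_apply, Pi.sub_apply, h2 z z.2 fun e => hz (Subtype.ext e)]
    ring⟩
  have h6 := (IsCharacter.one.isGeneralizedCharacter.sub
    (isCharacter_monoidHom_units μ).isGeneralizedCharacter)
  have h7 := isGeneralizedCharacter_indFun E h6
  have e1 := classInner_monoidHom_units μ 1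
  have e2 := classInner_monoidHom_units 1 μ
  have e3 := classInner_monoidHom_units μ μ
  have e4 := classInner_monoidHom_units μ (μ.comp c)
  have e5 := classInner_monoidHom_units 1 (μ.comp c)
  simp only [if_neg h3, if_neg h3.symm, if_neg hμ.symm, if_neg h4.symm, if_true, MonoidHom.one_apply,
    Units.val_one] at e1 e2 e3 e4 e5
  have h8 : ∀ {φ : G → ℂ}, IsClassFunction G φ → (∀ z ∈ E, z ≠ 1 → φ z = 1) →
      classInner (indFun E ((fun _ => (1 : ℂ)) - fun z => (μ z : ℂ))) φ = 1 := fun hφ h => by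
    rw [classInner_indFun_left E _ hφ, classInner_congr_right (ψ' := fun _ => 1) fun (z : E) hz =>
      h z z.2 fun e => hz (by simp [show z = 1 from Subtype.ext e]), classInner_sub_left, e1,
      classInner_one_one, sub_zero]
  have h9 : classInner (indFun E ((fun _ => (1 : ℂ)) - fun z => (μ z : ℂ)))
      (indFun E ((fun _ => (1 : ℂ)) - fun z => (μ z : ℂ))) = 3 := by
    rw [classInner_indFun_left E _ h7.isClassFunction, classInner_congr_right
      (ψ' := ((fun _ => (1 : ℂ)) - fun z => (μ z : ℂ)) + ((fun _ => (1 : ℂ)) - fun z => (μ.comp c z : ℂ))) fun z hz =>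
      h5 z fun e => hz (by simp [e])]
    simp only [classInner_add_right, classInner_sub_left, classInner_sub_right, e1, e2, e3, e4, e5,
      classInner_one_one]
    norm_num
  have h10 := h8 (IsClassFunction.const 1) fun _ _ _ => rfl
  have h11 := h8 hψ.isClassFunction h2
  have h12 := hψ.classInner_one h1
  refine ((IsGeneralizedCharacter.one.add hψ.isGeneralizedCharacter).sub h7).isIrr_of_norm_one ?_ ?_
  · simp only [classInner_add_right, classInner_sub_left, classInner_sub_right, classInner_add_left,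
      classInner_one_one, h9, h10, h11, h12, classInner_eq_zero_comm.1 h12, hψ.classInner_self,
      IsGeneralizedCharacter.one.classInner_comm h7, hψ.isGeneralizedCharacter.classInner_comm h7]
    norm_num
  · simp only [Pi.sub_apply, Pi.add_apply, indFun_one, map_one, Units.val_one, sub_self, mul_zero,
      sub_zero, ← hψ.coe_charDegree]
    norm_cast
    positivity

theorem commutator_ne_top_of_comm {D E : Subgroup G} (hD : ∀ a ∈ D, ∀ b ∈ D, a * b = b * a)
    (h2 : ∀ a ∈ D, a ^ 2 ∈ E) (hTI : ∀ g, ∀ z ∈ E, z ≠ 1 → g * z * g⁻¹ ∈ E → g ∈ D) {y : G}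
    (hy : y ∈ D) (hy' : y ^ 2 ≠ 1) : commutator G ≠ ⊤ := fun hG => by
  obtain ⟨r, a, hr, h3, h4⟩ : ∃ r a : ℕ, r.Prime ∧ r ^ a ∣ orderOf y ∧ ¬ r ^ a ∣ 2 := by
    by_contra h
    push Not at h
    exact hy' (orderOf_dvd_iff_pow_eq_one.1 ((Nat.dvd_iff_prime_pow_dvd_dvd _ _).2 h))
  haveI := Fact.mk hr
  have h5 := orderOf_pow_orderOf_div (orderOf_pos y).ne' h3
  have h6 := pow_mem hy (orderOf y / r ^ a)
  generalize y ^ (orderOf y / r ^ a) = s at h5 h6
  obtain ⟨T, hT⟩ := (IsPGroup.of_card (G := zpowers s) ((Nat.card_zpowers s).trans h5)).exists_le_sylow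
  have h7 : s ^ 2 ≠ 1 := fun e => h4 (h5 ▸ orderOf_dvd_iff_pow_eq_one.2 e)
  have h8 : ∀ g, g * s * g⁻¹ ∈ D → g ∈ D := fun g hg =>
    hTI g _ (h2 s h6) h7 (by rw [← conj_pow]; exact h2 _ hg)
  have hs := hT (mem_zpowers s)
  have h9 : (T : Subgroup G) ≤ D := by
    haveI := T.isPGroup'.isNilpotent
    refine subgroupOf_eq_top.1 (normalizerCondition_iff_only_full_group_self_normalizing.1
      normalizerCondition_of_isNilpotent _ (le_antisymm (fun g hg => ?_) le_normalizer))
    exact h8 g ((mem_normalizer_iff.1 hg ⟨s, hs⟩).1 h6)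
  have h10 : normalizer (T : Set G) ≤ centralizer (T : Set G) := fun g hg a ha =>
    hD a (h9 ha) g (h8 g (h9 ((mem_normalizer_iff.1 hg s).1 hs)))
  have h11 := MonoidHom.ker_transferSylow_isComplement' T h10
  rw [show (MonoidHom.transferSylow T h10).ker = ⊤ from eq_top_iff.2 (hG.ge.trans
    (commutator_le.2 fun a _ b _ => by
      rw [MonoidHom.mem_ker, map_commutatorElement, commutatorElement_eq_one_iff_mul_comm]
      exact Subtype.ext (hD _ (h9 (Subtype.property _)) _ (h9 (Subtype.property _))))),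
    isComplement'_top_left] at h11
  exact h7 (by rw [h11.le hs, one_pow])

namespace Setup

variable {S : Setup p G} (hS : S.C = zpowers S.x)
include hS

theorem exists_hom_of_degree (he : S.C.relIndex S.N ≠ 1) {ψ : IrrCharacter G}
    (hψ : charDegree (ψ : G → ℂ) = p) :
    ∃ ν : S.N →* ℂˣ, ∀ n : S.N, (n : G) ∉ zpowers S.x → (ψ : G → ℂ) n = ν n := by
  classical
  haveI := Fintype.ofFinite S.N
  haveI := Fintype.ofFinite (S.N →* ℂˣ)
  obtain ⟨m, -, h1, h2⟩ := exists_mult_N hS he ψ.isCharacter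
  rw [S.sx_of_const (c := 0) fun g hg => S.apply_eq_zero_of_dvd hψ.symm.dvd hg, mul_zero, add_zero,
    ← ψ.2.coe_charDegree, hψ, Nat.cast_inj, mul_eq_left₀ hp.out.ne_zero] at h1
  obtain ⟨ν, -, h3⟩ := Finset.exists_ne_zero_of_sum_ne_zero (h1.trans_ne one_ne_zero)
  rw [← Finset.add_sum_erase _ _ (Finset.mem_univ ν)] at h1
  have h4 := Finset.sum_eq_zero_iff.1 (show ∑ μ ∈ Finset.univ.erase ν, m μ = 0 by omega)
  refine ⟨ν, fun n hn => ?_⟩
  rw [h2 n hn, Finset.sum_eq_single ν (fun μ _ h => by simp [h4 μ (by simpa using h)]) (by simp),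
    show m ν = 1 by omega, Nat.cast_one, one_mul]

theorem perfect_of_unique (he : S.C.relIndex S.N ≠ 1) {ψ : IrrCharacter G}
    (hψ : charDegree (ψ : G → ℂ) = p)
    (hu : ∀ φ : IrrCharacter G, charDegree (φ : G → ℂ) = p → φ = ψ) : commutator G = ⊤ := by
  obtain ⟨ν, hν⟩ := exists_hom_of_degree hS he hψ
  obtain ⟨n, hn, hn'⟩ := SetLike.not_le_iff_exists.1 fun h => he (relIndex_eq_one.2 h)
  rw [hS] at hn'
  by_contra h
  obtain ⟨g, -, hg⟩ := SetLike.not_le_iff_exists.1 fun e => h (top_le_iff.1 e)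
  obtain ⟨f, hf⟩ := exists_monoidHom_units_ne_one hg
  have h1 : ∀ n ∈ S.N, n ∉ zpowers S.x → f n = 1 := fun n hn hn' => by
    have := congrFun (congrArg Subtype.val (hu ⟨_, ψ.2.mul_monoidHom f⟩ (charDegree_of_apply_one
      (by simp [← ψ.2.coe_charDegree, hψ])))) n
    simpa [hν ⟨n, hn⟩ hn'] using this
  have h2 : ∀ u ∈ zpowers S.x, f u = 1 := fun u hu => by
    have := h1 _ (mul_mem (S.C_le_N (S.zpowers_le_C hu)) hn) (by rwa [mul_mem_cancel_left hu])
    rwa [map_mul, h1 n hn hn', mul_one] at this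
  obtain ⟨c, hc, n, hn, rfl⟩ := S.exists_mul_of_normal f.ker (h2 _ (mem_zpowers _)) g
  exact hf (by rw [map_mul, hc, one_mul]; exact (em _).elim (h2 n) (h1 n hn))

theorem psl_of_unique (hO : pPrimeCore p G = ⊥) {H : Subgroup G} (hH : H.index = p)
    {ψ : IrrCharacter G} (hψ : charDegree (ψ : G → ℂ) = p)
    (hu : ∀ φ : IrrCharacter G, charDegree (φ : G → ℂ) = p → φ = ψ) {y : G} (hyN : y ∈ S.N)
    (hy : orderOf y = S.C.relIndex S.N) (hy1 : ∀ z ∈ zpowers y, z ∈ zpowers S.x → z = 1)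
    (hy2 : ∀ n ∈ S.N, ∃ u ∈ zpowers S.x, ∃ z ∈ zpowers y, n = u * z)
    (hD : Nat.card (normalizer (zpowers y : Set G)) = 2 * orderOf y)
    (hTI : ∀ g, ∀ z ∈ zpowers y, z ≠ 1 → g * z * g⁻¹ ∈ zpowers y →
      g ∈ normalizer (zpowers y : Set G)) :
    (p = 5 ∨ p = 7 ∨ p = 11) ∧ Nonempty (G ≃* PSL(2, ZMod p)) := by
  classical
  haveI := Fintype.ofFinite H
  haveI := Fintype.ofFinite (zpowers y)
  have h0 := ψ.2.charDegree_sq_le
  have hp2 := hp.out.two_le
  obtain ⟨t, ht⟩ := S.relIndex_dvd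
  have hN : S.N ≠ ⊤ := fun h => by
    have h1 := card_N_self hS
    have h2 := Nat.le_of_dvd (by omega) S.relIndex_dvd
    rw [h, card_top, ← h] at h1
    rw [h1, hψ, pow_two] at h0
    have := Nat.le_of_mul_le_mul_left h0 (by omega)
    omega
  have he : S.C.relIndex S.N ≠ 1 := fun h => by
    rw [hy, h, orderOf_eq_one_iff.1 (hy.trans h), zpowers_one_eq_bot, normalizer_eq_top, card_top] at hD
    rw [hD, hψ] at h0
    nlinarith
  have hG := perfect_of_unique hS he hψ hu
  haveI := isSimpleGroup hS hG hO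
  have hπ := isCharacter_indFun H IsCharacter.one
  have hπ0 : ∀ g, p ∣ orderOf g → indFun H (fun _ => 1) g = 0 := fun g hg =>
    indFun_eq_zero_of_forall_not_mem H _ fun a ha => S.not_sq_dvd (by
      rw [← H.card_mul_index, hH, pow_two]
      exact mul_dvd_mul_right ((((MulAut.conj a).orderOf_eq g).symm ▸ hg :).trans
        (orderOf_dvd_natCard H ha)) p)
  have hπ1 : classInner (indFun H fun _ => 1) (fun _ => 1) = 1 := by
    rw [classInner_indFun_left H _ (IsClassFunction.const 1), classInner_one_one]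
  have hπ2 : indFun H (fun _ => 1) 1 = p := by rw [indFun_one, hH, mul_one]
  have h2 : Even t := (even_or_even hS (hπ.sub_irr (irrOne G).2 (hπ1.trans_ne one_ne_zero))
    (charDegree_of_apply_one (by simp [hπ2, hp.out.pos])) (by
      rw [S.sx_of_const (c := -1) fun g hg => by simp [hπ0 g hg]]; simp [hπ2]) he
    (by rw [ht, mul_comm]) (by rintro rfl; exact he (Nat.dvd_one.1 S.relIndex_dvd))).resolve_right
    (by rw [hG, index_top]; decide)
  have h3 : (p : ℂ) = 1 + t * orderOf y := by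
    rw [hy, mul_comm, ← Nat.cast_mul, ← ht, Nat.cast_pred hp.out.pos, add_sub_cancel]
  have h4 : ∀ z ∈ zpowers y, z ≠ 1 → (ψ : G → ℂ) z = 1 := fun z hz hz1 => by
    obtain ⟨ν, hν⟩ := exists_hom_of_degree hS he hψ
    have e1 := detChar_eq_one hG ψ.isCharacter (isCharacter_monoidHom_units
      (ν.comp (inclusion (zpowers_le.2 hyN)))) h2 (by simp [← ψ.2.coe_charDegree, hψ, h3])
      fun z hz => hν (inclusion (zpowers_le.2 hyN) z) fun h => hz (Subtype.ext (hy1 _ z.2 h))
    rw [(isCharacter_monoidHom_units _).detChar_of_apply_one (by simp), Units.val_eq_one] at e1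
    obtain ⟨i, rfl⟩ := hz
    refine (hν (⟨y, hyN⟩ ^ i) fun h => hz1 (hy1 _ ⟨i, rfl⟩ h)).trans ?_
    rw [map_zpow, show ν ⟨y, hyN⟩ = 1 from e1, one_zpow, Units.val_one]
  have h5 : ((zpowers y).subgroupOf (normalizer (zpowers y : Set G))).index = 2 := by
    have := ((zpowers y).subgroupOf (normalizer (zpowers y : Set G))).card_mul_index
    rw [hD, Nat.card_congr (subgroupOfEquivOfLe le_normalizer).toEquiv, Nat.card_zpowers,
      mul_comm 2] at this
    exact Nat.eq_of_mul_eq_mul_left (orderOf_pos y) this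
  have hE : ∀ a ∈ zpowers y, ∀ b ∈ zpowers y, a * b = b * a := by
    rintro _ ⟨i, rfl⟩ _ ⟨j, rfl⟩
    exact zpow_mul_comm y i j
  have hy0 : y ≠ 1 := fun h => he (by rw [← hy, h, orderOf_one])
  have hyp := not_dvd_orderOf hS hyN fun h => hy0 (hy1 y (mem_zpowers y) h)
  by_cases h6 : y ^ 2 = 1
  · have e1 := orderOf_eq_prime h6 hy0
    rw [← hy, e1] at ht
    obtain ⟨s, rfl⟩ := h2
    obtain ⟨χ, -, h | ⟨⟨M, D, h⟩, -⟩⟩ := exists_two hS (hy ▸ e1) (by omega) hO hN hπ hπ0 hπ1
      (by rw [charDegree_of_apply_one hπ2]; omega)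
    · have := (charDegree_of_apply_one hπ2).symm.trans h.2
      omega
    have e2 := sum_irr_norm_sq y
    have e3 := apply_eq_zero_of_sx hS χ.isCharacter (by
      rw [S.sx_of_const fun g hg => h.singular hg, h.apply_one]; ring) hyN
      fun h => hy0 (hy1 y (mem_zpowers y) h)
    have e4 := Finset.single_le_sum (f := fun φ : IrrCharacter G => ‖(φ : G → ℂ) y‖ ^ 2)
      (fun _ _ => sq_nonneg _) h.h1
    have e5 := Finset.single_le_sum (f := fun φ : IrrCharacter G => ‖(φ : G → ℂ) y‖ ^ 2)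
      (fun _ _ => sq_nonneg _) (mem_dz.2 hψ.symm.dvd)
    have e6 := card_le_of_le (show centralizer {y} ≤ _ from fun g hg => hTI g y (mem_zpowers y) hy0
      (by rw [mem_centralizer_singleton_iff.1 hg, mul_inv_cancel_right]; exact mem_zpowers y))
    rw [D.sum_split hS h.hM, Finset.sum_congr (s₁ := Finset.univ.image D.Y) rfl (g := fun _ => 1)
      fun φ hφ => by
        obtain ⟨i, -, rfl⟩ := Finset.mem_image.1 hφ
        simp [h.Y_apply i hyp, e3], Finset.sum_const, D.card_image_Y, card_A_one, h.he, ht] at e2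
    simp only [h4 y (mem_zpowers y) hy0, coe_irrOne, norm_one, one_pow] at e4 e5
    rw [hD, e1] at e6
    have e7 : ((2 * (s + s) / 2 + 2 : ℕ) : ℝ) ≤ (4 : ℕ) := by
      refine le_trans ?_ (Nat.cast_le.2 e6)
      rw [← e2, nsmul_one, Nat.cast_add]
      norm_num at e4 e5 ⊢
      linarith
    have := Nat.cast_le.1 e7
    obtain rfl : p = 5 := by omega
    exact ⟨.inl rfl, (h.alt_five rfl).elim fun e =>
      (Cl.psl2_five_equiv_alt (by simp)).map fun e' => e.trans e'.symm⟩
  obtain ⟨w, hw⟩ : ∃ w : normalizer (zpowers y : Set G), (w : G) ∉ zpowers y := by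
    by_contra h
    push Not at h
    rw [subgroupOf_eq_top.2 fun w hw => h ⟨w, hw⟩, index_top] at h5
    omega
  have h7 : ∀ g ∈ normalizer (zpowers y : Set G), g ∈ zpowers y ∨ g * (w : G)⁻¹ ∈ zpowers y :=
    fun g hg => or_iff_not_imp_left.2 fun h => (mul_mem_iff_of_index_two h5
      (a := ⟨g, hg⟩) (b := w⁻¹)).2 (iff_of_false h fun h' => hw (inv_mem_iff.1 h'))
  let c : zpowers y →* zpowers y := (normalizerMonoidHom _ w).toMonoidHom
  have hc : ∀ z, (c z : G) = w * z * (w : G)⁻¹ := fun _ => rfl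
  have h8 : c ⟨y, mem_zpowers y⟩ ≠ ⟨y, mem_zpowers y⟩ := fun h => by
    have e1 : ∀ z ∈ zpowers y, Commute (w : G) z := by
      rintro _ ⟨i, rfl⟩
      exact Commute.zpow_right (mul_inv_eq_iff_eq_mul.1 (congrArg Subtype.val h)) i
    have e2 : ∀ a ∈ normalizer (zpowers y : Set G), Commute a w ∧ ∀ z ∈ zpowers y, Commute a z :=
      fun a ha => by
        rcases h7 a ha with h | h
        · exact ⟨(e1 a h).symm, hE a h⟩
        rw [← inv_mul_cancel_right a w]
        exact ⟨(e1 _ h).symm.mul_left (Commute.refl _), fun z hz =>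
          Commute.mul_left (hE _ h z hz) (e1 z hz)⟩
    refine commutator_ne_top_of_comm (fun a ha b hb => ?_) (fun a ha => sq_mem_of_index_two h5
      ⟨a, ha⟩) hTI (le_normalizer (mem_zpowers y)) h6 hG
    rcases h7 b hb with h | h
    · exact (e2 a ha).2 b h
    rw [← inv_mul_cancel_right b w]
    exact ((e2 a ha).2 _ h).mul_right (e2 a ha).1
  obtain ⟨μ, hμ⟩ := exists_injective_hom y
  have h9 : (ψ : G → ℂ) ≠ fun _ => 1 := fun h => by
    have := charDegree_of_apply_one (n := 1) (congrFun h 1 |>.trans Nat.cast_one.symm)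
    omega
  obtain ⟨hχ, h10⟩ := exists_irr_of_index_two hE hw c hc (fun g z hz hz1 h => h7 g (hTI g z hz hz1 h))
    ψ.2 h9 h4 (μ := μ) fun h => h8 (hμ (DFunLike.congr_fun h _))
  set χ := (fun _ => 1) + (ψ : G → ℂ) - indFun (zpowers y) ((fun _ => (1 : ℂ)) - fun z => (μ z : ℂ))
    with hχ'
  have h11 : χ 1 = (p + 1 : ℕ) := by simp [hχ', indFun_one, ← ψ.2.coe_charDegree, hψ, add_comm]
  have h12 : ∀ z, c z = z⁻¹ := by
    have e1 := detChar_eq_one hG hχ.isCharacter ((isCharacter_monoidHom_units μ).add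
      (isCharacter_monoidHom_units (μ.comp c))) h2 (by simp [h11, h3]; ring) h10
    rw [(isCharacter_monoidHom_units _).detChar_add (isCharacter_monoidHom_units _),
      (isCharacter_monoidHom_units _).detChar_of_apply_one (by simp),
      (isCharacter_monoidHom_units _).detChar_of_apply_one (by simp), ← Units.val_mul,
      Units.val_eq_one, MonoidHom.comp_apply, ← map_mul, map_eq_one_iff _ hμ] at e1
    rintro ⟨_, i, rfl⟩
    refine (map_zpow c ⟨y, mem_zpowers y⟩ i).trans ?_
    rw [eq_inv_of_mul_eq_one_right e1, inv_zpow]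
    rfl
  have h13 : 3 ≤ orderOf y := by
    by_contra h
    have := orderOf_pos y
    exact h6 (orderOf_dvd_iff_pow_eq_one.1 (by rw [show orderOf y = 2 by omega]))
  obtain ⟨s, rfl⟩ := h2
  rw [← hy] at ht
  have h14 : 3 * (s + s) ≤ p - 1 := ht ▸ Nat.mul_le_mul_right _ h13
  have h15 : s ≠ 0 := by rintro rfl; omega
  by_cases h16 : p = 7
  · subst h16
    have e1 : orderOf y = 3 := by
      obtain rfl : s = 1 := by omega
      omega
    have e2 := S.dvd_card
    refine ⟨.inr (.inl rfl), ?_⟩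
    rcases S3331.result (zpowers y) (by rw [Nat.card_zpowers, e1]) (le_antisymm (fun g hg => by
      have e3 := mem_centralizer_iff.1 hg y (mem_zpowers y)
      refine (h7 g (hTI g y (mem_zpowers y) hy0 (by
        rw [← e3, mul_inv_cancel_right]; exact mem_zpowers y))).elim id fun h => absurd ?_ h8
      refine Subtype.ext ((hc _).trans (mul_inv_eq_iff_eq_mul.2 (mul_left_cancel (a := g * (w : G)⁻¹) ?_)))
      rw [← mul_assoc, ← mul_assoc, hE _ h y (mem_zpowers y), mul_assoc y]
      simp [e3]) fun a ha b hb => hE b hb a ha) with ⟨K, hK, -, e3, h⟩ | ⟨K, hK, -, -, ⟨e⟩⟩ | h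
    · rcases hK.eq_bot_or_eq_top with rfl | rfl
      · rw [Nat.card_congr QuotientGroup.quotientBot.toEquiv] at h
        rcases h with h | ⟨⟨e⟩⟩
        · omega
        · rw [← Nat.card_congr QuotientGroup.quotientBot.toEquiv, Nat.card_congr e.toEquiv] at e2
          simp [Fintype.card_perm, Nat.factorial] at e2
      · have := (e3.coprime_dvd_left (e1 ▸ orderOf_dvd_natCard ⊤ (mem_top y)))
        simp at this
    · have e3 := K.index_dvd_card
      have e4 : K.index = 60 := (Nat.card_congr e.toEquiv).trans (by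
        rw [nat_card_alternatingGroup]; simp [Nat.factorial])
      rcases hK.eq_bot_or_eq_top with rfl | rfl
      · rw [index_bot] at e4
        omega
      · simp at e4
    · exact h
  have h17 : 11 ≤ p := by
    by_contra h
    have := hp.out
    have : 7 ≤ p := by omega
    interval_cases p <;> simp_all (config := {decide := true})
  have h18 : (⟨y, mem_zpowers y⟩ ^ 2 : zpowers y) ≠ 1 := fun h => h6 (congrArg Subtype.val h)
  obtain ⟨e⟩ := S.psl_of_real hG hN h17 hχ (charDegree_of_apply_one h11) (fun g => by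
      have e1 := congrFun (congrArg Subtype.val (hu ⟨_, ψ.2.complexConj⟩
        (charDegree_of_apply_one (by simp [← ψ.2.coe_charDegree, hψ])))) g
      have e2 := congrFun ((indFun_star (zpowers y) ((fun _ => (1 : ℂ)) - fun z => (μ z : ℂ))).symm.trans
        (indFun_conj_subgroup _ _ (w : G) (fun z => mem_normalizer_iff.1 w.2 z) ((fun _ => (1 : ℂ)) - fun z => (μ z : ℂ)) _ fun z => by
          change _ = 1 - (μ (c z) : ℂ)
          simp [h12, conj_monoidHom_units])) g
      simp only [hχ', Pi.sub_apply, Pi.add_apply, map_sub, map_add, map_one] at e1 e2 ⊢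
      rw [e1, e2]) hH ⟨y, hyN⟩ hy2 hyp
    (fun h => h6 (hy1 _ (pow_mem (mem_zpowers y) 2) (hS ▸ (S.al_eq_one_iff (⟨y, hyN⟩ ^ 2)).1
      (by rw [map_pow, h])))) (ζ := μ ⟨y, mem_zpowers y⟩)
    (by rw [← monoidHom_units_pow_orderOf μ ⟨y, mem_zpowers y⟩, ← orderOf_coe])
    (by rwa [← Units.val_pow_eq_pow_val, ← map_pow, Ne, Units.val_eq_one, map_eq_one_iff _ hμ])
    (by simpa [h12] using h10 ⟨y, mem_zpowers y⟩ fun h => hy0 (congrArg Subtype.val h))
    (by
      rw [← pow_two]
      refine (h10 _ h18).trans ?_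
      rw [h12, map_inv, map_pow, Units.val_inv_eq_inv_val, Units.val_pow_eq_pow_val, inv_pow])
  refine ⟨.inr (.inr ?_), ⟨e⟩⟩
  by_contra h
  have := (S0806.result (ZMod.card p) (by simp; omega)).1 (H.comap e.symm.toMonoidHom) fun h => by
    rw [← index_comap_of_surjective H (f := e.symm.toMonoidHom) e.symm.surjective, h, index_top] at hH
    omega
  rw [index_comap_of_surjective H (f := e.symm.toMonoidHom) e.symm.surjective] at this
  omega

end Setup

end Cfsg.Agent.Blk.One
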