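import Mathlib
import Cfsg.Agent.Deg.McK1
import Cfsg.Agent.Deg.Ito
import Cfsg.Agent.Ch.RealChar2
import Cfsg.Agent.Ch.GlaubPGroup
import Cfsg.Agent.Blk.Cover
import Cfsg.Agent.GT.CoprimeFixed
import Cfsg.Agent.GT.CoprimeAbelian
import Cfsg.Agent.GT.PConstrained
import Cfsg.Agent.GT.Frattini

/-!
# `p'`-degrees prime to `q` in `{p, q}`-separable groups
-/

namespace Cfsg.Agent.Blk.PQ

open Cfsg Cfsg.Agent.Ch Cfsg.Agent.GT Cfsg.Agent.Ch.Glb
open scoped commutatorElement

universe u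
variable {G : Type*} [Group G] [Finite G] {p q : ℕ}

/-- A character extending to a subgroup of `p'`-index lies under a `p'`-degree character. -/
theorem exists_over_not_dvd (hp : p.Prime) {N U : Subgroup G} [Fintype N] (hNU : N ≤ U)
    (hU : ¬ p ∣ U.index) {θ : N → ℂ} (hθ : IsIrrCharacter N θ) (hd : ¬ p ∣ charDegree θ)
    (he : Deg.Ext U θ) : ∃ χ, IsIrrCharacter G χ ∧ ¬ p ∣ charDegree χ ∧
      classInner (fun n : N => χ n) θ ≠ 0 := by
  classical
  have := Fintype.ofFinite G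
  obtain ⟨η, hη, h⟩ := he
  have e : (fun l : N => η ⟨l, hNU l.2⟩) = θ := funext fun l => h l _
  have h1 := Deg.isIrr_of_res_irr hNU hη (e ▸ hθ)
  obtain ⟨χ, m, hχ, hm, h2⟩ := RC.exists_constituent_not_dvd (p := p) (isCharacter_indFun U hη) (by
    rw [Deg.charDegree_indFun U hη, charDegree_congr (χ := η) (ψ := θ) (h 1 U.one_mem)]
    exact hp.not_dvd_mul hU hd)
  refine ⟨χ, hχ, fun h => h2 (h.mul_left _), Om.over_subtype_iff.mp ?_⟩
  refine Om.Over.trans (f := U.subtype) (g := Subgroup.inclusion hNU) hχ.isCharacter h1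
    hθ.isCharacter (Om.over_subtype_iff.mpr ?_) ((Om.over_inclusion_iff hNU).mpr ?_)
  · rw [← classInner_indFun_eq_res U hη hχ.isCharacter, hm]
    rintro h
    rw [Nat.cast_eq_zero.mp h, zero_mul] at h2
    exact h2 (dvd_zero p)
  · rw [e, hθ.classInner_self]; exact one_ne_zero

theorem solv [Fact p.Prime] {P : Subgroup G} (hP : IsPGroup p P) : Group.IsSolvable P :=
  have := hP.isNilpotent; inferInstance

/-- If every `P`-invariant irreducible character of `M` is `Q`-invariant, then `Q` centralizes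
`C_M(P)`. -/
theorem inf_centralizer_le [hp : Fact p.Prime] [Fact q.Prime] {P Q M : Subgroup G} [M.Normal]
    (hP : IsPGroup p P) (hQ : IsPGroup q Q) (hc : Q ≤ Subgroup.centralizer (P : Set G))
    (hMp : (Nat.card M).Coprime p) (hMq : (Nat.card M).Coprime q)
    (h : ∀ θ, IsIrrCharacter M θ → Inv P θ → Inv Q θ) :
    M ⊓ Subgroup.centralizer (P : Set G) ≤ Subgroup.centralizer (Q : Set G) := by
  set D := M ⊓ Subgroup.centralizer (P : Set G) with hD
  have hn : ∀ A : Subgroup G, A ≤ Subgroup.normalizer (M : Set G) := fun A =>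
    le_top.trans (Subgroup.normalizer_eq_top M).ge
  obtain ⟨a, ha⟩ := hP.exists_card_eq
  obtain ⟨b, hb⟩ := hQ.exists_card_eq
  have H := corr_pGroup hp.out hP (hn P) (ha ▸ hMp.pow_right a) hD inf_le_left
  have hQP := hc.trans (Subgroup.centralizer_le_normalizer _)
  have hQD : Q ≤ Subgroup.normalizer (D : Set G) := fun y hy =>
    Subgroup.inf_normalizer_le_normalizer_inf 
      ⟨hn Q hy, CopAct.le_normalizer_centralizer hQP hy⟩
  have h1 : (Subgroup.centralizer (Q : Set G)).subgroupOf D = ⊤ := by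
    refine FG.CI.eq_top_of_forall_conj_mem fun x => ?_
    obtain ⟨k, hk, e⟩ := CopAct.exists_conj_mem_centralizer hQD (hb ▸ (Nat.Coprime.coprime_dvd_left
      (Subgroup.card_dvd_of_le inf_le_left) hMq).symm.pow_left b) (Or.inl (solv hQ)) (x := x) (by
        intro y hy
        have : IsConj x ⟨y * x * y⁻¹, (Subgroup.mem_normalizer_iff.mp (hQD hy) _).mp x.2⟩ :=
          isConj_iff_forall_irr.2 fun β => by
            obtain ⟨θ, hθ, h2, h3⟩ := H.surj β.1 β.2
            exact ((H.inv_iff hp.out hQP (hn Q) hQD hθ β.2 h2 h3).mp (h θ hθ h2) y hy _ _ rfl).symm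
        obtain ⟨c, hc⟩ := isConj_iff.1 this
        exact ⟨c, c.2, (congrArg Subtype.val hc).symm⟩)
    exact ⟨⟨k, hk⟩, e⟩
  rwa [Subgroup.subgroupOf_eq_top] at h1

omit [Finite G] in
theorem commute_map {H : Type*} [Group H] (f : G →* H) {P Q : Subgroup G}
    (h : Q ≤ Subgroup.centralizer (P : Set G)) :
    Q.map f ≤ Subgroup.centralizer (P.map f : Set H) := by
  rintro _ ⟨y, hy, rfl⟩ _ ⟨x, hx, rfl⟩
  rw [← map_mul, h hy x hx, map_mul]

omit [Finite G] in
theorem commutator_le_of_map {M P Q : Subgroup G} [M.Normal]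
    (h : Q.map (QuotientGroup.mk' M) ≤
      Subgroup.centralizer (P.map (QuotientGroup.mk' M) : Set (G ⧸ M))) : ⁅P, Q⁆ ≤ M :=
  Subgroup.commutator_le.mpr fun x hx y hy => by
    rw [← QuotientGroup.eq_one_iff, ← QuotientGroup.mk'_apply, map_commutatorElement,
      commutatorElement_eq_one_iff_mul_comm]
    exact h ⟨y, hy, rfl⟩ _ ⟨x, hx, rfl⟩

omit [Finite G] in
/-- A subgroup normalized by `P`, commuting with `P` modulo `M` and disjoint from `M`. -/
theorem le_centralizer_of_inf {M P Q : Subgroup G} (hn : P ≤ Subgroup.normalizer (Q : Set G))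
    (h : ⁅P, Q⁆ ≤ M) (hb : Q ⊓ M = ⊥) : Q ≤ Subgroup.centralizer (P : Set G) := by
  rw [← Subgroup.commutator_eq_bot_iff_le_centralizer, Subgroup.commutator_comm, eq_bot_iff, ← hb]
  exact le_inf (Subgroup.commutator_le.mpr fun x hx y hy => Q.mul_mem
    ((Subgroup.mem_normalizer_iff.mp (hn hx) y).mp hy) (Q.inv_mem hy)) h

theorem inf_eq_bot [Fact q.Prime] {Q M : Subgroup G} (hQ : IsPGroup q Q)
    (hM : (Nat.card M).Coprime q) : Q ⊓ M = ⊥ := by
  obtain ⟨b, hb⟩ := hQ.exists_card_eq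
  exact CopAct.inf_eq_bot_of_coprime (hb ▸ hM.symm.pow_left b)

/-- If commuting Sylow subgroups `P`, `Q` exist and `p'`-degrees are prime to `q`, every subgroup
containing `P` of index prime to `q` contains `Q`. -/
theorem le_of_index [hp : Fact p.Prime] [hq : Fact q.Prime] (hpq : p ≠ q) (G : Type u) [Group G]
    [Finite G] : IsPSolvable p G → IsPSolvable q G →
      (∀ χ, IsIrrCharacter G χ → ¬ p ∣ charDegree χ → ¬ q ∣ charDegree χ) →
      ∀ (P : Sylow p G) (Q : Sylow q G), (Q : Subgroup G) ≤ Subgroup.centralizer (P : Set G) →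
      ∀ T : Subgroup G, (P : Subgroup G) ≤ T → ¬ q ∣ T.index → (Q : Subgroup G) ≤ T := by
  refine subgroup_quotient_induction (P := fun G _ _ => IsPSolvable p G → IsPSolvable q G →
      (∀ χ, IsIrrCharacter G χ → ¬ p ∣ charDegree χ → ¬ q ∣ charDegree χ) →
      ∀ (P : Sylow p G) (Q : Sylow q G), (Q : Subgroup G) ≤ Subgroup.centralizer (P : Set G) →
      ∀ T : Subgroup G, (P : Subgroup G) ≤ T → ¬ q ∣ T.index → (Q : Subgroup G) ≤ T) ?_ G
  intro G _ _ _ ih hGp hGq h P Q hc T hT hi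
  classical
  have := Fintype.ofFinite G
  rcases subsingleton_or_nontrivial G with hs | hs
  · exact (Subsingleton.elim _ _).le
  obtain ⟨M, hM⟩ := exists_isMinNormal G
  have := hM.normal
  have hπ := QuotientGroup.mk'_surjective M
  have hstep : ∀ T : Subgroup G, (P : Subgroup G) ≤ T → ¬ q ∣ T.index →
      (Q : Subgroup G) ≤ T ⊔ M := fun T hT hi => by
    have := ih M hM.ne_bot (hGp.quotient M) (hGq.quotient M) (fun χ hχ => h _ hχ.comp_mk)
      (P.mapSurjective hπ) (Q.mapSurjective hπ) (commute_map _ hc) (T.map (QuotientGroup.mk' M))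
      (Subgroup.map_mono hT) fun hd => hi (hd.trans (T.index_map_dvd hπ))
    rwa [Sylow.coe_mapSurjective, Subgroup.map_le_iff_le_comap, Subgroup.comap_map_eq,
      QuotientGroup.ker_mk'] at this
  have hmin := fun (K : Subgroup G) (hK : K.Normal) (hle : K ≤ M) => hM.eq_bot_or_eq hle
  rcases hGp.isPGroup_or_coprime_of_minimal hmin with hMp | hMp
  · exact (hstep T hT hi).trans (sup_le le_rfl ((hMp.le_sylow_of_normal P).trans hT))
  rcases hGq.isPGroup_or_coprime_of_minimal hmin with hMq | hMq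
  · obtain ⟨k, hk⟩ := hMq.exists_card_eq
    exact (hstep T hT hi).trans (sup_le le_rfl
      (Deg.le_of_not_dvd_index hq.out bot_le (by rw [Subgroup.relIndex_bot_left, hk]) hi))
  have hn : ∀ A : Subgroup G, A ≤ Subgroup.normalizer (M : Set G) := fun A =>
    le_top.trans (Subgroup.normalizer_eq_top M).ge
  have hD := inf_centralizer_le P.2 Q.2 hc hMp hMq fun θ hθ hinv => by
    have hMI := le_inertia hθ.isClassFunction
    have hPI : (P : Subgroup G) ≤ inertia M θ := by
      rw [Deg.inertia_eq_invSub]; exact (inv_iff_le (hn _)).mp hinv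
    obtain ⟨k, hk⟩ : ∃ k, M.relIndex (M ⊔ P) = p ^ k := by
      rw [Subgroup.relIndex_sup_left]
      exact PG.relIndex_eq_pow_of_isPGroup P.isPGroup' M
    obtain ⟨χ, hχ, h1, h2⟩ := exists_over_not_dvd hp.out (le_sup_left : M ≤ M ⊔ P)
      (fun hd => P.not_dvd_index (hd.trans (Subgroup.index_dvd_of_le le_sup_right))) hθ
      (fun hd => hp.out.coprime_iff_not_dvd.mp hMp.symm (hd.trans hθ.charDegree_dvd_card))
      (Deg.ext_of_primes le_sup_left (hn _) hθ ((inv_iff_le (hn _)).mpr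
        (Deg.inertia_eq_invSub θ ▸ sup_le hMI hPI)) fun r hr hd => ⟨M, le_rfl, le_sup_left,
          fun h => hp.out.coprime_iff_not_dvd.mp hMp.symm (((Nat.prime_dvd_prime_iff_eq hr hp.out).mp
            (hr.dvd_of_dvd_pow (hk ▸ h))) ▸ hd), Deg.ext_self hθ.isCharacter⟩)
    rw [inv_iff_le (hn _), ← Deg.inertia_eq_invSub]
    exact (hstep _ hPI fun hd => h χ hχ h1 (hd.trans (Deg.index_inertia_dvd hχ hθ h2))).trans
      (sup_le le_rfl hMI)
  set X := ((Q : Subgroup G) ⊔ M) ⊓ T with hX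
  have hXQ : X.map (QuotientGroup.mk' M) ≤ (Q : Subgroup G).map (QuotientGroup.mk' M) := by
    rw [Subgroup.map_le_iff_le_comap, Subgroup.comap_map_eq, QuotientGroup.ker_mk']
    exact inf_le_left
  have hXq : IsPGroup q (X.map (QuotientGroup.mk' M)) := (Q.2.map _).to_le hXQ
  obtain ⟨a, ha⟩ := P.2.exists_card_eq
  obtain ⟨R, hR⟩ := CopAct.exists_invariant_sylow (A := P) (K := X) (fun x hx =>
    Subgroup.inf_normalizer_le_normalizer_inf ⟨Subgroup.normalizer_inf_normalizer_le_normalizer_sup _ _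
      ⟨Subgroup.centralizer_le_normalizer _ (Subgroup.le_centralizer_iff.mp hc hx), hn _ hx⟩,
      Subgroup.le_normalizer (hT hx)⟩) (by
      obtain ⟨b, hb⟩ := Q.2.exists_card_eq
      rw [ha]
      refine Nat.Coprime.pow_left a (Nat.Coprime.coprime_dvd_right
        ((Subgroup.card_dvd_of_le inf_le_left).trans (card_sup_dvd _ _)) ?_)
      exact (hb ▸ ((Nat.coprime_primes hp.out hq.out).mpr hpq).pow_right b).mul_right hMp.symm)
    (Or.inl (solv P.2)) q
  set R' := (R : Subgroup X).map X.subtype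
  have hR'q : IsPGroup q R' := R.2.map _
  have hR'X : R' ≤ X := Subgroup.map_subtype_le _
  have h1 : R' ≤ Subgroup.centralizer (P : Set G) := le_centralizer_of_inf hR
    (commutator_le_of_map (((Subgroup.map_mono hR'X).trans hXQ).trans (commute_map _ hc)))
    (inf_eq_bot hR'q hMq)
  have h2 : R' ≤ Q := fun y hy => by
    obtain ⟨a, ha, m, hm, rfl⟩ := Subgroup.mem_sup_of_normal_right.mp (hR'X hy).1
    have h3 : a * m = m * a := hD ⟨hm, (Subgroup.mul_mem_cancel_left _ (hc ha)).mp (h1 hy)⟩ a ha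
    obtain ⟨i, hi⟩ := hR'q ⟨_, hy⟩
    obtain ⟨j, hj⟩ := Q.2 ⟨a, ha⟩
    have h4 : m ^ q ^ (i + j) = 1 := by
      have h5 : (a * m) ^ q ^ (i + j) = 1 := by
        rw [pow_add, pow_mul, show (a * m) ^ q ^ i = 1 from congrArg Subtype.val hi, one_pow]
      rwa [Commute.mul_pow h3, pow_add, mul_comm (q ^ i), pow_mul,
        show a ^ q ^ j = 1 from congrArg Subtype.val hj, one_pow, one_mul, mul_comm, ← pow_add] at h5
    rw [show m = 1 from congrArg Subtype.val (CopAct.eq_one_of_pow_eq_one_of_coprime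
      (x := (⟨m, hm⟩ : M)) (hMq.symm.pow_left _) (Subtype.ext h4)), mul_one]
    exact ha
  intro y hy
  obtain ⟨t, ht, m, hm, rfl⟩ := Subgroup.mem_sup_of_normal_right.mp (hstep T hT hi hy)
  obtain ⟨r, hr, m', hm', rfl⟩ := Subgroup.mem_sup_of_normal_right.mp
    (le_sylow_sup_of_isPGroup_map hXq R (show t ∈ X from ⟨(Subgroup.mul_mem_cancel_right _
      (Subgroup.mem_sup_right hm)).mp (Subgroup.mem_sup_left hy), ht⟩))
  have h6 : m' * m ∈ (Q : Subgroup G) ⊓ M :=
    ⟨(Subgroup.mul_mem_cancel_left _ (h2 hr)).mp (mul_assoc r m' m ▸ hy), M.mul_mem hm' hm⟩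
  rw [inf_eq_bot Q.2 hMq, Subgroup.mem_bot] at h6
  rw [mul_assoc, h6, mul_one]
  exact (hR'X hr).2

theorem coprime_card [hp : Fact p.Prime] [hq : Fact q.Prime] (hpq : p ≠ q) {Q : Subgroup G}
    (hQ : IsPGroup q Q) : (Nat.card Q).Coprime p := by
  obtain ⟨b, hb⟩ := hQ.exists_card_eq
  exact hb ▸ ((Nat.coprime_primes hq.out hp.out).mpr hpq.symm).pow_left b

/-- In a `p`-solvable group a `p'`-subgroup centralizing a Sylow `p`-subgroup lies in `O_{p'}`. -/
theorem le_pPrimeCore_of_le_centralizer [Fact p.Prime] (hG : IsPSolvable p G) (P : Sylow p G)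
    {Q : Subgroup G} (hQ : (Nat.card Q).Coprime p)
    (hc : Q ≤ Subgroup.centralizer (P : Set G)) : Q ≤ pPrimeCore p G := by
  have hπ := QuotientGroup.mk'_surjective (pPrimeCore p G)
  have h1 := ((commute_map (QuotientGroup.mk' (pPrimeCore p G)) hc).trans (Subgroup.centralizer_le
    ((isPGroup_pCore p).le_sylow_of_normal (P.mapSurjective hπ)))).trans hG.charP_quotient
  have h2 := inf_eq_bot (isPGroup_pCore p) (hQ.coprime_dvd_left
    (Subgroup.card_map_dvd Q (QuotientGroup.mk' (pPrimeCore p G))))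
  rwa [inf_of_le_right h1, Subgroup.map_eq_bot_iff, QuotientGroup.ker_mk'] at h2

/-- The `p'`-degree characters of `G / O_{p'}(G)` have degree prime to `q`. -/
def Hyp (p q : ℕ) (G : Type*) [Group G] : Prop :=
  ∀ χ, IsIrrCharacter G χ → pPrimeCore p G ≤ charKer χ → ¬ p ∣ charDegree χ → ¬ q ∣ charDegree χ

omit [Finite G] in
theorem Hyp.quotient (h : Hyp p q G) (N : Subgroup G) [N.Normal] : Hyp p q (G ⧸ N) :=
  fun χ hχ hk => h _ hχ.comp_mk (by
    rw [show charKer (fun g : G => χ (g : G ⧸ N)) = _ from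
      charKer_comp_of_surjective χ _ (QuotientGroup.mk'_surjective N), ← Subgroup.map_le_iff_le_comap]
    exact (map_pPrimeCore_le (QuotientGroup.mk'_surjective N)).trans hk)

theorem exists_of_core_bot [hp : Fact p.Prime] [hq : Fact q.Prime] (hpq : p ≠ q) [Nontrivial G]
    (hGp : IsPSolvable p G) (hGq : IsPSolvable q G) (h : Hyp p q G) (hO : pPrimeCore p G = ⊥)
    (ih : ∀ (N : Subgroup G) [N.Normal], N ≠ ⊥ → ∃ (P : Sylow p (G ⧸ N)) (Q : Sylow q (G ⧸ N)),
      (Q : Subgroup (G ⧸ N)) ≤ Subgroup.centralizer (P : Set (G ⧸ N))) :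
    ∃ (P : Sylow p G) (Q : Sylow q G), (Q : Subgroup G) ≤ Subgroup.centralizer (P : Set G) := by
  classical
  have := Fintype.ofFinite G
  replace h := fun χ hχ => h χ hχ (hO.le.trans bot_le)
  set N := pCore p G
  have hπ := QuotientGroup.mk'_surjective N
  obtain ⟨P, Q, hc⟩ := ih N (hGp.pCore_ne_bot_or.resolve_right fun h => h hO)
  obtain ⟨P, rfl⟩ := Sylow.mapSurjective_surjective hπ p P
  obtain ⟨Q, rfl⟩ := Sylow.mapSurjective_surjective hπ q Q
  have hNP : N ≤ P := (isPGroup_pCore p).le_sylow_of_normal P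
  have h1 : ⁅(P : Subgroup G), (Q : Subgroup G)⁆ ≤ N := commutator_le_of_map hc
  obtain ⟨a, ha⟩ := P.2.exists_card_eq
  have hcop : (Nat.card Q).Coprime (Nat.card P) := ha ▸ (coprime_card hpq Q.2).pow_right a
  have := P.2.isNilpotent
  refine ⟨P, Q, CopAct.le_centralizer_of_commutator_le_frattini (hcop.coprime_dvd_right
    (Subgroup.card_subgroup_dvd_card _)) (le_trans ?_ (commutator_self_le_map_frattini _))⟩
  rw [← CopAct.commutator_commutator_eq (Subgroup.le_normalizer_iff_commutator_le_left.mpr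
    (h1.trans hNP)) hcop]
  refine (Subgroup.commutator_mono h1 le_rfl).trans (Subgroup.commutator_le.mpr fun n hn y hy => ?_)
  have h2 : ⁅n, y⁆ ∈ N := Subgroup.commutator_le_left N Q (Subgroup.commutator_mem_commutator hn hy)
  by_contra h3
  obtain ⟨ν, hν⟩ := exists_monoidHom_units_ne_one (g := (⟨_, hNP h2⟩ : P)) fun h => h3 (by
    rw [← Subgroup.map_subtype_commutator]; exact ⟨_, h, rfl⟩)
  let l : N →* ℂˣ := ν.comp (Subgroup.inclusion hNP)
  have hl := isIrrCharacter_monoidHom_units l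
  obtain ⟨χ, hχ, h4, h5⟩ := exists_over_not_dvd hp.out hNP P.not_dvd_index hl
    (by rw [Deg.charDegree_linear]; exact hp.out.one_lt.ne' ∘ Nat.dvd_one.mp)
    ⟨_, (isIrrCharacter_monoidHom_units ν).isCharacter, fun _ _ => rfl⟩
  have h6 := le_of_index hpq _ (hGp.quotient N) (hGq.quotient N) (fun χ hχ => h _ hχ.comp_mk) _ _ hc
    ((inertia N fun n => (l n : ℂ)).map (QuotientGroup.mk' N)) (Subgroup.map_mono fun x hx =>
      mem_inertia.mpr fun n => congrArg Units.val
        (show ν (⟨x, hx⟩ * ⟨n, hNP n.2⟩ * ⟨x, hx⟩⁻¹) = ν ⟨n, hNP n.2⟩ by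
          rw [map_mul, map_mul, map_inv, mul_inv_cancel_comm]))
    fun hd => h χ hχ h4 ((hd.trans (Subgroup.index_map_dvd _ hπ)).trans
      (Deg.index_inertia_dvd hχ hl h5))
  rw [Sylow.coe_mapSurjective, Subgroup.map_le_iff_le_comap, Subgroup.comap_map_eq,
    QuotientGroup.ker_mk', sup_of_le_left (le_inertia hl.isClassFunction)] at h6
  have h7 := Units.ext (mem_inertia.mp (h6 hy) ⟨n⁻¹, N.inv_mem hn⟩)
  refine hν (show l ⟨_, h2⟩ = 1 from ?_)
  rw [← map_one l, ← mul_inv_cancel (⟨n, hn⟩ : N), map_mul, show (⟨n, hn⟩ : N)⁻¹ = ⟨n⁻¹, _⟩ from rfl,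
    ← h7, ← map_mul]
  congr 1
  exact Subtype.ext (by simp [commutatorElement_def, mul_assoc])

/-- Navarro–Rizo–Schaeffer Fry for `{p, q}`-separable groups. -/
theorem exists_commuting [hp : Fact p.Prime] [hq : Fact q.Prime] (hpq : p ≠ q) (G : Type u)
    [Group G] [Finite G] : IsPSolvable p G → IsPSolvable q G → Hyp p q G → Hyp q p G →
      ∃ (P : Sylow p G) (Q : Sylow q G), (Q : Subgroup G) ≤ Subgroup.centralizer (P : Set G) := by
  refine subgroup_quotient_induction (P := fun G _ _ => IsPSolvable p G → IsPSolvable q G →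
    Hyp p q G → Hyp q p G → ∃ (P : Sylow p G) (Q : Sylow q G),
      (Q : Subgroup G) ≤ Subgroup.centralizer (P : Set G)) ?_ G
  intro G _ _ _ ih hGp hGq h h'
  replace ih := fun (N : Subgroup G) [N.Normal] hN =>
    ih N hN (hGp.quotient N) (hGq.quotient N) (h.quotient N) (h'.quotient N)
  rcases subsingleton_or_nontrivial G with hs | hs
  · exact ⟨default, default, (Subsingleton.elim _ _).le⟩
  by_cases hO : pPrimeCore p G = ⊥
  · exact exists_of_core_bot hpq hGp hGq h hO ih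
  by_cases hO' : pPrimeCore q G = ⊥
  · obtain ⟨Q, P, hc⟩ := exists_of_core_bot hpq.symm hGq hGp h' hO' fun N _ hN =>
      let ⟨P, Q, hc⟩ := ih N hN; ⟨Q, P, Subgroup.le_centralizer_iff.mp hc⟩
    exact ⟨P, Q, Subgroup.le_centralizer_iff.mp hc⟩
  obtain ⟨P₁, Q, h1⟩ := ih _ hO
  obtain ⟨P, Q₁, h2⟩ := ih _ hO'
  obtain ⟨Q, rfl⟩ := Sylow.mapSurjective_surjective (QuotientGroup.mk'_surjective _) q Q
  obtain ⟨P, rfl⟩ := Sylow.mapSurjective_surjective (QuotientGroup.mk'_surjective _) p P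
  have h3 := le_pPrimeCore_of_le_centralizer (hGp.quotient _) P₁ (coprime_card hpq (Sylow.isPGroup' _)) h1
  have h4 := le_pPrimeCore_of_le_centralizer (hGq.quotient _) Q₁
    (coprime_card hpq.symm (Sylow.isPGroup' _)) (Subgroup.le_centralizer_iff.mp h2)
  rw [pPrimeCore_quotient_pPrimeCore, Sylow.coe_mapSurjective, le_bot_iff, Subgroup.map_eq_bot_iff,
    QuotientGroup.ker_mk'] at h3 h4
  obtain ⟨a, ha⟩ := P.2.exists_card_eq
  obtain ⟨R, hR⟩ := CopAct.exists_invariant_sylow (A := P) (K := pPrimeCore p G)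
    (le_top.trans (Subgroup.normalizer_eq_top _).ge)
    (ha ▸ (coprime_card_pPrimeCore p).symm.pow_left a) (Or.inl (solv P.2)) q
  obtain ⟨R', hR'⟩ : ∃ R' : Sylow q G, (R' : Subgroup G) =
      (R : Subgroup _).map (pPrimeCore p G).subtype := by
    refine ⟨(R.2.map _).toSylow ?_, rfl⟩
    rw [Subgroup.index_map_subtype]
    exact hq.out.not_dvd_mul R.not_dvd_index fun hd =>
      Q.not_dvd_index (hd.trans (Subgroup.index_dvd_of_le h3))
  exact ⟨P, R', le_centralizer_of_inf (hR' ▸ hR) ((Subgroup.commutator_mono h4 le_rfl).trans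
    (Subgroup.commutator_le_left _ _)) (inf_eq_bot R'.2 (coprime_card_pPrimeCore q))⟩

theorem hyp_of_commuting [hp : Fact p.Prime] [hq : Fact q.Prime] (hpq : p ≠ q)
    (hGp : IsPSolvable p G) {P : Sylow p G} {Q : Sylow q G}
    (hc : (Q : Subgroup G) ≤ Subgroup.centralizer (P : Set G)) {χ : G → ℂ}
    (hχ : IsIrrCharacter G χ) (hk : pPrimeCore p G ≤ charKer χ) : ¬ q ∣ charDegree χ := fun hd =>
  Q.not_dvd_index (hd.trans (Deg.charDegree_dvd_index_of_le_charKer hχ
    ((le_pPrimeCore_of_le_centralizer hGp P (coprime_card hpq Q.2) hc).trans hk)))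

end Cfsg.Agent.Blk.PQ
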