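import Cfsg.Agent.Blk.PB0
import Cfsg.Agent.Ch.GlaubBase
import Cfsg.Agent.Ch.PiPart
import Cfsg.Agent.Ch.Extension
import Cfsg.Agent.Ch.DegThompson
import Cfsg.Agent.Ch.BrauerPerm
import Cfsg.Agent.GT.PPrimeCore

/-!
# Characters fixed by the power map `g ↦ g ^ k` (`k ≡ 1 + p` on `p`-elements, `1` on `p'`-elements)

* `PowK p k G`, `PowK.coprime`, `PowK.exists_pow_pow`, `PowK.card_modEq` (fixed points of the
  Galois action, modulo `p`)
* `card_conj_fixed_modEq`: fixed points of a `p`-group acting on a set of irreducible characters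
  of a normal subgroup
* `dvd_sum_degree_sq`: `p ∣ ∑_{χ ∈ B₀} χ(1)²` when `p ∣ |G|`
* `exists_canonical`: canonical extension from `O^p(G)`, fixed by the power map
-/

set_option autoImplicit false
open Cfsg

namespace Cfsg.Agent.Blk.PF

variable {G : Type*} [Group G] {p k : ℕ}

/-- `k` acts as `1 + p` on `p`-elements and trivially on `p'`-elements. -/
structure PowK (p k : ℕ) (G : Type*) [Group G] : Prop where
  pel : ∀ g : G, (∃ j : ℕ, orderOf g = p ^ j) → g ^ k = g ^ (1 + p)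
  reg : ∀ g : G, ¬ p ∣ orderOf g → g ^ k = g

theorem PowK.subgroup (h : PowK p k G) (H : Subgroup G) : PowK p k H where
  pel g hg := Subtype.ext (by
    simpa using h.pel g (by simpa [Subgroup.orderOf_coe] using hg))
  reg g hg := Subtype.ext (by
    simpa using h.reg g (by simpa [Subgroup.orderOf_coe] using hg))

theorem PowK.coprime [Finite G] (hp : p.Prime) (h : PowK p k G) : k.Coprime (Nat.card G) := by
  refine Nat.coprime_of_dvd fun q hq hqk hqG => ?_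
  have := Fact.mk hq
  obtain ⟨g, hg⟩ := exists_prime_orderOf_dvd_card' q hqG
  have h1 : g ^ k = 1 := orderOf_dvd_iff_pow_eq_one.mp (hg ▸ hqk)
  by_cases hqp : q = p
  · subst hqp
    rw [h.pel g ⟨1, by rw [hg, pow_one]⟩, ← orderOf_dvd_iff_pow_eq_one, hg,
      Nat.dvd_add_self_right] at h1
    exact hq.one_lt.ne' (Nat.dvd_one.mp h1)
  · rw [h.reg g (by rw [hg]; exact fun hd => hqp ((Nat.prime_dvd_prime_iff_eq hp hq).mp hd).symm)]
      at h1
    rw [h1, orderOf_one] at hg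
    exact hq.one_lt.ne hg

theorem PowK.pow_pow_pel (hp : p.Prime) (h : PowK p k G) {u : G} (hu : ∃ j, orderOf u = p ^ j)
    (n : ℕ) : u ^ k ^ n = u ^ (1 + p) ^ n := by
  induction n with
  | zero => simp
  | succ n ih =>
    obtain ⟨j, hj⟩ := hu
    rw [pow_succ, pow_mul, ih, pow_succ, pow_mul]
    refine h.pel _ ?_
    obtain ⟨i, -, hi⟩ := (Nat.dvd_prime_pow hp).mp (hj ▸ orderOf_pow_dvd (x := u) ((1 + p) ^ n))
    exact ⟨i, hi⟩

theorem PowK.pow_pow_reg (h : PowK p k G) {u : G} (hu : ¬ p ∣ orderOf u) (n : ℕ) :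
    u ^ k ^ n = u := by
  induction n with
  | zero => simp
  | succ n ih => rw [pow_succ, pow_mul, ih, h.reg u hu]

theorem PowK.exists_pow_pow [Finite G] (hp : p.Prime) (h : PowK p k G) :
    ∃ j : ℕ, ∀ g : G, g ^ k ^ p ^ j = g := by
  refine ⟨Nat.card G, fun g => ?_⟩
  obtain ⟨u, v, -, -, rfl, huv, ⟨j, hj⟩, hv⟩ := Ch.exists_p_parts hp g
  rw [huv.mul_pow, h.pow_pow_pel hp ⟨j, hj⟩, h.pow_pow_reg hv]
  congr 1
  have hjle : j ≤ Nat.card G := by
    have h1 : p ^ j ≤ Nat.card G := Nat.le_of_dvd Nat.card_pos (hj ▸ orderOf_dvd_natCard u)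
    exact (Nat.lt_pow_self hp.one_lt).le.trans h1
  have h2 : ((p : ℤ) ^ (Nat.card G + 1)) ∣ (1 + p : ℤ) ^ p ^ Nat.card G - 1 ^ p ^ Nat.card G :=
    dvd_sub_pow_of_dvd_sub (R := ℤ) (p := p) (by simp) _
  have h3 : (1 + p) ^ p ^ Nat.card G ≡ 1 [MOD orderOf u] := by
    rw [hj, Nat.modEq_iff_dvd]
    have := (pow_dvd_pow (p : ℤ) (hjle.trans (Nat.le_succ _))).trans h2
    rw [one_pow] at this
    push_cast
    exact dvd_sub_comm.mp this
  rw [pow_eq_pow_iff_modEq.mpr h3, pow_one]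

/-- The characters of a power-map stable set fixed by the power map. -/
theorem PowK.card_modEq [Finite G] (hp : p.Prime) (h : PowK p k G)
    (X : IrrCharacter G → Prop)
    (hX : ∀ χ ψ : IrrCharacter G, X χ → (∀ g, (ψ : G → ℂ) g = (χ : G → ℂ) (g ^ k)) → X ψ) :
    Nat.card {χ // X χ} ≡
      Nat.card {χ // X χ ∧ ∀ g, (χ : G → ℂ) (g ^ k) = (χ : G → ℂ) g} [MOD p] := by
  classical
  have := Fact.mk hp
  have hk := h.coprime hp
  obtain ⟨j, hj⟩ := h.exists_pow_pow hp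
  let f : Function.End {χ // X χ} := fun χ =>
    ⟨⟨fun g => (χ.1 : G → ℂ) (g ^ k), χ.1.2.comp_pow_of_coprime hk⟩, hX χ.1 _ χ.2 fun _ => rfl⟩
  have hf : ∀ (n : ℕ) (χ : {χ // X χ}) (g : G),
      (((f ^ n) χ).1 : G → ℂ) g = (χ.1 : G → ℂ) (g ^ k ^ n) := by
    intro n
    induction n with
    | zero => intro χ g; simp; rfl
    | succ n ih =>
      intro χ g
      rw [pow_succ']
      change (((f ^ n) χ).1 : G → ℂ) (g ^ k) = _
      rw [ih, ← pow_mul, pow_succ']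
  have hf1 : f ^ p ^ j = 1 := by
    funext χ
    refine Subtype.ext (Subtype.ext (funext fun g => ?_))
    rw [hf, hj]; rfl
  have := Fintype.ofFinite {χ // X χ}
  have key := Equiv.Perm.card_fixedPoints_modEq hf1
  rw [← Nat.card_eq_fintype_card, ← Nat.card_eq_fintype_card] at key
  refine key.trans (Eq.mpr (congrArg (· ≡ _ [MOD p]) ?_) (Nat.ModEq.refl _))
  refine Nat.card_congr ⟨fun χ => ⟨χ.1.1, χ.1.2, fun g => ?_⟩,
    fun χ => ⟨⟨χ.1, χ.2.1⟩, Subtype.ext (Subtype.ext (funext χ.2.2))⟩, fun _ => rfl, fun _ => rfl⟩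
  exact congrFun (congrArg (fun x : {χ // X χ} => (x.1 : G → ℂ)) χ.2) g

/-- Fixed points of a `p`-subgroup on a conjugation-stable set of characters of `N ⊴ G`. -/
theorem card_conj_fixed_modEq [Finite G] [Fact p.Prime] {N : Subgroup G} [hN : N.Normal]
    {P : Subgroup G} (hP : IsPGroup p P) (X : IrrCharacter N → Prop)
    (hX : ∀ x ∈ P, ∀ θ φ : IrrCharacter N, X θ → (φ : N → ℂ) = Ch.conjChar x θ → X φ) :
    Nat.card {θ // X θ} ≡
      Nat.card {θ // X θ ∧ ∀ x ∈ P, Ch.conjChar x (θ : N → ℂ) = θ} [MOD p] := by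
  let act : MulAction P {θ // X θ} :=
    { smul := fun x θ => ⟨⟨Ch.conjChar (x : G)⁻¹ (θ.1 : N → ℂ), Ch.isIrrCharacter_conjChar θ.1.2 _⟩,
        hX _ (P.inv_mem x.2) θ.1 _ θ.2 rfl⟩
      one_smul := fun θ => Subtype.ext (Subtype.ext (by
        change Ch.conjChar ((1 : P) : G)⁻¹ (θ.1 : N → ℂ) = θ.1
        simp [Ch.conjChar_one]))
      mul_smul := fun x y θ => Subtype.ext (Subtype.ext (by
        change Ch.conjChar ((x * y : P) : G)⁻¹ (θ.1 : N → ℂ) =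
          Ch.conjChar (x : G)⁻¹ (Ch.conjChar (y : G)⁻¹ (θ.1 : N → ℂ))
        rw [← Ch.conjChar_mul, Subgroup.coe_mul, mul_inv_rev])) }
  refine (hP.card_modEq_card_fixedPoints {θ // X θ}).trans
    (Eq.mpr (congrArg (· ≡ _ [MOD p]) ?_) (Nat.ModEq.refl _))
  refine Nat.card_congr ⟨fun θ => ⟨θ.1.1, θ.1.2, fun x hx => ?_⟩,
    fun θ => ⟨⟨θ.1, θ.2.1⟩, fun x => Subtype.ext (Subtype.ext (θ.2.2 _ (P.inv_mem x.2)))⟩,
    fun _ => rfl, fun _ => rfl⟩
  have := congrArg (fun x : {θ // X θ} => (x.1 : N → ℂ)) (θ.2 ⟨x⁻¹, P.inv_mem hx⟩)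
  change Ch.conjChar (x⁻¹)⁻¹ (θ.1.1 : N → ℂ) = _ at this
  rwa [inv_inv] at this

theorem dvd_sum_degree_sq [Finite G] {M : Ideal AlgInt} (hM : IsPModular p M)
    (hpG : p ∣ Nat.card G) : p ∣ ∑ χ ∈ PB.pb M G, charDegree (χ : G → ℂ) ^ 2 := by
  have := hM.isMaximal
  have := Fact.mk hM.prime
  obtain ⟨t, ht⟩ := exists_prime_orderOf_dvd_card' p hpG
  have h0 := PB.sum_mul_eq_zero_of_regular hM (G := G) (g := 1) (h := t)
    (by rw [orderOf_one]; exact hM.prime.one_lt.ne' ∘ Nat.dvd_one.mp) (ht ▸ dvd_rfl)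
  rw [← hM.natCast_mem_iff]
  have : ((∑ χ ∈ PB.pb M G, charDegree (χ : G → ℂ) ^ 2 : ℕ) : ℂ) =
      -∑ χ ∈ PB.pb M G, (χ : G → ℂ) 1 * ((χ : G → ℂ) t - (χ : G → ℂ) 1) := by
    simp only [mul_sub, Finset.sum_sub_distrib, h0, zero_sub, neg_neg]
    push_cast
    refine Finset.sum_congr rfl fun χ _ => ?_
    rw [← χ.2.coe_charDegree, sq]
  rw [this]
  refine MemLocalIdeal.neg (MemLocalIdeal.sum fun χ _ => MemLocalIdeal.mul_left ?_ ?_)
  · rw [← χ.2.coe_charDegree]; exact MemLocalRing.natCast _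
  · exact PB.apply_sub_mem hM χ.2.isCharacter ⟨1, by rw [ht, pow_one]⟩

/-- The canonical extension of an invariant `p'`-degree character of `O^p(G)`; it is fixed by
every power map fixing `θ`. -/
theorem exists_canonical [Finite G] (hp : p.Prime) {N : Subgroup G} [hN : N.Normal]
    (hNr : N = pResidual p G) {θ : N → ℂ} (hθ : IsIrrCharacter N θ)
    (hinv : ∀ g : G, Ch.conjChar g θ = θ) (hd : ¬ p ∣ charDegree θ) :
    ∃ χ : G → ℂ, IsIrrCharacter G χ ∧ (∀ n : N, χ n = θ n) ∧ ¬ p ∣ detOrder χ ∧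
      ∀ k : ℕ, k.Coprime (Nat.card G) → (∀ n : N, θ (n ^ k) = θ n) → ∀ g, χ (g ^ k) = χ g := by
  obtain ⟨a, ha⟩ : ∃ a, N.index = p ^ a := hNr ▸ GT.exists_index_pResidual hp
  have hdet : ¬ p ∣ detOrder θ := by
    obtain ⟨f, hf⟩ := hθ.isCharacter.exists_detHom
    rw [hθ.isCharacter.detOrder_eq hf]
    refine Ch.degT_not_dvd_orderOf_hom hp ?_ f
    subst hNr
    exact GT.pResidual_pResidual
  have hcop : ∀ m, ¬ p ∣ m → N.index.Coprime m := fun m hm =>
    ha ▸ Nat.Coprime.pow_left _ ((Nat.Prime.coprime_iff_not_dvd hp).mpr hm)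
  obtain ⟨χ, hχ, hext, hχd⟩ := Ch.exists_extends_detOrder_eq hθ
    (Ch.invariant_iff_conjChar.mpr hinv) (hcop _ fun h => (hp.dvd_mul.mp h).elim hdet hd)
  refine ⟨χ, hχ, hext, hχd ▸ hdet, fun k hk hθk => ?_⟩
  obtain ⟨σ, hσ⟩ := Ch.galois_exists_aut_char hk
  have hσχ := hσ χ hχ.isCharacter.isGeneralizedCharacter
  have := Ch.eq_of_extends_of_coprime_detOrder (χ' := fun g => (σ : ℂ →+* ℂ) (χ g)) hθ (hcop _ hd)
    hχ.isCharacter (hχ.isCharacter.galois _) hext (fun n => by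
      change σ (χ n) = _
      rw [hσχ, ← Subgroup.coe_pow, hext, hθk]) (hcop _ (hχd ▸ hdet))
    (by rw [Ch.Glb.detOrder_galois hχ.isCharacter]; exact hcop _ (hχd ▸ hdet))
  intro g
  rw [← hσχ]
  exact congrFun this g

end Cfsg.Agent.Blk.PF
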