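import Mathlib
import Cfsg.Agent.Blk.AlperinDade
import Cfsg.Agent.Blk.Local2
import Cfsg.Agent.Ch.Extension

/-!
# Extensions of a principal block character along `N C_G(P)`

If `ψ` extends `θ ∈ B₀(N)` then, on `L ≤ N C_G(P)`, the central character of `ψ` on the elements
of the group algebra commuting with `N` is the augmentation up to a linear character.
-/

set_option autoImplicit false
open Cfsg

namespace Cfsg.Agent.Blk.SE

open MonoidAlgebra AD

variable {G : Type*} [Group G] {M : Ideal AlgInt} {p : ℕ}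

theorem memLocalRing_of_pow [M.IsMaximal] {z : ℂ} {n : ℕ} (hn : n ≠ 0)
    (h : MemLocalRing M (z ^ n)) : MemLocalRing M z := by
  obtain ⟨a, b, hb, h⟩ := h
  have hb0 := algInt_ne_zero_of_notMem hb
  obtain ⟨n, rfl⟩ := Nat.exists_eq_succ_of_ne_zero hn
  have h1 : IsIntegral ℤ (z * b) := IsIntegral.of_pow n.succ_pos (by
    rw [mul_pow, ← h, pow_succ', ← mul_assoc, div_mul_cancel₀ _ hb0]
    exact a.2.mul (b.2.pow n))
  exact ⟨⟨_, h1⟩, b, hb, mul_div_cancel_right₀ _ hb0⟩

theorem exists_lift_hom [M.IsMaximal] [Finite G] (hM : IsPModular p M) (f : G →* Res M) :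
    ∃ l : G →* ℂˣ, ¬ p ∣ orderOf l ∧ ∀ g, red M (l g) = f g := by
  have h0 : ∀ g, f g ≠ 0 := fun g => ((Group.isUnit g).map f).ne_zero
  choose m ε hm hε hr using fun g => hM.exists_root_of_unity_red_eq (h0 g)
  have hm0 : ∀ g, m g ≠ 0 := fun g h => hm g (h ▸ dvd_zero p)
  have hmul : ∀ a b, ε (a * b) = ε a * ε b := fun a b =>
    hM.eq_of_red_eq (hm _) (n := m a * m b) (fun h => (hM.prime.dvd_mul.mp h).elim (hm a) (hm b))
      (hε _) (by rw [mul_pow, pow_mul, hε, mul_comm (m a), pow_mul, hε]; simp)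
      (by rw [red_mul (memLocalRing_of_pow_eq_one (hm0 a) (hε a))
        (memLocalRing_of_pow_eq_one (hm0 b) (hε b)), hr, hr, hr, map_mul])
  let l : G →* ℂ := ⟨⟨ε, hM.eq_one_of_red_eq_one (hm 1) (hε 1) (by rw [hr, map_one])⟩, hmul⟩
  have := Fintype.ofFinite G
  refine ⟨l.toHomUnits, fun h => ?_, hr⟩
  have h1 : l.toHomUnits ^ ∏ g, m g = 1 := MonoidHom.ext fun g => Units.ext (by
    obtain ⟨c, hc⟩ := Finset.dvd_prod_of_mem m (Finset.mem_univ g)
    simp [l, hc, pow_mul, hε])
  obtain ⟨g, -, hg⟩ := (hM.prime.prime.dvd_finsetProd_iff m).mp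
    (h.trans (orderOf_dvd_of_pow_eq_one h1))
  exact hm g hg

variable [Finite G] {N : Subgroup G}

theorem omega_mul_of_comm {ψ : G → ℂ} (hψ : IsCharacter G ψ)
    (hN : IsIrrCharacter N fun n : N => ψ n) {x : MonoidAlgebra ℂ G}
    (hx : ∀ n ∈ N, Commute (single n (1 : ℂ)) x) (y : MonoidAlgebra ℂ G) :
    omega ψ (x * y) = omega ψ x * omega ψ y := by
  have h1 : ψ 1 ≠ 0 := hN.apply_one_ne_zero
  obtain ⟨n, ρ, rfl⟩ := hψ
  have key : ∀ a, charLin ρ.character a = LinearMap.trace ℂ _ (ρ.asAlgebraHom a) := by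
    intro a
    induction a using MonoidAlgebra.induction_on with
    | of g => simp [Representation.character]
    | add a b ha hb => rw [map_add, map_add, map_add, ha, hb]
    | smul c a ha => rw [map_smul, map_smul, map_smul, ha]
  have : Representation.IsIrreducible (ρ.comp N.subtype) :=
    (Ch.isIrreducible_iff_isIrrCharacter _).mpr hN
  obtain ⟨c, hc⟩ := Ch.exists_eq_smul_of_commute (ρ.comp N.subtype) (ρ.asAlgebraHom x) fun g => by
    have := congrArg ρ.asAlgebraHom (hx g g.2).eq
    simpa using this.symm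
  have h2 : ∀ y, charLin ρ.character (x * y) = c * charLin ρ.character y := fun y => by
    rw [key, key, map_mul, hc, smul_mul_assoc, map_smul, ← Module.End.one_eq_id, one_mul,
      smul_eq_mul]
  have h3 := h2 1
  rw [mul_one, charLin_one] at h3
  rw [omega_eq_div, omega_eq_div, omega_eq_div, h2, h3]
  field_simp

variable [M.IsMaximal] [hN : N.Normal]

theorem good_one : Good M N 1 (1 : MonoidAlgebra ℂ G) where
  loc := one_mem _
  supp g hg := by
    classical
    rw [coeff_one_eq, if_neg]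
    rintro rfl
    exact hg rfl
  comm _ _ := Commute.one_right _

theorem good_pow {q : G ⧸ N} {x : MonoidAlgebra ℂ G} (hx : Good M N q x) (n : ℕ) :
    Good M N (q ^ n) (x ^ n) := by
  induction n with
  | zero => simpa using good_one
  | succ n ih => rw [pow_succ, pow_succ]; exact ih.mul hx

theorem good_conj {l : G} {x : MonoidAlgebra ℂ G} (hx : Good M N (l : G ⧸ N) x) (g : G) :
    Good M N ((g * l * g⁻¹ : G) : G ⧸ N) (single g 1 * x * single g⁻¹ 1) where
  loc := fun h => by rw [coeff_conj]; exact hx.loc _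
  supp h hh := by
    rw [coeff_conj]
    refine hx.supp _ fun h1 => hh ?_
    simp only [QuotientGroup.mk_mul, QuotientGroup.mk_inv] at h1 ⊢
    rw [← h1]; group
  comm n hn := (commute_single_iff _ n).mpr fun h => by
    rw [coeff_conj, coeff_conj, ← (commute_single_iff x _).mp
      (hx.comm _ (hN.conj_mem' n hn g)) (g⁻¹ * h * g)]
    congr 1
    group

variable {θ : IrrCharacter N} {ψ : G → ℂ}

theorem omega_of_good_one (hθ : θ ∈ principalBlock M N) (hext : ∀ n : N, ψ n = (θ : N → ℂ) n)
    {x : MonoidAlgebra ℂ G} (hx : Good M N 1 x) :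
    MemLocalRing M (omega ψ x) ∧ red M (omega ψ x) = red M (aug x) := by
  have hx' : extendFrom N (restrictTo N x) = x := extendFrom_restrictTo_of_supp N fun g hg =>
    hx.supp g fun h => hg ((QuotientGroup.eq_one_iff g).mp h)
  have hz : restrictTo N x ∈ Ctr ℂ N := mem_ctr_iff.mpr fun g h => by
    rw [coeff_restrictTo, coeff_restrictTo]
    exact (commute_single_iff x h).mp (hx.comm h h.2) g
  have hl := restrictTo_mem_locAlg N hx.loc
  have h0 : omega ψ x = omega θ (restrictTo N x) := by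
    rw [omega_eq_div, omega_eq_div, ← hx', charLin_extendFrom, hx', funext hext, ← hext 1]
    rfl
  rw [h0]
  refine ⟨omega_mem θ hz hl, ?_⟩
  have h1 := SameBlock.omega_sub hθ (Ch.irrOne N).2.isCharacter.isClassFunction
    θ.2.isCharacter.isClassFunction hz hl
  rw [red_eq_of_sub_mem (omega_mem (Ch.irrOne N) hz hl) h1.symm]
  congr 1
  rw [omega_eq_div, ← hx', charLin_extendFrom, hx']
  exact div_one _

theorem omega_mem_of_good (hθ : θ ∈ principalBlock M N) (hψ : IsCharacter G ψ)
    (hext : ∀ n : N, ψ n = (θ : N → ℂ) n) {q : G ⧸ N} {x : MonoidAlgebra ℂ G}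
    (hx : Good M N q x) : MemLocalRing M (omega ψ x) := by
  have hI : IsIrrCharacter N fun n : N => ψ n := funext hext ▸ θ.2
  have h1 : ∀ n, omega ψ (x ^ n) = omega ψ x ^ n := fun n => by
    induction n with
    | zero => simpa using omega_one_of_ne (hI.apply_one_ne_zero)
    | succ n ih => rw [pow_succ', omega_mul_of_comm hψ hI hx.comm, ih, pow_succ']
  refine memLocalRing_of_pow (orderOf_pos q).ne' ?_
  rw [← h1]
  exact (omega_of_good_one hθ hext (pow_orderOf_eq_one q ▸ good_pow hx _)).1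

theorem exists_good_of_mem (hM : IsPModular p M) {P : Subgroup G} (hP : ¬ p ∣ P.relIndex N) {l : G}
    (hl : l ∈ N ⊔ Subgroup.centralizer (P : Set G)) : ∃ k, Good M N (l : G ⧸ N) k ∧ aug k = 1 := by
  obtain ⟨n, hn, c, hc, rfl⟩ := Subgroup.mem_sup_of_normal_left.mp hl
  rw [QuotientGroup.mk_mul, (QuotientGroup.eq_one_iff n).mpr hn, one_mul]
  exact exists_good hM hP hc

theorem exists_hom (hM : IsPModular p M) {P L : Subgroup G} (hP : ¬ p ∣ P.relIndex N)
    (hL : L ≤ N ⊔ Subgroup.centralizer (P : Set G)) (hθ : θ ∈ principalBlock M N)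
    (hψ : IsCharacter G ψ) (hext : ∀ n : N, ψ n = (θ : N → ℂ) n) :
    ∃ l : L →* ℂˣ, ¬ p ∣ orderOf l ∧ (∀ x : L, (x : G) ∈ N → l x = 1) ∧
      (∀ (g : G) (x y : L), (y : G) = g * x * g⁻¹ → l y = l x) ∧
      ∀ (x : L) a, Good M N ((x : G) : G ⧸ N) a → red M (omega ψ a) = red M (l x) * red M (aug a) := by
  have hI : IsIrrCharacter N fun n : N => ψ n := funext hext ▸ θ.2
  choose k hk hk1 using fun x : L => exists_good_of_mem hM hP (hL x.2)
  have h1 : ∀ (x : L) a, Good M N ((x : G) : G ⧸ N) a →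
      red M (omega ψ a) * red M (omega ψ (k x⁻¹)) = red M (aug a) := fun x a ha => by
    have h2 := ha.mul (hk x⁻¹)
    rw [← QuotientGroup.mk_mul, Subgroup.coe_inv, mul_inv_cancel, QuotientGroup.mk_one] at h2
    rw [← red_mul (omega_mem_of_good hθ hψ hext ha) (omega_mem_of_good hθ hψ hext (hk _)),
      ← omega_mul_of_comm hψ hI ha.comm, (omega_of_good_one hθ hext h2).2, aug_mul, hk1, mul_one]
  have h2 : ∀ (x : L) a, Good M N ((x : G) : G ⧸ N) a →
      red M (omega ψ a) = red M (omega ψ (k x)) * red M (aug a) := fun x a ha => by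
    have h3 := h1 x _ (hk x)
    rw [hk1, red_one] at h3
    rw [← h1 x a ha, mul_left_comm, h3, mul_one]
  let f : L →* Res M :=
    { toFun x := red M (omega ψ (k x))
      map_one' := by
        rw [(omega_of_good_one hθ hext (hk 1)).2, hk1, red_one]
      map_mul' x y := by
        have h3 := h2 (x * y) _ ((hk x).mul (hk y))
        rwa [aug_mul, hk1, hk1, mul_one, red_one, mul_one, omega_mul_of_comm hψ hI (hk x).comm,
          red_mul (omega_mem_of_good hθ hψ hext (hk _)) (omega_mem_of_good hθ hψ hext (hk _)),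
          eq_comm] at h3 }
  obtain ⟨l, hl, hlf⟩ := exists_lift_hom hM f
  have hpow : ∀ x, ((l x : ℂˣ) : ℂ) ^ orderOf l = 1 := fun x => by
    rw [← Units.val_pow_eq_pow_val, Ch.hom_apply_pow_orderOf, Units.val_one]
  refine ⟨l, hl, fun x hx => Units.ext (hM.eq_one_of_red_eq_one hl (hpow x) ?_),
    fun g x y h => Units.ext (hM.eq_of_red_eq hl hl (hpow y) (hpow x) ?_),
    fun x a ha => (hlf x).symm ▸ h2 x a ha⟩
  · have h3 := hk x
    rw [(QuotientGroup.eq_one_iff _).mpr hx] at h3
    rw [hlf]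
    exact (omega_of_good_one hθ hext h3).2.trans (by rw [hk1, red_one])
  · have h3 := h2 y _ (h ▸ good_conj (hk x) g)
    rw [aug_mul, aug_mul, hk1, charLin_single, charLin_single, omega_eq_div,
      charLin_mul_comm hψ.isClassFunction, ← mul_assoc, single_mul_single, inv_mul_cancel,
      mul_one, ← MonoidAlgebra.one_def, one_mul, ← omega_eq_div] at h3
    rw [hlf, hlf]
    simpa [f] using h3.symm

/-- On the elements supported on a coset of `N` in `L` and commuting with `N`, the central character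
of `χ` is the augmentation. -/
def Strong (M : Ideal AlgInt) [M.IsMaximal] (N L : Subgroup G) (χ : G → ℂ) : Prop :=
  ∀ x ∈ L, ∀ a, Good M N (x : G ⧸ N) a → red M (omega χ a) = red M (aug a)

omit hN in
theorem omega_hom_mul {μ : G →* ℂˣ} (hμ : ∀ n ∈ N, μ n = 1) (ψ : G → ℂ) {x : G}
    {a : MonoidAlgebra ℂ G} (ha : Good M N (x : G ⧸ N) a) :
    omega (fun g => μ g * ψ g) a = μ x * omega ψ a := by
  have := Fintype.ofFinite G
  rw [omega_apply, omega_apply, Finset.mul_sum]
  refine Finset.sum_congr rfl fun g _ => ?_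
  by_cases hg : (g : G ⧸ N) = x
  · have h1 : μ g = μ x := by
      have := hμ _ (QuotientGroup.eq.mp hg)
      rwa [map_mul, map_inv, inv_mul_eq_one] at this
    simp only [h1, map_one, Units.val_one, one_mul]
    ring
  · simp [ha.supp g hg]

theorem strong_of_hom {L : Subgroup G} (hθ : θ ∈ principalBlock M N) (hψ : IsCharacter G ψ)
    (hext : ∀ n : N, ψ n = (θ : N → ℂ) n) {μ : G →* ℂˣ} (hμ : ∀ n ∈ N, μ n = 1)
    (h : ∀ x ∈ L, ∀ a, Good M N (x : G ⧸ N) a → red M (omega ψ a) = red M (μ x) * red M (aug a)) :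
    Strong M N L fun g => μ⁻¹ g * ψ g := by
  intro x hx a ha
  have h1 : ∀ ν : G →* ℂˣ, MemLocalRing M (ν x) := fun ν =>
    memLocalRing_of_pow_eq_one (Nat.card_pos (α := G)).ne' (by
      rw [← Units.val_pow_eq_pow_val, ← map_pow, pow_card_eq_one', map_one, Units.val_one])
  rw [omega_hom_mul (fun n hn => by simp [hμ n hn]) ψ ha,
    red_mul (h1 _) (omega_mem_of_good hθ hψ hext ha), h x hx a ha, ← mul_assoc,
    ← red_mul (h1 _) (h1 _)]
  simp

theorem Strong.mem {L J : Subgroup G} {χ : G → ℂ} (h : Strong M N L χ)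
    (hθ : θ ∈ principalBlock M N) (hχ : IsCharacter G χ) (hext : ∀ n : N, χ n = (θ : N → ℂ) n)
    (hNJ : N ≤ J) (hJL : J ≤ L) {ξ : IrrCharacter J} (hξ : ∀ y : J, (ξ : J → ℂ) y = χ y) :
    ξ ∈ principalBlock M J := by
  classical
  have := Fintype.ofFinite (G ⧸ N)
  refine P0.mem_iff_red.mpr fun y => ?_
  set X := extendFrom J (classSum ℂ y) with hX
  have hg : ∀ q, Good M N q (part N q X) := fun q =>
    { loc := ofFun_mem_locAlg.mpr fun g => MemLocalRing.ite
        (extendFrom_mem_locAlg J (classSum_mem_locAlg y) g) MemLocalRing.zero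
      supp := fun g hg => by rw [part, coeff_ofFun, if_neg hg]
      comm := fun n hn => (commute_single_iff _ n).mpr fun g => by
        have h1 : ((n * g * n⁻¹ : G) : G ⧸ N) = g := by simp [(QuotientGroup.eq_one_iff n).mpr hn]
        have h2 : single n (1 : ℂ) * X = X * single n 1 := by
          rw [hX, ← extendFrom_single J ⟨n, hNJ hn⟩, ← map_mul, ← map_mul,
            ctr_comm (classSum_mem_ctr y)]
        simp only [part, coeff_ofFun, h1, (commute_single_iff X n).mp h2] }
  have h1 : ∀ q, red M (omega χ (part N q X)) = red M (aug (part N q X)) := fun q => by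
    by_cases hq : ∃ x ∈ L, (x : G ⧸ N) = q
    · obtain ⟨x, hx, rfl⟩ := hq
      exact h x hx _ (hg _)
    · rw [show part N q X = 0 from ext_coeff fun g => ?_, map_zero, map_zero]
      rw [part, coeff_ofFun]
      split_ifs with h2
      · exact coeff_extendFrom_of_not_mem J _ fun h3 => hq ⟨g, hJL h3, h2⟩
      · rfl
  have h2 : centralChar (ξ : J → ℂ) y = omega χ X := by
    rw [← omega_classSum ξ.2.isClassFunction, omega_eq_div, omega_eq_div, hX, charLin_extendFrom,
      funext hξ]
    rfl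
  have h3 : aug X = (Subgroup.centralizer ({y} : Set J)).index := by
    rw [hX, charLin_extendFrom, charLin_classSum fun _ _ => rfl, mul_one]
  rw [h2, ← red_natCast, ← h3, ← sum_part N X, map_sum, map_sum,
    red_sum fun q _ => omega_mem_of_good hθ hχ hext (hg q), red_sum fun q _ => (hg q).aug_mem]
  exact Finset.sum_congr rfl fun q _ => h1 q

end Cfsg.Agent.Blk.SE
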