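import Mathlib
import Cfsg.Agent.Deg.McK2
import Cfsg.Agent.S4606
import Cfsg.Agent.S4648
import Cfsg.Agent.Ch.AbelianQuot
import Cfsg.Agent.Blk.Local2
import Cfsg.Agent.Blk.CenDef

/-! Character triples with at most two characters over the invariant character. -/

set_option autoImplicit false
set_option linter.unusedSectionVars false
open Cfsg

namespace Cfsg.Agent.Blk.Three

open Cfsg.Agent.Ch Cfsg.Agent.Blk.Om Subgroup Function
open scoped commutatorElement

universe u

variable {G : Type u} [Group G] [Finite G] {N : Subgroup G} [hN : N.Normal] {θ : N → ℂ}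

/-- The number of irreducible characters over `θ`. -/
noncomputable def no (N : Subgroup G) (θ : N → ℂ) : ℕ :=
  Nat.card {χ : IrrCharacter G // Over N.subtype χ.1 θ}

omit hN in
theorem cnt_zero (θ : N → ℂ) : Deg.cnt 0 N.subtype θ = no N θ :=
  Nat.card_congr (Equiv.subtypeEquivRight fun χ =>
    ⟨fun h => h.2, fun h => ⟨by simpa using χ.2.charDegree_pos.ne', h⟩⟩)

theorem no_cover (T : TripleCover N θ) (hθ : IsIrrCharacter N θ) :
    haveI := T.fin
    no T.Z (fun z => T.mu z) = no N θ := by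
  haveI := T.fin
  have h := Deg.cnt_cover (p := 0) T hθ (fun d => by simp [hθ.charDegree_pos.ne']) (U := ⊤) le_top
  rw [Deg.cnt_top, Deg.cnt_eq_of_eq 0 T.up_top _ le_top, Deg.cnt_top, cnt_zero, cnt_zero] at h
  exact h.symm

theorem exists_mult [Fintype G] (hθ : IsIrrCharacter N θ)
    (hinv : ∀ (g : G) (n : N), θ ⟨g * n * g⁻¹, hN.conj_mem n n.2 g⟩ = θ n) :
    ∃ m : IrrCharacter G → ℕ, (∀ χ, m χ ≠ 0 ↔ Over N.subtype χ.1 θ) ∧
      (∀ χ, Over N.subtype χ.1 θ → ∀ n : N, χ.1 n = m χ * θ n) ∧ ∑ χ, m χ ^ 2 = N.index := by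
  have := Fintype.ofFinite N
  obtain ⟨m, h1, -, h2⟩ := exists_mult_over hθ
  have h3 := invariant_iff_conjChar.1 hinv
  refine ⟨m, fun χ => by rw [over_subtype_iff, h1, Nat.cast_ne_zero], fun χ h n => ?_,
    by rw [h2, relIndex_inertia_of_invariant h3]⟩
  have := congrFun (res_eq_smul_of_invariant χ.2 hθ h3 (over_subtype_iff.1 h)) n
  rwa [h1] at this

theorem card_pairs_le (hθ : IsIrrCharacter N θ)
    (hinv : ∀ (g : G) (n : N), θ ⟨g * n * g⁻¹, hN.conj_mem n n.2 g⟩ = θ n)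
    {X : Type*} [Group X] [Finite X] {π : G →* X} (hs : Surjective π) (hk : π.ker = N)
    (S : X → Prop) (hS : ∀ x, S x → ∀ c, x * c = c * x → ∃ g, x ∈ zpowers g ∧ c ∈ zpowers g) :
    Nat.card {y : X × X // S y.1 ∧ y.1 * y.2 = y.2 * y.1} ≤ no N θ * Nat.card X := by
  obtain ⟨T⟩ := nonempty_tripleCover hθ hinv
  haveI := T.fin
  have hZ := T.Z_le_center
  haveI : T.Z.Normal := ⟨fun z hz g => by
    rw [mem_center_iff.1 (hZ hz) g, mul_inv_cancel_right]; exact hz⟩
  set ρ := Deg.coverProj T π hk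
  have hρ := Deg.coverProj_surjective T hk hs
  have hker : ρ.ker = T.Z := Deg.ker_coverProj T π hk
  have h1 := Deg.card_ov_lin T.mu (fun g w => by
    congr 2
    rw [mem_center_iff.1 (hZ w.2) g, mul_inv_cancel_right])
  have h2 := Deg.card_pairs_preimage ρ hρ fun a b => S a ∧ a * b = b * a
  have h3 : Nat.card T.Q = Nat.card T.Z * Nat.card X := by
    rw [← card_ker_mul_card hρ, hker]
  have hc : ∀ {a b : T.Q}, ⁅a, b⁆ ∈ T.Z ↔ ρ a * ρ b = ρ b * ρ a := fun {a b} => by
    rw [← hker, MonoidHom.mem_ker, map_commutatorElement, commutatorElement_eq_one_iff_mul_comm]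
  have h4 : Nat.card {x : T.Q × T.Q // S (ρ x.1) ∧ ρ x.1 * ρ x.2 = ρ x.2 * ρ x.1} ≤
      Nat.card {x : T.Q × T.Q // ⁅x.1, x.2⁆ ∈ T.Z ∧ ∀ c (h : ⁅x.1, c⁆ ∈ T.Z), T.mu ⟨_, h⟩ = 1} := by
    refine Nat.card_le_card_of_injective (fun x => ⟨x.1, hc.2 x.2.2, fun c h => ?_⟩)
      fun a b e => Subtype.ext (congrArg Subtype.val e :)
    obtain ⟨g, ⟨i, hi⟩, ⟨j, hj⟩⟩ := hS _ x.2.1 _ (hc.1 h)
    obtain ⟨t, rfl⟩ := hρ g
    have e1 : (t ^ i)⁻¹ * x.1.1 ∈ center T.Q := hZ (by
      rw [← hker, MonoidHom.mem_ker, map_mul, map_inv, map_zpow, ← hi, inv_mul_cancel])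
    have e2 : (t ^ j)⁻¹ * c ∈ center T.Q := hZ (by
      rw [← hker, MonoidHom.mem_ker, map_mul, map_inv, map_zpow, ← hj, inv_mul_cancel])
    have e3 : Commute x.1.1 c := by
      rw [← mul_inv_cancel_left (t ^ i) x.1.1, ← mul_inv_cancel_left (t ^ j) c]
      exact (((Commute.refl t).zpow_zpow i j).mul_right (mem_center_iff.1 e2 _)).mul_left
        (mem_center_iff.1 e1 _).symm
    have e4 : (⟨_, h⟩ : T.Z) = 1 := Subtype.ext (commutatorElement_eq_one_iff_commute.2 e3)
    rw [e4, map_one]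
  rw [h2, ← h1, hker, h3] at h4
  have h5 : Nat.card {χ : IrrCharacter T.Q // Deg.Ov T.Z.subtype χ.1 fun w => T.mu w} = no N θ :=
    no_cover T hθ
  rw [h5] at h4
  refine Nat.le_of_mul_le_mul_left (h4.trans (le_of_eq ?_)) (pow_pos (Nat.card_pos (α := T.Z)) 2)
  ring

theorem blockRank_lt {p : ℕ} [Fact p.Prime] {M : Ideal AlgInt} (hM : IsPModular p M)
    {B : Set (IrrCharacter G)} (hB : IsPBlock M B) {D : Subgroup G} (hD : IsDefectGroup p M B D)
    (h1 : D ≠ ⊥) : blockRank p B < Nat.card B := by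
  classical
  obtain ⟨⟨x, hx⟩, hx1⟩ := (ne_bot_iff_exists_ne_one).1 h1
  have hx2 : x ≠ 1 := fun e => hx1 (Subtype.ext e)
  have h := S4606.sum_sec_le hM hB {1, x} (fun g hg => by
    simp only [Finset.mem_insert, Finset.mem_singleton] at hg
    rcases hg with rfl | rfl
    exacts [⟨0, by simp⟩, S4606.orderOf_of_mem hD.isPGroup hx]) (by
    simp only [Finset.mem_insert, Finset.mem_singleton]
    rintro a (rfl | rfl) b (rfl | rfl) hab <;> first | rfl | simp_all)
  rw [Finset.sum_pair hx2.symm, S4606.sec_one hM hB] at h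
  have := S4606.sec_pos hM hB hD hx
  omega

/-- A block with at most two characters has defect groups of order at most two. -/
theorem card_le_of_le_two {p : ℕ} [Fact p.Prime] {M : Ideal AlgInt} (hM : IsPModular p M)
    {B : Set (IrrCharacter G)} (hB : IsPBlock M B) {D : Subgroup G} (hD : IsDefectGroup p M B D)
    (h : Nat.card B ≤ 2) : Nat.card D ≤ 2 := by
  by_cases h1 : D = ⊥
  · simp [h1]
  have := hM.isMaximal
  have h2 := blockRank_lt hM hB hD h1
  have h3 := blockRank_pos (p := p) Fact.out hB.nonempty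
  rw [(S4648.result p M hM B hB D hD h1 (by omega) (by omega)).2.1]
  exact h

theorem false_of_central (hZ : N ≤ center G) (μ : N →* ℂˣ) (ha : no N (fun z => μ z) ≤ 2) {r : ℕ}
    (hr : r.Prime) (hr2 : r ≠ 2) (hd : r ∣ N.index) (hN' : ¬ r ∣ Nat.card N) : False := by
  classical
  have := Fintype.ofFinite G
  have := Fact.mk hr
  obtain ⟨M, hM⟩ := exists_isPModular hr
  have := hM.isMaximal
  have hμ : IsIrrCharacter N fun z => (μ z : ℂ) := isIrrCharacter_monoidHom_units μ
  obtain ⟨m, h1, h2, h3⟩ := exists_mult hμ (fun g n => by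
    congr 3
    rw [mem_center_iff.1 (hZ n.2) g, mul_inv_cancel_right])
  set k := (Nat.card G).factorization r with hk
  have hki : N.index.factorization r = k := by
    rw [hk, ← N.card_mul_index, Nat.factorization_mul Nat.card_pos.ne' index_ne_zero_of_finite,
      Finsupp.add_apply, Nat.factorization_eq_zero_of_not_dvd hN', zero_add]
  have hk0 : 0 < k := hki ▸ hr.factorization_pos_of_dvd index_ne_zero_of_finite hd
  by_cases h : ∀ χ : IrrCharacter G, r ^ k ∣ m χ
  · have h4 : r ^ (2 * k) ∣ N.index := by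
      rw [← h3, mul_comm, pow_mul]
      exact Finset.dvd_sum fun χ _ => pow_dvd_pow_of_dvd (h χ) 2
    have := (hr.pow_dvd_iff_le_factorization index_ne_zero_of_finite).1 h4
    omega
  push Not at h
  obtain ⟨χ, hχ⟩ := h
  have ho : Over N.subtype χ.1 fun z => (μ z : ℂ) := (h1 χ).1 fun e => hχ (e ▸ dvd_zero _)
  have hdeg : charDegree χ.1 = m χ := by
    have := h2 χ ho 1
    rw [coe_one, map_one, Units.val_one, mul_one, ← χ.2.coe_charDegree] at this
    exact_mod_cast this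
  have hB := isPBlock_blockOf (M := M) χ
  obtain ⟨D, hD⟩ := hB.exists_isDefectGroup r
  have hD1 : D ≠ ⊥ := fun e => hχ (by
    have := (hB.blockDefect_eq_zero_iff hM (mem_blockOf_self χ)).1 ((hD.eq_bot_iff hM hB).1 e)
    rw [hk, ← this, ← hdeg]
    exact Nat.ordProj_dvd _ _)
  have h5 : Nat.card (blockOf M χ.1) ≤ no N fun z => μ z :=
    Nat.card_le_card_of_injective (fun ψ => ⟨ψ.1, Over.of_sameBlock (θ := ⟨_, hμ⟩) hM hN' ho ψ.2⟩)
      fun a b e => Subtype.ext (congrArg Subtype.val e :)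
  have h6 := card_le_of_le_two hM hB hD (h5.trans ha)
  obtain ⟨n, hn⟩ := hD.isPGroup.exists_card_eq
  rcases n with _ | n
  · exact hD1 (card_eq_one.1 (by simpa using hn))
  · have := Nat.le_of_dvd Nat.card_pos (hn ▸ dvd_pow_self r n.succ_ne_zero)
    have := hr.two_le
    omega

theorem not_isCyclic (hθ : IsIrrCharacter N θ)
    (hinv : ∀ (g : G) (n : N), θ ⟨g * n * g⁻¹, hN.conj_mem n n.2 g⟩ = θ n)
    {X : Type*} [Group X] [Finite X] {π : G →* X} (hs : Surjective π) (hk : π.ker = N)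
    (ha : no N θ ≤ 2) {r : ℕ} [hr : Fact r.Prime] (hr2 : r ≠ 2) (hd : r ∣ Nat.card X)
    (R : Sylow r X) : ¬ IsCyclic R := by
  intro hc
  obtain ⟨⟨g, hg⟩, hgen⟩ := hc.exists_generator
  obtain ⟨s, rfl⟩ := hs g
  have hR : (R : Subgroup X) = zpowers (π s) := le_antisymm
    (fun x hx => by
      obtain ⟨i, hi⟩ := hgen ⟨x, hx⟩
      exact ⟨i, congrArg Subtype.val hi⟩) (zpowers_le.2 hg)
  have hU : N ⊔ zpowers s = (R : Subgroup X).comap π := by
    rw [hR, ← MonoidHom.map_zpowers, comap_map_eq, hk, sup_comm]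
  obtain ⟨η, hη, hη'⟩ := Deg.ext_of_cyclic (L := N) (s := s) (by simp [normalizer_eq_top]) hθ
    (fun t _ a b e => by
      rw [← hinv t a]
      exact congrArg θ (Subtype.ext e))
  have hi : ¬ r ∣ (N ⊔ zpowers s).index := by
    rw [hU, index_comap_of_surjective _ hs]
    exact R.not_dvd_index
  obtain ⟨T, hT⟩ : ∃ T : TripleCover N θ, ∀ z : T.π.ker, z ^ (N ⊔ zpowers s).index = 1 := by
    obtain ⟨d, ρ, hρ, rfl⟩ := hθ
    exact exists_tripleCover_of_tripPow ρ hinv index_ne_zero_of_finite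
      (tripPow_index_of_char ρ (tripProj_surjective ρ hinv) _ le_sup_left hη fun n => hη' n _)
  haveI := T.fin
  have hZ := T.Z_le_center
  haveI : T.Z.Normal := ⟨fun z hz g => by
    rw [mem_center_iff.1 (hZ hz) g, mul_inv_cancel_right]; exact hz⟩
  refine false_of_central hZ T.mu (by rwa [no_cover T hθ]) hr.out hr2 ?_
    (Deg.not_dvd_card_Z hr.out T hi hT)
  rwa [T.index_Z, ← hk, index_ker, π.range_eq_top_of_surjective hs, card_top]

end Cfsg.Agent.Blk.Three
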