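import Mathlib
import Cfsg.Agent.Blk.ThreeA
import Cfsg.Agent.Blk.ThreeB
import Cfsg.Agent.Blk.Harada
import Cfsg.Agent.Blk.CoverDict

/-! Blocks with a normal abelian defect group and at most three characters. -/

set_option autoImplicit false
set_option linter.unusedSectionVars false
open Cfsg

namespace Cfsg.Agent.Blk.Three

open Cfsg.Agent.Ch Cfsg.Agent.Blk.Om Cfsg.Agent.GT Subgroup Function

universe u

variable {G : Type u} [Group G] [Finite G] {p : ℕ} [hp : Fact p.Prime] {M : Ideal AlgInt}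
  {B : Set (IrrCharacter G)} {V : Subgroup G} [hV : V.Normal]

open Classical in
theorem sum_sq_eq [Fintype G] (hM : IsPModular p M) (hB : IsPBlock M B) (hP : IsPGroup p V) :
    ∑ χ with χ ∈ B, charDegree χ.1 ^ 2 =
      Nat.card V * ∑ χ with χ ∈ B ∧ V ≤ charKer χ.1, charDegree χ.1 ^ 2 := by
  have := hM.isMaximal
  have := Fintype.ofFinite V
  have h1 : ∀ χ : IrrCharacter G, ∑ v : V, χ.1 v =
      if V ≤ charKer χ.1 then (Nat.card V : ℂ) * χ.1 1 else 0 := fun χ => by
    split_ifs with h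
    · rw [Finset.sum_congr rfl fun v _ => apply_eq_of_mem_charKer (h v.2)]
      simp
    · have h2 := not_not.1 (mt (classInner_res_one_ne_zero_iff χ.2).1 h)
      rw [classInner_def, mul_eq_zero] at h2
      simpa using h2.resolve_left (inv_ne_zero (natCard_ne_zero V))
  have h2 : ∑ v : V, ∑ χ with χ ∈ B, χ.1 1 * χ.1 v = ∑ χ with χ ∈ B, χ.1 1 * χ.1 1 := by
    refine Finset.sum_eq_single 1 (fun v _ hv => ?_) (by simp)
    have := (blockCoeff_eq_zero_iff B (v : G)⁻¹).1 (Om.blockCoeff_eq_zero_of_dvd hM hB (by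
      rw [orderOf_inv, orderOf_coe]; exact hP.dvd_orderOf hv))
    rwa [inv_inv, finsum_mem_irr_eq_sum] at this
  rw [Finset.sum_comm] at h2
  simp_rw [← Finset.mul_sum, h1] at h2
  apply Nat.cast_injective (R := ℂ)
  push_cast
  have h3 : ∀ χ : IrrCharacter G, (charDegree χ.1 : ℂ) = χ.1 1 := fun χ => χ.2.coe_charDegree
  simp_rw [h3, sq]
  rw [← h2, ← Finset.filter_filter, Finset.sum_filter (s := Finset.filter _ _), Finset.mul_sum]
  refine Finset.sum_congr rfl fun χ _ => ?_
  split_ifs <;> ring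

open Classical in
theorem exists_sq [Fintype G] (hM : IsPModular p M) (hB : IsPBlock M B) (hP : IsPGroup p V)
    (h1 : V ≠ ⊥) (hk : Nat.card B = 3) {χ₀ : IrrCharacter G} (h0 : χ₀ ∈ B ∧ V ≤ charKer χ₀.1) :
    (Finset.univ.filter fun χ : IrrCharacter G => χ ∈ B ∧ V ≤ charKer χ.1).card ≤ 2 ∧
      ∃ s u w : ℕ, s ≠ 0 ∧ (Nat.card V - 1) * s ^ 2 = u ^ 2 + w ^ 2 := by
  have h := sum_sq_eq hM hB hP
  set K := Finset.univ.filter fun χ : IrrCharacter G => χ ∈ B ∧ V ≤ charKer χ.1 with hK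
  set A := Finset.univ.filter fun χ : IrrCharacter G => χ ∈ B with hA
  have hKA : K ⊆ A := fun χ hχ => by simp_all
  have hc : A.card = 3 := by rw [← hk, Nat.card_eq_fintype_card, Fintype.card_subtype]
  have hq : 1 < Nat.card V := (one_lt_card_iff_ne_bot V).2 h1
  have hK0 : 0 < K.card := Finset.card_pos.2 ⟨χ₀, by simpa [hK] using h0⟩
  obtain ⟨q, hq'⟩ := Nat.exists_eq_add_of_le' hq.le
  rw [← Finset.sum_sdiff hKA, hq', add_mul, one_mul, Nat.add_right_cancel_iff] at h
  rw [hq', Nat.add_sub_cancel]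
  have hd := Finset.card_sdiff_add_card_eq_card hKA
  have hpos : ∀ χ : IrrCharacter G, charDegree χ.1 ≠ 0 := fun χ => χ.2.charDegree_pos.ne'
  have h3 : K.card ≠ 3 := fun e => by
    rw [Finset.card_eq_zero.1 (show (A \ K).card = 0 by omega), Finset.sum_empty, eq_comm,
      mul_eq_zero, Finset.sum_eq_zero_iff] at h
    exact hpos χ₀ (pow_eq_zero_iff two_ne_zero |>.1 (h.resolve_left (by omega) _
      (by simpa [hK] using h0)))
  refine ⟨by omega, ?_⟩
  by_cases h2 : K.card = 1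
  · obtain ⟨x, hx⟩ := Finset.card_eq_one.1 h2
    obtain ⟨y, z, hyz, e⟩ := Finset.card_eq_two.1 (show (A \ K).card = 2 by omega)
    rw [e, hx, Finset.sum_pair hyz, Finset.sum_singleton] at h
    exact ⟨_, _, _, hpos x, h.symm⟩
  · obtain ⟨x, hx⟩ := Finset.card_eq_one.1 (show (A \ K).card = 1 by omega)
    obtain ⟨y, z, hyz, e⟩ := Finset.card_eq_two.1 (show K.card = 2 by omega)
    rw [hx, e, Finset.sum_pair hyz, Finset.sum_singleton] at h
    exact ⟨_, q * charDegree y.1, q * charDegree z.1, hpos x, by rw [h]; ring⟩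

omit hV hp in
theorem no_le_one {N : Subgroup G} [hN : N.Normal] {θ : N → ℂ} (hθ : IsIrrCharacter N θ)
    (hinv : ∀ (g : G) (n : N), θ ⟨g * n * g⁻¹, hN.conj_mem n n.2 g⟩ = θ n)
    (h2 : no N θ ≤ 2) (h : N.index = 16) : no N θ ≤ 1 := by
  classical
  have := Fintype.ofFinite G
  obtain ⟨m, h1, -, h3⟩ := exists_mult hθ hinv
  by_contra h4
  rw [no, Nat.card_eq_fintype_card, Fintype.card_subtype] at h2 h4
  obtain ⟨x, y, hxy, e⟩ := Finset.card_eq_two.1 (le_antisymm h2 (by omega))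
  rw [← Finset.sum_subset (Finset.filter_subset (fun χ : IrrCharacter G => Over N.subtype χ.1 θ) _)
    (fun χ _ hχ => by
      rw [not_not.1 (mt (h1 χ).1 (by simpa using hχ))]; rfl), e, Finset.sum_pair hxy, h] at h3
  have hx := (h1 x).2 (Finset.mem_filter.1 (e.ge (Finset.mem_insert_self x {y}))).2
  have hy := (h1 y).2 (Finset.mem_filter.1 (e.ge (by simp : y ∈ ({x, y} : Finset _)))).2
  generalize m x = a at *
  generalize m y = b at *
  have ha : a < 4 := by nlinarith [Nat.pos_of_ne_zero hy]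
  have hb : b < 4 := by nlinarith [Nat.pos_of_ne_zero hx]
  interval_cases a <;> interval_cases b <;> omega

theorem eq_of_defect (hM : IsPModular p M) (hB : IsPBlock M B) (hD : IsDefectGroup p M B V)
    {P : Subgroup G} (hP : IsDefectGroup p M B P) : P = V := by
  have := hM.isMaximal
  obtain ⟨x, rfl⟩ := hD.exists_conj_eq hM hB hP
  exact Tr.map_conj_eq_of_mem (by rw [normalizer_eq_top]; trivial)

theorem card_le_of_stable (hM : IsPModular p M) (hB : IsPBlock M B) (hD : IsDefectGroup p M B V)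
    (hab : V ≤ centralizer (V : Set G)) (hk : Nat.card B ≤ 3)
    {b : Set (IrrCharacter (centralizer (V : Set G)))} (hb : IsPBlock M b)
    (hc : Covers (centralizer (V : Set G)).subtype B b) (hT : blkStab _ b = ⊤) :
    Nat.card V ≤ 3 := by
  classical
  have := hM.isMaximal
  have := Fintype.ofFinite G
  by_cases h2 : Nat.card B ≤ 2
  · exact (card_le_of_le_two hM hB hD h2).trans (by norm_num)
  by_cases h1 : V = ⊥
  · simp [h1]
  by_cases hl : blockRank p B = 1
  · rw [(S4648.result p M hM B hB V hD h1 hl (by omega)).2.1]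
    exact hk
  have hl2 : Nat.card B ≤ blockRank p B + 1 := by
    have := blockRank_pos hp.out hB.nonempty
    omega
  obtain ⟨C, hC⟩ : ∃ C, C = centralizer (V : Set G) := ⟨_, rfl⟩
  have hnd := (not_dvd_relIndex_blkStab hM hB hD hb hc).2
  rw [hT, relIndex_top_right, sup_eq_right.2 hab] at hnd
  obtain ⟨hCn, b, hb, hc, hT⟩ : ∃ (_ : C.Normal) (b : Set (IrrCharacter C)), IsPBlock M b ∧
      Covers C.subtype B b ∧ blkStab C b = ⊤ := by
    subst hC
    exact ⟨inferInstance, b, hb, hc, hT⟩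
  have hmC : ∀ {g : G}, g ∈ C ↔ ∀ v ∈ V, v * g = g * v := by rw [hC]; rfl
  rw [← hC] at hab hnd
  obtain ⟨D, hD'⟩ := hb.exists_isDefectGroup p
  have hD2 : D = V.subgroupOf C := by
    obtain ⟨P, hP, e⟩ := Cov.exists_isDefectGroup_inf_eq hM hB hb hc (map_subtype_le D)
      (by rwa [subgroupOf, comap_map_eq_self_of_injective C.subtype_injective])
    rw [eq_of_defect hM hB hD hP, inf_eq_left.2 hab] at e
    rw [e, subgroupOf, comap_map_eq_self_of_injective C.subtype_injective]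
  subst hD2
  obtain ⟨θ, hθ⟩ := exists_canon hM hb hD' (sup_centralizer_eq_top_of_le_center fun v hv =>
    mem_center_iff.2 fun c => Subtype.ext (hmC.1 c.2 v hv).symm)
  have hθ1 : ∀ v : C, (v : G) ∈ V → θ.1 v = θ.1 1 := fun v hv => apply_eq_of_mem_charKer (hθ.ker hv)
  have hinv : ∀ (g : G) (n : C), θ.1 ⟨g * n * g⁻¹, Normal.conj_mem inferInstance _ n.2 g⟩ = θ.1 n :=
    fun g n => ((eq_conjIrr_iff.1 (hθ.unique (mem_blkStab_iff.1 (hT ▸ mem_top g) θ hθ.mem)
      fun v hv => (conjIrr g θ).2.mem_charKer.2 (by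
        rw [eq_conjIrr_iff.1 rfl v, eq_conjIrr_iff.1 rfl 1, hθ1 _ (hV.conj_mem _ hv g),
          hθ1 ⟨g * (1 : C) * g⁻¹, _⟩ (hV.conj_mem _ (one_mem _) g)])).symm) n).symm
  obtain ⟨m, hm1, hm2, -⟩ := exists_mult θ.2 hinv
  have hov : ∀ χ : IrrCharacter G, Over C.subtype χ.1 θ.1 → χ ∈ B ∧ V ≤ charKer χ.1 := fun χ h => by
    refine ⟨?_, fun v hv => χ.2.mem_charKer.2 ?_⟩
    · rw [Covers.eq_of_supp hB (isPBlock_blockOf χ) hb hc ⟨χ, mem_blockOf_self χ, θ, hθ.mem, h⟩
        fun g hg => by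
          rw [not_not.1 (mt (mem_centralizer_of_blockCoeff_ne_zero
            (fun g => Om.blockCoeff_eq_zero_of_dvd hM hB) hD.isPGroup) (hC ▸ hg))]
          exact (have := hM.isMaximal; MemLocalIdeal.zero)]
      exact mem_blockOf_self χ
    · exact (hm2 χ h ⟨v, hab hv⟩).trans (by rw [hθ1 _ hv]; exact (hm2 χ h 1).symm)
  obtain ⟨χ₀, h₀⟩ := exists_over_subtype C θ
  obtain ⟨h3, s, u, w, hs, hsq⟩ := exists_sq hM hB hD.isPGroup h1 (by omega) (hov _ h₀)
  have ha : no C θ.1 ≤ 2 := by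
    rw [no, Nat.card_eq_fintype_card, Fintype.card_subtype]
    exact (Finset.card_le_card fun χ hχ => by simpa using hov χ (by simpa using hχ)).trans h3
  letI : CommGroup V := { (inferInstance : Group V) with
    mul_comm := fun a c => Subtype.ext (hmC.1 (hab c.2) a a.2) }
  let π := (MulAut.conjNormal : G →* MulAut V).rangeRestrict
  have hπ : Surjective π := MonoidHom.rangeRestrict_surjective _
  have hker : π.ker = C := by
    ext g
    rw [MonoidHom.ker_rangeRestrict, MonoidHom.mem_ker, hmC]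
    refine ⟨fun h v hv => ?_, fun h => MulEquiv.ext fun v => Subtype.ext ?_⟩
    · have := congrArg (fun σ : MulAut V => (σ ⟨v, hv⟩ : G)) h
      exact (mul_inv_eq_iff_eq_mul.1 this).symm
    · exact mul_inv_eq_iff_eq_mul.2 (h v v.2).symm
  have hi : Nat.card (MulAut.conjNormal : G →* MulAut V).range = C.index := by
    rw [← hker, index_ker, π.range_eq_top_of_surjective hπ, card_top]
  refine card_le_three (E := (MulAut.conjNormal : G →* MulAut V).range) hD.isPGroup
    (fun e h => Subtype.ext (MulEquiv.ext h)) (hi ▸ hnd) (fun v w hv hw => ?_) ha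
    (fun h => no_le_one θ.2 hinv ha (hi ▸ h)) (card_pairs_le θ.2 hinv hπ hker)
    (fun r _ h2 hr R => not_isCyclic θ.2 hinv hπ hker ha h2 hr R) hs hsq
  obtain ⟨g, hg⟩ := isConj_iff.1 (S4606.isConj_of_mem hM hB hD hl2 v.2 w.2
    (fun e => hv (Subtype.ext e)) fun e => hw (Subtype.ext e))
  exact ⟨π g, Subtype.ext hg⟩

omit hV [Finite G] in
theorem card_le_of_normal (hM : IsPModular p M) (n : ℕ) :
    ∀ (G : Type u) [Group G] [Finite G], Nat.card G = n → ∀ {B : Set (IrrCharacter G)},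
      IsPBlock M B → ∀ {V : Subgroup G} [V.Normal], IsDefectGroup p M B V →
      V ≤ centralizer (V : Set G) → Nat.card B ≤ 3 → Nat.card V ≤ 3 := by
  induction n using Nat.strong_induction_on with
  | _ n ih =>
  intro G _ _ hn B hB V hV hD hab hk
  have := Fintype.ofFinite G
  have := hM.isMaximal
  obtain ⟨b, hb, hc⟩ := exists_covers_under hB (centralizer (V : Set G))
  by_cases hT : blkStab _ b = ⊤
  · exact card_le_of_stable hM hB hD hab hk hb hc hT
  obtain ⟨B', hB', hc', rfl⟩ := FR.exists_eq_indSet hb (hNT := le_blkStab b) le_rfl hB hc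
  obtain ⟨D, hD'⟩ := hB'.exists_isDefectGroup p
  have h1 := eq_of_defect hM hB hD (FR.isDefectGroup hM hb le_rfl hB' hc' hD')
  have h2 : Nat.card B' ≤ Nat.card (indSet _ B') := by
    refine Nat.card_le_card_of_injective (fun ψ => ⟨⟨_, FR.isIrr hb le_rfl hB' hc' ψ.2⟩,
      ψ, ψ.2, rfl⟩) fun ψ ψ' e => Subtype.ext ?_
    obtain ⟨η, hη, e1⟩ := hc'.exists_over_inclusion hB' hb ψ.2
    obtain ⟨η', hη', e2⟩ := hc'.exists_over_inclusion hB' hb ψ'.2
    have i1 := FR.isIrr hb le_rfl hB' hc' ψ.2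
    have i2 := FR.isIrr hb le_rfl hB' hc' ψ'.2
    refine FR.eq_of_over hb le_rfl hη hη' e1 e2 (χ := ⟨_, i1⟩)
      (over_indFun ψ.1.2.isCharacter i1) ?_
    have e3 := congrArg (fun c : indSet _ B' => (c.1 : G → ℂ)) e
    have := over_indFun ψ'.1.2.isCharacter i2
    exact e3 ▸ this
  have h3 : D = V.subgroupOf (blkStab _ b) :=
    (comap_map_eq_self_of_injective (subtype_injective _) D).symm.trans (congrArg _ h1)
  have : D.Normal := h3 ▸ inferInstance
  rw [← (card_subtype _ D).symm.trans (congrArg (fun X : Subgroup G => Nat.card X) h1)]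
  refine ih _ (by
    rw [← hn, ← card_top (G := G)]
    exact Tr.card_lt_of_lt (lt_top_iff_ne_top.2 hT)) _ rfl hB' hD' (fun x hx y hy => ?_)
    (h2.trans hk)
  rw [h3] at hx hy
  exact Subtype.ext (hab hx y hy)

end Cfsg.Agent.Blk.Three
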